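import Mathlib

/-!
# Local criterion of flatness: "flat modulo all powers + ideally separated ⇒ flat"

`Groth.Agent.Lib.Helper57.flat_of_flat_mod_powers`:
for a Noetherian ring `B`, an ideal `J` and a `B`-module `M` which is ideally separated for the
`J`-adic topology (`M ⊗[B] 𝔞` is `J`-adically Hausdorff for every ideal `𝔞`), if
`(B ⧸ J ^ n) ⊗[B] M` is flat over `B ⧸ J ^ n` for all `n > 0`, then `M` is flat over `B`.
(Matsumura, Commutative ring theory, Thm 22.3 (5) ⇒ (1).)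
-/

set_option autoImplicit false

namespace Groth.Agent.Lib.Helper57

open TensorProduct

/-- If `S ⊗[R] M` is `S`-flat, then `M ⊗[R] -` preserves injections of `S`-modules. -/
theorem lTensor_injective_of_flat_baseChange {R S : Type*} [CommRing R] [CommRing S] [Algebra R S]
    (M : Type*) [AddCommGroup M] [Module R M] [Module.Flat S (S ⊗[R] M)]
    {N N' : Type*} [AddCommGroup N] [AddCommGroup N'] [Module R N] [Module S N]
    [IsScalarTower R S N] [Module R N'] [Module S N'] [IsScalarTower R S N']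
    (f : N →ₗ[S] N') (hf : Function.Injective f) :
    Function.Injective (LinearMap.lTensor M (f.restrictScalars R)) := by
  let e : N ⊗[S] (S ⊗[R] M) ≃ₗ[R] M ⊗[R] N :=
    (AlgebraTensorModule.cancelBaseChange R S S N M).restrictScalars R ≪≫ₗ TensorProduct.comm R N M
  let e' : N' ⊗[S] (S ⊗[R] M) ≃ₗ[R] M ⊗[R] N' :=
    (AlgebraTensorModule.cancelBaseChange R S S N' M).restrictScalars R ≪≫ₗ
      TensorProduct.comm R N' M
  have hcomm : ∀ y, LinearMap.lTensor M (f.restrictScalars R) (e y) =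
      e' (LinearMap.rTensor (S ⊗[R] M) f y) := by
    intro y
    induction y using TensorProduct.induction_on with
    | zero => simp
    | add y₁ y₂ h₁ h₂ => simp only [map_add, h₁, h₂]
    | tmul n z =>
      induction z using TensorProduct.induction_on with
      | zero => simp
      | add z₁ z₂ h₁ h₂ => simp only [tmul_add, map_add, h₁, h₂]
      | tmul s m => simp [e, e']
  have hinj : Function.Injective (LinearMap.rTensor (S ⊗[R] M) f) :=
    Module.Flat.rTensor_preserves_injective_linearMap f hf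
  intro x y hxy
  obtain ⟨x', rfl⟩ := e.surjective x
  obtain ⟨y', rfl⟩ := e.surjective y
  rw [hcomm, hcomm] at hxy
  rw [hinj (e'.injective hxy)]

/-- Pure tensors `m ⊗ b` with `b ∈ I • 𝔞` lie in `I • (M ⊗ 𝔞)`. -/
theorem tmul_mem_smul_top {B : Type*} [CommRing B] (M : Type*) [AddCommGroup M] [Module B M]
    (I 𝔞 : Ideal B) (m : M) (b : B) (hb : b ∈ I • 𝔞) (hb' : b ∈ 𝔞) :
    (m ⊗ₜ[B] (⟨b, hb'⟩ : 𝔞)) ∈ (I • ⊤ : Submodule B (M ⊗[B] 𝔞)) := by
  have key : ∃ h : b ∈ 𝔞, (m ⊗ₜ[B] (⟨b, h⟩ : 𝔞)) ∈ (I • ⊤ : Submodule B (M ⊗[B] 𝔞)) := by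
    refine Submodule.smul_induction_on (p := fun b => ∃ h : b ∈ 𝔞,
      (m ⊗ₜ[B] (⟨b, h⟩ : 𝔞)) ∈ (I • ⊤ : Submodule B (M ⊗[B] 𝔞))) hb ?_ ?_
    · intro r hr a ha
      refine ⟨𝔞.smul_mem r ha, ?_⟩
      have : (m ⊗ₜ[B] (⟨r • a, 𝔞.smul_mem r ha⟩ : 𝔞)) = r • (m ⊗ₜ[B] (⟨a, ha⟩ : 𝔞)) := by
        rw [← TensorProduct.tmul_smul]; rfl
      rw [this]
      exact Submodule.smul_mem_smul hr Submodule.mem_top
    · rintro x y ⟨hx, hx'⟩ ⟨hy, hy'⟩
      refine ⟨𝔞.add_mem hx hy, ?_⟩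
      have : (m ⊗ₜ[B] (⟨x + y, 𝔞.add_mem hx hy⟩ : 𝔞)) =
          m ⊗ₜ[B] (⟨x, hx⟩ : 𝔞) + m ⊗ₜ[B] (⟨y, hy⟩ : 𝔞) := by
        rw [← TensorProduct.tmul_add]; rfl
      rw [this]
      exact add_mem hx' hy'
  obtain ⟨_, h⟩ := key
  exact h

/-- **Local criterion of flatness** (flat modulo all powers of `J` + ideally separated ⇒ flat). -/
theorem flat_of_flat_mod_powers {B : Type*} [CommRing B] [IsNoetherianRing B] (J : Ideal B)
    (M : Type*) [AddCommGroup M] [Module B M]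
    (hsep : ∀ 𝔞 : Ideal B, IsHausdorff J (M ⊗[B] 𝔞))
    (hflat : ∀ n : ℕ, 0 < n → Module.Flat (B ⧸ J ^ n) ((B ⧸ J ^ n) ⊗[B] M)) :
    Module.Flat B M := by
  classical
  rw [Module.Flat.iff_lTensor_injective]
  intro 𝔞 _
  rw [injective_iff_map_eq_zero]
  intro x hx
  apply (hsep 𝔞).haus' x
  intro n
  rw [SModEq.zero]
  -- Artin–Rees
  obtain ⟨k, hk⟩ := Ideal.exists_pow_inf_eq_pow_smul (M := B) J 𝔞
  set K := n + k + 1 with hK
  have hKpos : 0 < K := by omega
  have hAR : ∀ a : B, a ∈ 𝔞 → a ∈ J ^ K → a ∈ J ^ n • 𝔞 := by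
    intro a ha haK
    have h1 : a ∈ (J ^ K • ⊤ ⊓ 𝔞 : Submodule B B) := by
      refine ⟨?_, ha⟩
      rw [smul_eq_mul, Ideal.mul_top]
      exact haK
    rw [hk K (by omega)] at h1
    have h2 : (J ^ (K - k) • (J ^ k • ⊤ ⊓ 𝔞) : Submodule B B) ≤ J ^ n • 𝔞 := by
      refine Submodule.smul_mono ?_ inf_le_right
      exact Ideal.pow_le_pow_right (by omega)
    exact h2 h1
  haveI := hflat K hKpos
  -- the image of `𝔞` in `B ⧸ J ^ K`
  let N : Ideal (B ⧸ J ^ K) := 𝔞.map (Ideal.Quotient.mk (J ^ K))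
  let φ : 𝔞 →ₗ[B] N :=
    { toFun := fun a => ⟨Ideal.Quotient.mk (J ^ K) a.1, Ideal.mem_map_of_mem _ a.2⟩
      map_add' := fun a b => by apply Subtype.ext; simp
      map_smul' := fun r a => by
        apply Subtype.ext
        simp [Algebra.smul_def] }
  have hφsurj : Function.Surjective φ := by
    rintro ⟨y, hy⟩
    obtain ⟨a, ha, rfl⟩ := (Ideal.mem_map_iff_of_surjective _ Ideal.Quotient.mk_surjective).mp hy
    exact ⟨⟨a, ha⟩, rfl⟩
  have hφker : ∀ a : 𝔞, φ a = 0 → (a : B) ∈ J ^ K := by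
    intro a ha
    have : Ideal.Quotient.mk (J ^ K) a.1 = 0 := congrArg Subtype.val ha
    exact Ideal.Quotient.eq_zero_iff_mem.mp this
  let ι : N →ₗ[B ⧸ J ^ K] (B ⧸ J ^ K) := N.subtype
  have hιinj : Function.Injective (LinearMap.lTensor M (ι.restrictScalars B)) :=
    lTensor_injective_of_flat_baseChange M ι Subtype.val_injective
  have hsq : (ι.restrictScalars B) ∘ₗ φ = (Algebra.linearMap B (B ⧸ J ^ K)) ∘ₗ 𝔞.subtype := by
    ext a
    rfl
  have hzero : LinearMap.lTensor M φ x = 0 := by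
    apply hιinj
    rw [map_zero, ← LinearMap.comp_apply, ← LinearMap.lTensor_comp, hsq, LinearMap.lTensor_comp,
      LinearMap.comp_apply, hx, map_zero]
  have hex := lTensor_exact M (LinearMap.exact_subtype_ker_map φ) hφsurj
  obtain ⟨y, rfl⟩ := (hex x).mp hzero
  clear hx hzero
  induction y using TensorProduct.induction_on with
  | zero => rw [map_zero]; exact zero_mem _
  | add y₁ y₂ h₁ h₂ => rw [map_add]; exact add_mem h₁ h₂
  | tmul m a =>
    obtain ⟨⟨a, ha⟩, hak⟩ := a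
    have hak' : φ ⟨a, ha⟩ = 0 := hak
    have h3 := hAR a ha (hφker ⟨a, ha⟩ hak')
    exact tmul_mem_smul_top M (J ^ n) 𝔞 m a h3 ha

end Groth.Agent.Lib.Helper57
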