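import Mathlib

/-!
# Splitting acyclic bounded-below complexes of projective modules

For `ℕ`-indexed chain complexes of modules: an acyclic complex `Q` with projective terms is
contractible, and any degreewise surjective chain map `p : A ⟶ Q` has a chain-map section.
-/

set_option autoImplicit false
universe v u

open CategoryTheory

namespace Groth.Agent.Lib.Helper57.ChainSplit

variable {R : Type u} [Ring R]

/-- lifting along a map whose range contains the range of the map to be lifted. -/
theorem exists_lift_of_range_le {P M N : Type*} [AddCommGroup P] [Module R P]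
    [AddCommGroup M] [Module R M] [AddCommGroup N] [Module R N] [Module.Projective R P]
    (f : M →ₗ[R] N) (g : P →ₗ[R] N) (hle : LinearMap.range g ≤ LinearMap.range f) :
    ∃ h : P →ₗ[R] M, f ∘ₗ h = g := by
  let f' : M →ₗ[R] LinearMap.range f := f.rangeRestrict
  let g' : P →ₗ[R] LinearMap.range f :=
    g.codRestrict (LinearMap.range f) (fun x => hle ⟨x, rfl⟩)
  obtain ⟨h, hh⟩ := Module.projective_lifting_property f' g' f.surjective_rangeRestrict
  refine ⟨h, ?_⟩
  ext x
  have := congrArg Subtype.val (LinearMap.congr_fun hh x)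
  exact this

variable (K : ChainComplex (ModuleCat.{v} R) ℕ)

/-- elementwise form of acyclicity. -/
theorem exists_of_acyclic (hK : K.Acyclic) (q : ℕ) (z : K.X q)
    (hz : ∀ j, (K.d q j).hom z = 0) : ∃ w : K.X (q + 1), (K.d (q + 1) q).hom w = z := by
  have h1 := hK q
  rw [HomologicalComplex.exactAt_iff' K (q + 1) q ((ComplexShape.down ℕ).next q)
    (ChainComplex.prev ℕ q) rfl, ShortComplex.moduleCat_exact_iff] at h1
  exact h1 z (hz _)

/-- the contraction data of an acyclic complex of projectives, as a recursive choice. -/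
theorem exists_contraction_zero (hK : K.Acyclic) [Module.Projective R (K.X 0)] :
    ∃ s : K.X 0 →ₗ[R] K.X 1, ∀ x, (K.d 1 0).hom (s x) = x := by
  obtain ⟨s, hs⟩ := exists_lift_of_range_le (K.d 1 0).hom (LinearMap.id : K.X 0 →ₗ[R] K.X 0) (by
    rintro z -
    obtain ⟨w, hw⟩ := exists_of_acyclic K hK 0 z (by
      intro j
      rw [K.shape 0 j (by simp)]
      rfl)
    exact ⟨w, hw⟩)
  exact ⟨s, fun x => LinearMap.congr_fun hs x⟩

theorem exists_contraction_succ (hK : K.Acyclic) (q : ℕ) [Module.Projective R (K.X (q + 1))]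
    (s : K.X q →ₗ[R] K.X (q + 1))
    (hs : ∀ z : K.X q, (∀ j, (K.d q j).hom z = 0) → (K.d (q + 1) q).hom (s z) = z) :
    ∃ s' : K.X (q + 1) →ₗ[R] K.X (q + 2),
      ∀ x, (K.d (q + 2) (q + 1)).hom (s' x) = x - s ((K.d (q + 1) q).hom x) := by
  obtain ⟨s', hs'⟩ := exists_lift_of_range_le (K.d (q + 2) (q + 1)).hom
    (LinearMap.id - s ∘ₗ (K.d (q + 1) q).hom : K.X (q + 1) →ₗ[R] K.X (q + 1)) (by
    rintro _ ⟨x, rfl⟩
    obtain ⟨w, hw⟩ := exists_of_acyclic K hK (q + 1) (x - s ((K.d (q + 1) q).hom x)) (by
      intro j
      by_cases hj : j = q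
      · subst hj
        rw [map_sub, hs, sub_self]
        intro j'
        have h2 : (K.d (j + 1) j ≫ K.d j j').hom x = (0 : K.X (j + 1) ⟶ K.X j').hom x := by
          rw [K.d_comp_d (j + 1) j j']
        exact h2
      · rw [K.shape (q + 1) j (by simpa using fun h => hj h)]
        rfl)
    exact ⟨w, hw⟩)
  exact ⟨s', fun x => LinearMap.congr_fun hs' x⟩

/-- one step of a contraction: a map `s` splitting `d` on cycles. -/
def Step (q : ℕ) : Type v :=
  {s : K.X q →ₗ[R] K.X (q + 1) //
    ∀ z : K.X q, (∀ j, (K.d q j).hom z = 0) → (K.d (q + 1) q).hom (s z) = z}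

/-- the contraction of an acyclic complex of projectives (recursive choice). -/
noncomputable def contr (hK : K.Acyclic) [∀ q, Module.Projective R (K.X q)] : ∀ q, Step K q
  | 0 => ⟨(exists_contraction_zero K hK).choose,
      fun z _ => (exists_contraction_zero K hK).choose_spec z⟩
  | q + 1 => ⟨(exists_contraction_succ K hK q (contr hK q).1 (contr hK q).2).choose, fun z hz => by
      rw [(exists_contraction_succ K hK q (contr hK q).1 (contr hK q).2).choose_spec z, hz q,
        map_zero, sub_zero]⟩

theorem contr_zero (hK : K.Acyclic) [∀ q, Module.Projective R (K.X q)] (x : K.X 0) :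
    (K.d 1 0).hom ((contr K hK 0).1 x) = x :=
  (exists_contraction_zero K hK).choose_spec x

theorem contr_succ (hK : K.Acyclic) [∀ q, Module.Projective R (K.X q)] (q : ℕ) (x : K.X (q + 1)) :
    (K.d (q + 2) (q + 1)).hom ((contr K hK (q + 1)).1 x) =
      x - (contr K hK q).1 ((K.d (q + 1) q).hom x) :=
  (exists_contraction_succ K hK q (contr K hK q).1 (contr K hK q).2).choose_spec x

theorem d_d_apply (i j k : ℕ) (x : K.X i) : (K.d j k).hom ((K.d i j).hom x) = 0 := by
  have h2 : (K.d i j ≫ K.d j k).hom x = (0 : K.X i ⟶ K.X k).hom x := by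
    rw [K.d_comp_d i j k]
  exact h2

variable {K}

theorem comm_apply {L : ChainComplex (ModuleCat.{v} R) ℕ} (φ : K ⟶ L) (i j : ℕ) (x : K.X i) :
    (φ.f j).hom ((K.d i j).hom x) = (L.d i j).hom ((φ.f i).hom x) := by
  have h2 : (K.d i j ≫ φ.f j).hom x = (φ.f i ≫ L.d i j).hom x := by
    rw [φ.comm i j]
  exact h2

variable (K)

/-- An acyclic `ℕ`-indexed chain complex of projective modules is contractible. -/
noncomputable def contractionHomotopy (hK : K.Acyclic) [∀ q, Module.Projective R (K.X q)] :
    Homotopy (𝟙 K) 0 where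
  hom i j := if h : i + 1 = j then ModuleCat.ofHom (contr K hK i).1 ≫ eqToHom (by rw [h]) else 0
  zero i j hij := by
    rw [dif_neg]
    exact hij
  comm i := by
    rw [Homotopy.prevD_chainComplex]
    cases i with
    | zero =>
      rw [Homotopy.dNext_zero_chainComplex]
      ext x
      simp only [dif_pos, eqToHom_refl, Category.comp_id, zero_add, HomologicalComplex.id_f,
        HomologicalComplex.zero_f, add_zero]
      exact (contr_zero K hK x).symm
    | succ q =>
      rw [Homotopy.dNext_succ_chainComplex]
      ext x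
      simp only [dif_pos, eqToHom_refl, Category.comp_id, HomologicalComplex.id_f,
        HomologicalComplex.zero_f, add_zero]
      have := contr_succ K hK q x
      show x = (contr K hK q).1 ((K.d (q + 1) q).hom x) +
        (K.d (q + 2) (q + 1)).hom ((contr K hK (q + 1)).1 x)
      rw [this]
      abel

section Section

variable {K} {A : ChainComplex (ModuleCat.{v} R) ℕ} (p : A ⟶ K)
  (hp : ∀ q, Function.Surjective (p.f q).hom) (hK : K.Acyclic) [∀ q, Module.Projective R (K.X q)]

/-- degreewise linear sections of `p`. -/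
noncomputable def sigma (q : ℕ) : K.X q →ₗ[R] A.X q :=
  (Module.projective_lifting_property (p.f q).hom LinearMap.id (hp q)).choose

theorem p_sigma (q : ℕ) (x : K.X q) : (p.f q).hom (sigma p hp q x) = x :=
  LinearMap.congr_fun
    (Module.projective_lifting_property (p.f q).hom LinearMap.id (hp q)).choose_spec x

/-- the components of the chain-map section. -/
noncomputable def secLin : ∀ q, K.X q →ₗ[R] A.X q
  | 0 => (A.d 1 0).hom ∘ₗ sigma p hp 1 ∘ₗ (contr K hK 0).1
  | q + 1 => (A.d (q + 2) (q + 1)).hom ∘ₗ sigma p hp (q + 2) ∘ₗ (contr K hK (q + 1)).1 +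
      sigma p hp (q + 1) ∘ₗ (contr K hK q).1 ∘ₗ (K.d (q + 1) q).hom

/-- the chain-map section of a degreewise surjective chain map onto an acyclic complex of
projectives. -/
noncomputable def sec : K ⟶ A where
  f q := ModuleCat.ofHom (secLin p hp hK q)
  comm' i j hij := by
    obtain rfl : j + 1 = i := hij
    ext x
    show (A.d (j + 1) j).hom (secLin p hp hK (j + 1) x) =
      secLin p hp hK j ((K.d (j + 1) j).hom x)
    cases j with
    | zero =>
      simp only [secLin, LinearMap.add_apply, LinearMap.comp_apply, map_add, d_d_apply, zero_add]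
    | succ j =>
      simp only [secLin, LinearMap.add_apply, LinearMap.comp_apply, map_add, d_d_apply, zero_add,
        map_zero, add_zero]

theorem sec_comp : sec p hp hK ≫ p = 𝟙 K := by
  ext q x
  show (p.f q).hom (secLin p hp hK q x) = x
  cases q with
  | zero =>
    simp only [secLin, LinearMap.comp_apply]
    rw [comm_apply, p_sigma, contr_zero]
  | succ q =>
    simp only [secLin, LinearMap.add_apply, LinearMap.comp_apply, map_add]
    rw [comm_apply, p_sigma, p_sigma, contr_succ]
    abel

end Section

/-- In a short exact sequence of `ℕ`-indexed chain complexes of modules whose first map is a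
quasi-isomorphism and whose third term consists of projective modules, the third term is
contractible and the second map has a chain-map section. -/
theorem exists_section_of_shortExact (S : ShortComplex (ChainComplex (ModuleCat.{v} R) ℕ))
    (hS : S.ShortExact) (hqi : QuasiIso S.f) [∀ q, Module.Projective R (S.X₃.X q)] :
    ∃ h : S.X₃ ⟶ S.X₂, h ≫ S.g = 𝟙 S.X₃ ∧ Nonempty (Homotopy (𝟙 S.X₃) 0) := by
  have hacyc : S.X₃.Acyclic := hS.acyclic_X₃ hqi
  have hp : ∀ q, Function.Surjective (S.g.f q).hom := fun q =>
    ((HomologicalComplex.shortExact_iff_degreewise_shortExact S).mp hS q).moduleCat_surjective_g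
  exact ⟨sec S.g hp hacyc, sec_comp S.g hp hacyc, ⟨contractionHomotopy S.X₃ hacyc⟩⟩

open Limits in
/-- A degreewise injective quasi-isomorphism `f : A' ⟶ A` of `ℕ`-indexed chain complexes of
modules with projective degreewise quotients: the quotient complex `Q` is contractible and the
projection `p : A ⟶ Q` has a chain-map section `h`. -/
theorem exists_quotient_section {A' A : ChainComplex (ModuleCat.{v} R) ℕ} (f : A' ⟶ A)
    (hf : ∀ q, Function.Injective (f.f q).hom)
    (hq : ∀ q, Module.Projective R ((A.X q) ⧸ LinearMap.range (f.f q).hom)) (hqi : QuasiIso f) :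
    ∃ (Q : ChainComplex (ModuleCat.{v} R) ℕ) (p : A ⟶ Q) (h : Q ⟶ A),
      f ≫ p = 0 ∧ h ≫ p = 𝟙 Q ∧ (∀ q, Function.Exact (f.f q).hom (p.f q).hom) ∧
        Nonempty (Homotopy (𝟙 Q) 0) := by
  let S : ShortComplex (ChainComplex (ModuleCat.{v} R) ℕ) :=
    ShortComplex.mk f (cokernel.π f) (cokernel.condition f)
  have hmono : Mono f :=
    HomologicalComplex.mono_of_mono_f f (fun i => (ModuleCat.mono_iff_injective _).mpr (hf i))
  have hS : S.ShortExact :=
    ShortComplex.ShortExact.mk' (S.exact_of_g_is_cokernel (cokernelIsCokernel f)) hmono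
      (inferInstanceAs (Epi (cokernel.π f)))
  have hSq := (HomologicalComplex.shortExact_iff_degreewise_shortExact S).mp hS
  have hp : ∀ q, Function.Surjective (S.g.f q).hom := fun q => (hSq q).moduleCat_surjective_g
  have hex : ∀ q, Function.Exact (f.f q).hom (S.g.f q).hom := fun q =>
    (ShortComplex.ShortExact.moduleCat_exact_iff_function_exact _).mp (hSq q).exact
  have : ∀ q, Module.Projective R (S.X₃.X q) := by
    intro q
    have hker : LinearMap.range (f.f q).hom = LinearMap.ker (S.g.f q).hom :=
      ((LinearMap.exact_iff).mp (hex q)).symm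
    let e : ((A.X q) ⧸ LinearMap.range (f.f q).hom) ≃ₗ[R] S.X₃.X q :=
      (Submodule.quotEquivOfEq _ _ hker).trans ((S.g.f q).hom.quotKerEquivOfSurjective (hp q))
    have := hq q
    exact Module.Projective.of_equiv e
  obtain ⟨h, hh, hc⟩ := exists_section_of_shortExact S hS hqi
  exact ⟨S.X₃, S.g, h, S.zero, hh, hex, hc⟩

/-- factoring through an injective map. -/
theorem exists_factor_of_injective {P M N : Type*} [AddCommGroup P] [Module R P]
    [AddCommGroup M] [Module R M] [AddCommGroup N] [Module R N]
    (f : M →ₗ[R] N) (hf : Function.Injective f) (g : P →ₗ[R] N)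
    (hle : LinearMap.range g ≤ LinearMap.range f) :
    ∃ h : P →ₗ[R] M, f ∘ₗ h = g := by
  let e := LinearEquiv.ofInjective f hf
  refine ⟨e.symm.toLinearMap ∘ₗ g.codRestrict (LinearMap.range f) (fun x => hle ⟨x, rfl⟩), ?_⟩
  ext x
  show f (e.symm (g.codRestrict (LinearMap.range f) (fun x => hle ⟨x, rfl⟩) x)) = g x
  have : (e (e.symm (g.codRestrict (LinearMap.range f) (fun x => hle ⟨x, rfl⟩) x)) : N) = g x := by
    rw [LinearEquiv.apply_symm_apply]; rfl
  exact this

end Groth.Agent.Lib.Helper57.ChainSplit
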