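import Mathlib

/-!
# Finite type lifts along a surjection with finitely generated nilpotent kernel

`Groth.Agent.Lib.Helper57.finiteType_of_comp_of_surjective_of_fg_of_isNilpotent`:
for ring maps `φ : A → B`, `π : B → C` with `π` surjective, `ker π` finitely generated and
nilpotent, if `π ∘ φ` is of finite type then so is `φ`.
-/

set_option autoImplicit false

namespace Groth.Agent.Lib.Helper57

/-- A subalgebra `Cs` of `B` which surjects onto `C` under `π : B → C` and contains a generating
set of the nilpotent ideal `ker π` is everything. -/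
theorem subalgebra_eq_top_of_isNilpotent_ker
    {A B C : Type*} [CommRing A] [CommRing B] [CommRing C] [Algebra A B]
    (π : B →+* C) (Cs : Subalgebra A B) (himg : ∀ c : C, ∃ b ∈ Cs, π b = c)
    (g : Set B) (hg : Ideal.span g = RingHom.ker π) (hgCs : ∀ x ∈ g, x ∈ Cs)
    (hnil : IsNilpotent (RingHom.ker π)) : Cs = ⊤ := by
  classical
  set J := RingHom.ker π with hJ
  have hgJ : ∀ x ∈ g, x ∈ J := fun x hx => by
    rw [← hg]; exact Ideal.subset_span hx
  have claim : ∀ n : ℕ, ∀ x ∈ J ^ n, ∃ c ∈ Cs, c ∈ J ^ n ∧ x - c ∈ J ^ (n + 1) := by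
    intro n
    induction n with
    | zero =>
      intro x _
      obtain ⟨b, hb, hbx⟩ := himg (π x)
      refine ⟨b, hb, by simp, ?_⟩
      rw [zero_add, pow_one, hJ, RingHom.mem_ker, map_sub, hbx, sub_self]
    | succ n ih =>
      have hadd : ∀ x y : B, (∃ c ∈ Cs, c ∈ J ^ (n + 1) ∧ x - c ∈ J ^ (n + 1 + 1)) →
          (∃ c ∈ Cs, c ∈ J ^ (n + 1) ∧ y - c ∈ J ^ (n + 1 + 1)) →
          ∃ c ∈ Cs, c ∈ J ^ (n + 1) ∧ (x + y) - c ∈ J ^ (n + 1 + 1) := by
        rintro x y ⟨c, hc, hcJ, hxc⟩ ⟨c', hc', hcJ', hyc⟩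
        refine ⟨c + c', Cs.add_mem hc hc', Ideal.add_mem _ hcJ hcJ', ?_⟩
        have : x + y - (c + c') = (x - c) + (y - c') := by ring
        rw [this]
        exact Ideal.add_mem _ hxc hyc
      have hQ : ∀ z ∈ J, ∀ y ∈ J ^ n,
          ∃ c ∈ Cs, c ∈ J ^ (n + 1) ∧ y * z - c ∈ J ^ (n + 1 + 1) := by
        intro z hz
        rw [← hg] at hz
        induction hz using Submodule.span_induction with
        | mem z hz =>
          intro y hy
          obtain ⟨c, hc, hcJ, hyc⟩ := ih y hy
          refine ⟨c * z, Cs.mul_mem hc (hgCs z hz), ?_, ?_⟩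
          · rw [pow_succ]; exact Ideal.mul_mem_mul hcJ (hgJ z hz)
          · have : y * z - c * z = (y - c) * z := by ring
            rw [this, pow_succ (J) (n + 1)]
            exact Ideal.mul_mem_mul hyc (hgJ z hz)
        | zero =>
          intro y _
          exact ⟨0, Cs.zero_mem, Ideal.zero_mem _, by simp⟩
        | add z₁ z₂ _ _ h₁ h₂ =>
          intro y hy
          rw [mul_add]
          exact hadd _ _ (h₁ y hy) (h₂ y hy)
        | smul b z _ hz' =>
          intro y hy
          have : y * (b • z) = (y * b) * z := by rw [smul_eq_mul]; ring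
          rw [this]
          exact hz' (y * b) (Ideal.mul_mem_right _ _ hy)
      intro x hx
      rw [pow_succ] at hx
      refine Submodule.mul_induction_on hx ?_ ?_
      · intro y hy z hz
        exact hQ z hz y hy
      · intro x y hx hy
        exact hadd x y hx hy
  have approx : ∀ n : ℕ, ∀ x : B, ∃ c ∈ Cs, x - c ∈ J ^ n := by
    intro n
    induction n with
    | zero => intro x; exact ⟨0, Cs.zero_mem, by simp⟩
    | succ n ih =>
      intro x
      obtain ⟨c, hc, hxc⟩ := ih x
      obtain ⟨c', hc', _, hr⟩ := claim n (x - c) hxc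
      refine ⟨c + c', Cs.add_mem hc hc', ?_⟩
      have : x - (c + c') = x - c - c' := by ring
      rw [this]
      exact hr
  obtain ⟨N, hN⟩ := hnil
  rw [eq_top_iff]
  intro x _
  obtain ⟨c, hc, hxc⟩ := approx N x
  rw [hN] at hxc
  have hxc' : x - c = 0 := by simpa using hxc
  have : x = c := sub_eq_zero.mp hxc'
  rw [this]
  exact hc


theorem finiteType_of_comp_of_surjective_of_fg_of_isNilpotent
    {A B C : Type*} [CommRing A] [CommRing B] [CommRing C]
    (φ : A →+* B) (π : B →+* C) (hπ : Function.Surjective π)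
    (hfg : (RingHom.ker π).FG) (hnil : IsNilpotent (RingHom.ker π))
    (h : (π.comp φ).FiniteType) : φ.FiniteType := by
  classical
  algebraize [φ, π.comp φ]
  set J := RingHom.ker π with hJ
  obtain ⟨s, hs⟩ := (inferInstance : Algebra.FiniteType A C).out
  obtain ⟨g, hg⟩ := hfg
  choose t ht using fun c : C => hπ c
  let S' : Finset B := s.image t ∪ g
  let Cs : Subalgebra A B := Algebra.adjoin A (S' : Set B)
  suffices hC : Cs = ⊤ from ⟨⟨S', hC⟩⟩
  have hπalg : ∀ a : A, π (algebraMap A B a) = algebraMap A C a := fun a => rfl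
  -- every element of `C` is the image of an element of `Cs`
  have himg : ∀ c : C, ∃ b ∈ Cs, π b = c := by
    intro c
    have hc : c ∈ Algebra.adjoin A (s : Set C) := by rw [hs]; trivial
    induction hc using Algebra.adjoin_induction with
    | mem x hx =>
      refine ⟨t x, Algebra.subset_adjoin ?_, ht x⟩
      exact Finset.mem_coe.mpr (Finset.mem_union_left _ (Finset.mem_image_of_mem t hx))
    | algebraMap r => exact ⟨algebraMap A B r, Cs.algebraMap_mem r, hπalg r⟩
    | add x y _ _ hx hy =>
      obtain ⟨c, hc, rfl⟩ := hx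
      obtain ⟨c', hc', rfl⟩ := hy
      exact ⟨c + c', Cs.add_mem hc hc', map_add _ _ _⟩
    | mul x y _ _ hx hy =>
      obtain ⟨c, hc, rfl⟩ := hx
      obtain ⟨c', hc', rfl⟩ := hy
      exact ⟨c * c', Cs.mul_mem hc hc', map_mul _ _ _⟩
  have hgCs : ∀ x ∈ g, x ∈ Cs := fun x hx =>
    Algebra.subset_adjoin (Finset.mem_coe.mpr (Finset.mem_union_right _ hx))
  have hgJ : ∀ x ∈ g, x ∈ J := fun x hx => by
    rw [← hg]; exact Ideal.subset_span hx
  -- key claim
  have claim : ∀ n : ℕ, ∀ x ∈ J ^ n, ∃ c ∈ Cs, c ∈ J ^ n ∧ x - c ∈ J ^ (n + 1) := by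
    intro n
    induction n with
    | zero =>
      intro x _
      obtain ⟨b, hb, hbx⟩ := himg (π x)
      refine ⟨b, hb, by simp, ?_⟩
      rw [zero_add, pow_one, hJ, RingHom.mem_ker, map_sub, hbx, sub_self]
    | succ n ih =>
      -- closure under addition of the conclusion
      have hadd : ∀ x y : B, (∃ c ∈ Cs, c ∈ J ^ (n + 1) ∧ x - c ∈ J ^ (n + 1 + 1)) →
          (∃ c ∈ Cs, c ∈ J ^ (n + 1) ∧ y - c ∈ J ^ (n + 1 + 1)) →
          ∃ c ∈ Cs, c ∈ J ^ (n + 1) ∧ (x + y) - c ∈ J ^ (n + 1 + 1) := by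
        rintro x y ⟨c, hc, hcJ, hxc⟩ ⟨c', hc', hcJ', hyc⟩
        refine ⟨c + c', Cs.add_mem hc hc', Ideal.add_mem _ hcJ hcJ', ?_⟩
        have : x + y - (c + c') = (x - c) + (y - c') := by ring
        rw [this]
        exact Ideal.add_mem _ hxc hyc
      have hQ : ∀ z ∈ J, ∀ y ∈ J ^ n,
          ∃ c ∈ Cs, c ∈ J ^ (n + 1) ∧ y * z - c ∈ J ^ (n + 1 + 1) := by
        intro z hz
        rw [← hg] at hz
        induction hz using Submodule.span_induction with
        | mem z hz =>
          intro y hy
          obtain ⟨c, hc, hcJ, hyc⟩ := ih y hy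
          refine ⟨c * z, Cs.mul_mem hc (hgCs z hz), ?_, ?_⟩
          · rw [pow_succ]; exact Ideal.mul_mem_mul hcJ (hgJ z hz)
          · have : y * z - c * z = (y - c) * z := by ring
            rw [this, pow_succ (J) (n + 1)]
            exact Ideal.mul_mem_mul hyc (hgJ z hz)
        | zero =>
          intro y _
          exact ⟨0, Cs.zero_mem, Ideal.zero_mem _, by simp⟩
        | add z₁ z₂ _ _ h₁ h₂ =>
          intro y hy
          rw [mul_add]
          exact hadd _ _ (h₁ y hy) (h₂ y hy)
        | smul b z _ hz' =>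
          intro y hy
          have : y * (b • z) = (y * b) * z := by rw [smul_eq_mul]; ring
          rw [this]
          exact hz' (y * b) (Ideal.mul_mem_right _ _ hy)
      intro x hx
      rw [pow_succ] at hx
      refine Submodule.mul_induction_on hx ?_ ?_
      · intro y hy z hz
        exact hQ z hz y hy
      · intro x y hx hy
        exact hadd x y hx hy
  have approx : ∀ n : ℕ, ∀ x : B, ∃ c ∈ Cs, x - c ∈ J ^ n := by
    intro n
    induction n with
    | zero => intro x; exact ⟨0, Cs.zero_mem, by simp⟩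
    | succ n ih =>
      intro x
      obtain ⟨c, hc, hxc⟩ := ih x
      obtain ⟨c', hc', _, hr⟩ := claim n (x - c) hxc
      refine ⟨c + c', Cs.add_mem hc hc', ?_⟩
      have : x - (c + c') = x - c - c' := by ring
      rw [this]
      exact hr
  obtain ⟨N, hN⟩ := hnil
  rw [eq_top_iff]
  intro x _
  obtain ⟨c, hc, hxc⟩ := approx N x
  rw [hN] at hxc
  have hxc' : x - c = 0 := by simpa using hxc
  have : x = c := sub_eq_zero.mp hxc'
  rw [this]
  exact hc

end Groth.Agent.Lib.Helper57
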