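import Mathlib

/-!
# Comparison lemmas for (pure) coresolutions

Dual of `Lib/Helper57/PureRes.lean`: cochain complexes, abstract extension property in place of
injectivity of the target terms; universally exact coresolutions give universally injective
maps `coker(d^{n-1}) → M^{n+1}`.
-/

set_option autoImplicit false
universe u

open CategoryTheory CategoryTheory.Limits Category

namespace Helper57.PureCores

section General
universe v' u'
variable {C : Type u'} [Category.{v'} C] [Abelian C] {Y Z : C}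

/-- `J` has the extension property against the short complex `S`. -/
def ExtendsAgainst (S : ShortComplex C) (J : C) : Prop :=
  ∀ φ : S.X₂ ⟶ J, S.f ≫ φ = 0 → ∃ ψ : S.X₃ ⟶ J, S.g ≫ ψ = φ

variable (f : Y ⟶ Z) (P Q : CochainComplex C ℕ)
  (ηP : (CochainComplex.single₀ C).obj Y ⟶ P) (εQ : (CochainComplex.single₀ C).obj Z ⟶ Q)

lemma coaug_zero : ηP.f 0 ≫ P.d 0 1 = 0 := by
  rw [ηP.comm 0 1, HomologicalComplex.single_obj_d, zero_comp]

variable (h0 : ∀ φ : ((CochainComplex.single₀ C).obj Y).X 0 ⟶ Q.X 0, ∃ ψ : P.X 0 ⟶ Q.X 0, ηP.f 0 ≫ ψ = φ)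
  (h1 : ∀ n, ExtendsAgainst (ShortComplex.mk (ηP.f 0) (P.d 0 1) (coaug_zero P ηP)) (Q.X n))
  (h2 : ∀ n m, ExtendsAgainst (ShortComplex.mk _ _ (P.d_comp_d m (m + 1) (m + 2))) (Q.X n))

include h0 h1 h2 in
lemma exists_desc : ∃ φ : P ⟶ Q, ηP ≫ φ = (CochainComplex.single₀ C).map f ≫ εQ := by
  classical
  have hQzero : εQ.f 0 ≫ Q.d 0 1 = 0 := coaug_zero Q εQ
  obtain ⟨z, hz⟩ := h0 (((CochainComplex.single₀ C).map f).f 0 ≫ εQ.f 0)
  have hh1 : ηP.f 0 ≫ (z ≫ Q.d 0 1) = 0 := by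
    rw [← assoc, hz, assoc, hQzero, comp_zero]
  obtain ⟨o, ho⟩ := h1 1 (z ≫ Q.d 0 1) hh1
  have ho' : z ≫ Q.d 0 1 = P.d 0 1 ≫ o := ho.symm
  have key : ∀ (n : ℕ) (g : P.X n ⟶ Q.X n) (g' : P.X (n + 1) ⟶ Q.X (n + 1))
      (_ : g ≫ Q.d n (n + 1) = P.d n (n + 1) ≫ g'),
      ∃ g'' : P.X (n + 2) ⟶ Q.X (n + 2), g' ≫ Q.d (n + 1) (n + 2) = P.d (n + 1) (n + 2) ≫ g'' := by
    intro n g g' w
    obtain ⟨g'', hg''⟩ := h2 (n + 2) n (g' ≫ Q.d (n + 1) (n + 2)) (by
      change P.d n (n + 1) ≫ g' ≫ Q.d (n + 1) (n + 2) = 0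
      rw [← assoc, ← w, assoc, Q.d_comp_d, comp_zero])
    exact ⟨g'', hg''.symm⟩
  let φ : P ⟶ Q := CochainComplex.mkHom _ _ z o ho'
    fun n ⟨g, g', w⟩ => ⟨(key n g g' w).choose, (key n g g' w).choose_spec⟩
  refine ⟨φ, ?_⟩
  apply HomologicalComplex.from_single_hom_ext (j := 0)
  simp only [HomologicalComplex.comp_f]
  have : φ.f 0 = z := CochainComplex.mkHom_f_0 _ _ _ _ _ _
  rw [this, hz]

include h1 h2 in
lemma homotopy_zero (φ : P ⟶ Q) (comm : ηP ≫ φ = 0) : Nonempty (Homotopy φ 0) := by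
  classical
  have c0 : ηP.f 0 ≫ φ.f 0 = 0 := congr_fun (congr_arg HomologicalComplex.Hom.f comm) 0
  obtain ⟨zz, hzz⟩ := h1 0 (φ.f 0) c0
  have hzz' : P.d 0 1 ≫ zz = φ.f 0 := hzz
  have hh1 : P.d 0 1 ≫ (φ.f 1 - zz ≫ Q.d 0 1) = 0 := by
    rw [Preadditive.comp_sub, ← assoc, hzz', HomologicalComplex.Hom.comm, sub_self]
  obtain ⟨zo, hzo⟩ := h2 1 0 (φ.f 1 - zz ≫ Q.d 0 1) hh1
  have hzo' : P.d 1 2 ≫ zo = φ.f 1 - zz ≫ Q.d 0 1 := hzo
  have key : ∀ (n : ℕ) (g : P.X (n + 1) ⟶ Q.X n) (g' : P.X (n + 2) ⟶ Q.X (n + 1))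
      (_ : φ.f (n + 1) = g ≫ Q.d n (n + 1) + P.d (n + 1) (n + 2) ≫ g'),
      ∃ g'' : P.X (n + 3) ⟶ Q.X (n + 2),
        P.d (n + 2) (n + 3) ≫ g'' = φ.f (n + 2) - g' ≫ Q.d (n + 1) (n + 2) := by
    intro n g g' w
    exact h2 (n + 2) (n + 1) (φ.f (n + 2) - g' ≫ Q.d _ _) (by
      change P.d (n + 1) (n + 2) ≫ (φ.f (n + 2) - g' ≫ Q.d (n + 1) (n + 2)) = 0
      rw [Preadditive.comp_sub, ← HomologicalComplex.Hom.comm, w, Preadditive.add_comp,
        Category.assoc, Category.assoc, HomologicalComplex.d_comp_d, comp_zero,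
        zero_add, sub_self])
  exact ⟨Homotopy.mkCoinductive _ zz hzz'.symm zo (by rw [hzo']; abel)
    fun n ⟨g, g', w⟩ => ⟨(key n g g' w).choose, by rw [(key n g g' w).choose_spec]; abel⟩⟩

end General

section LinAlg
open TensorProduct
variable {R : Type u} [CommRing R] {A' A B : Type u} [AddCommGroup A'] [Module R A']
  [AddCommGroup A] [Module R A] [AddCommGroup B] [Module R B]

/-- if `A' ⊗ Q → A ⊗ Q → B ⊗ Q` is exact at `A ⊗ Q`, then `(A / im e) ⊗ Q → B ⊗ Q` is injective. -/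
lemma injective_rTensor_liftQ (e : A' →ₗ[R] A) (f : A →ₗ[R] B)
    (hfe : LinearMap.range e ≤ LinearMap.ker f)
    (Q : Type u) [AddCommGroup Q] [Module R Q]
    (hexQ : ∀ w : A ⊗[R] Q, f.rTensor Q w = 0 → ∃ v : A' ⊗[R] Q, e.rTensor Q v = w) :
    Function.Injective (((LinearMap.range e).liftQ f hfe).rTensor Q) := by
  have hq : Function.Surjective (LinearMap.range e).mkQ := Submodule.mkQ_surjective _
  have hqe : (LinearMap.range e).mkQ ∘ₗ e = 0 := by
    ext x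
    simp
  have hιq : ((LinearMap.range e).liftQ f hfe) ∘ₗ (LinearMap.range e).mkQ = f :=
    Submodule.liftQ_mkQ _ _ _
  rw [injective_iff_map_eq_zero]
  intro z hz
  obtain ⟨w, rfl⟩ := LinearMap.rTensor_surjective Q hq z
  have h1 : f.rTensor Q w = 0 := by
    rw [← hιq, LinearMap.rTensor_comp]
    exact hz
  obtain ⟨v, rfl⟩ := hexQ w h1
  rw [← LinearMap.comp_apply, ← LinearMap.rTensor_comp, hqe, LinearMap.rTensor_zero,
    LinearMap.zero_apply]

end LinAlg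


section ModuleCat
open TensorProduct MonoidalCategory
variable {R : Type u} [CommRing R] {M : ModuleCat.{u} R}
  (M' : CochainComplex (ModuleCat.{u} R) ℕ)
  (η : (CochainComplex.single₀ (ModuleCat.{u} R)).obj M ⟶ M')
  (hM' : ∀ T : ModuleCat.{u} R,
      QuasiIso (((MonoidalCategory.tensorRight T).mapHomologicalComplex (ComplexShape.up ℕ)).map η))

include hM' in
lemma tensored_exact_succ (T : ModuleCat.{u} R) (n : ℕ) (w : M'.X (n + 1) ⊗[R] T)
    (hw : (M'.d (n + 1) (n + 2)).hom.rTensor T w = 0) :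
    ∃ v : M'.X n ⊗[R] T, (M'.d n (n + 1)).hom.rTensor T v = w := by
  haveI := hM' T
  let F := (MonoidalCategory.tensorRight T).mapHomologicalComplex (ComplexShape.up ℕ)
  have hex : (F.obj M').ExactAt (n + 1) := by
    rw [← quasiIsoAt_iff_exactAt (F.map η) (n + 1) ?_]
    · exact (hM' T).quasiIsoAt (n + 1)
    · apply HomologicalComplex.ExactAt.of_isZero
      exact Functor.map_isZero (MonoidalCategory.tensorRight T)
        (HomologicalComplex.isZero_single_obj_X _ _ _ _ (by simp))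
  have h2 := ((HomologicalComplex.exactAt_iff' _ n (n + 1) (n + 2))
    (CochainComplex.prev_nat_succ n) (by simp)).1 hex
  rw [ShortComplex.moduleCat_exact_iff] at h2
  exact h2 w hw

include hM' in
lemma tensored_exact_zero (T : ModuleCat.{u} R) :
    (∀ w : M'.X 0 ⊗[R] T, (M'.d 0 1).hom.rTensor T w = 0 →
      ∃ v : ((CochainComplex.single₀ (ModuleCat.{u} R)).obj M).X 0 ⊗[R] T,
        (η.f 0).hom.rTensor T v = w) ∧
    Function.Injective ((η.f 0).hom.rTensor T) := by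
  haveI := hM' T
  let F := (MonoidalCategory.tensorRight T).mapHomologicalComplex (ComplexShape.up ℕ)
  have h0 : QuasiIsoAt (F.map η) 0 := (hM' T).quasiIsoAt 0
  rw [CochainComplex.quasiIsoAt₀_iff, ShortComplex.quasiIso_iff_of_zeros] at h0
  · obtain ⟨h1, h2⟩ := h0
    rw [ShortComplex.moduleCat_exact_iff] at h1
    refine ⟨fun w hw => h1 w hw, ?_⟩
    exact (ModuleCat.mono_iff_injective _).1 h2
  · exact (F.obj ((CochainComplex.single₀ (ModuleCat.{u} R)).obj M)).shape 0 0 (by simp)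
  · change (MonoidalCategory.tensorRight T).map
      (((CochainComplex.single₀ (ModuleCat.{u} R)).obj M).d 0 1) = 0
    rw [HomologicalComplex.single_obj_d, Functor.map_zero]
  · exact (F.obj M').shape 0 0 (by simp)

end ModuleCat

section Assembly
open TensorProduct MonoidalCategory
variable {R : Type u} [CommRing R]

/-- the extension property of pure injective modules (along universally injective maps). -/
def PureInj (J : Type u) [AddCommGroup J] [Module R J] : Prop :=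
  ∀ ⦃K L : Type u⦄ [AddCommGroup K] [Module R K] [AddCommGroup L] [Module R L] (g : K →ₗ[R] L),
    (∀ (Q : Type u) [AddCommGroup Q] [Module R Q], Function.Injective (g.rTensor Q)) →
    ∀ φ : K →ₗ[R] J, ∃ ψ : L →ₗ[R] J, ψ ∘ₗ g = φ

lemma extendsAgainst_of_pureInj (J : ModuleCat.{u} R) (hJ : PureInj (R := R) J)
    (S : ShortComplex (ModuleCat.{u} R))
    (hS : ∀ (Q : Type u) [AddCommGroup Q] [Module R Q], ∀ w : S.X₂ ⊗[R] Q,
      S.g.hom.rTensor Q w = 0 → ∃ v : S.X₁ ⊗[R] Q, S.f.hom.rTensor Q v = w) :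
    ExtendsAgainst S J := by
  intro φ hφ
  have hzero : LinearMap.range S.f.hom ≤ LinearMap.ker S.g.hom := by
    rintro _ ⟨a, rfl⟩
    change S.g.hom (S.f.hom a) = 0
    rw [← LinearMap.comp_apply, ← ModuleCat.hom_comp, S.zero]
    rfl
  have hφ' : LinearMap.range S.f.hom ≤ LinearMap.ker φ.hom := by
    rintro _ ⟨a, rfl⟩
    change φ.hom (S.f.hom a) = 0
    rw [← LinearMap.comp_apply, ← ModuleCat.hom_comp, hφ]
    rfl
  obtain ⟨ψ, hψ⟩ := hJ ((LinearMap.range S.f.hom).liftQ S.g.hom hzero)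
    (fun Q _ _ => injective_rTensor_liftQ S.f.hom S.g.hom hzero Q (hS Q))
    ((LinearMap.range S.f.hom).liftQ φ.hom hφ')
  refine ⟨ModuleCat.ofHom ψ, ?_⟩
  ext x
  have := LinearMap.congr_fun hψ (Submodule.Quotient.mk x)
  exact this

variable {M N : ModuleCat.{u} R} (f : M ⟶ N) (M' I : CochainComplex (ModuleCat.{u} R) ℕ)
  (η : (CochainComplex.single₀ (ModuleCat.{u} R)).obj M ⟶ M')
  (ε : (CochainComplex.single₀ (ModuleCat.{u} R)).obj N ⟶ I)
  (hM' : ∀ T : ModuleCat.{u} R,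
      QuasiIso (((MonoidalCategory.tensorRight T).mapHomologicalComplex (ComplexShape.up ℕ)).map η))
  (hI : ∀ n : ℕ, PureInj (R := R) (I.X n))

omit f ε in
include hM' hI in
lemma pure_h0 : ∀ φ : ((CochainComplex.single₀ (ModuleCat.{u} R)).obj M).X 0 ⟶ I.X 0,
    ∃ ψ : M'.X 0 ⟶ I.X 0, η.f 0 ≫ ψ = φ := by
  intro φ
  obtain ⟨ψ, hψ⟩ := hI 0 (η.f 0).hom
    (fun Q _ _ => (tensored_exact_zero M' η hM' (ModuleCat.of R Q)).2) φ.hom
  refine ⟨ModuleCat.ofHom ψ, ?_⟩
  ext x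
  exact LinearMap.congr_fun hψ x

omit f ε in
include hM' hI in
lemma pure_h1 : ∀ n, ExtendsAgainst
    (ShortComplex.mk (η.f 0) (M'.d 0 1) (coaug_zero M' η)) (I.X n) := fun n =>
  extendsAgainst_of_pureInj (I.X n) (hI n) _
    (fun Q _ _ => (tensored_exact_zero M' η hM' (ModuleCat.of R Q)).1)

omit f ε in
include hM' hI in
lemma pure_h2 : ∀ n m, ExtendsAgainst
    (ShortComplex.mk _ _ (M'.d_comp_d m (m + 1) (m + 2))) (I.X n) := fun n m =>
  extendsAgainst_of_pureInj (I.X n) (hI n) _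
    (fun Q _ _ => tensored_exact_succ M' η hM' (ModuleCat.of R Q) m)

include hM' hI in
theorem pure_exists_desc :
    ∃ φ : M' ⟶ I, η ≫ φ = (CochainComplex.single₀ (ModuleCat.{u} R)).map f ≫ ε :=
  exists_desc f M' I η ε (pure_h0 M' I η hM' hI) (pure_h1 M' I η hM' hI) (pure_h2 M' I η hM' hI)

omit ε in
include hM' hI in
theorem pure_homotopy_zero (φ : M' ⟶ I) (comm : η ≫ φ = 0) : Nonempty (Homotopy φ 0) :=
  homotopy_zero M' I η (pure_h1 M' I η hM' hI) (pure_h2 M' I η hM' hI) φ comm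

end Assembly

end Helper57.PureCores
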