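import Mathlib
import Groth.Agent.S8772

/-!
# Existence of pure injective resolutions

Iterating the evaluation map `K → K^∨∨` on cokernels gives a cochain complex of double character
modules, coaugmented from `M`, which stays exact after any tensor product. Character modules are
pure injective.
-/

set_option autoImplicit false
universe u

open CategoryTheory TensorProduct

namespace Helper57.PureCoresExists

variable (R : Type u) [CommRing R]

/-- character modules are pure injective. -/
lemma charModule_pureInj (B : Type u) [AddCommGroup B] [Module R B]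
    ⦃K L : Type u⦄ [AddCommGroup K] [Module R K] [AddCommGroup L] [Module R L] (g : K →ₗ[R] L)
    (hg : ∀ (Q : Type u) [AddCommGroup Q] [Module R Q], Function.Injective (g.rTensor Q))
    (φ : K →ₗ[R] CharacterModule B) : ∃ ψ : L →ₗ[R] CharacterModule B, ψ ∘ₗ g = φ := by
  have h1 : Function.Surjective (g.lcomp R (CharacterModule B)) :=
    rTensor_injective_iff_lcomp_surjective.1 (hg B)
  obtain ⟨ψ, hψ⟩ := h1 φ
  exact ⟨ψ, hψ⟩

/-- a stage: a module to be embedded. -/
structure Stg where
  K : Type u
  [ag : AddCommGroup K]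
  [md : Module R K]

attribute [instance] Stg.ag Stg.md

variable {R}

/-- the double character module. -/
abbrev Stg.E (s : Stg R) : Type u := CharacterModule (CharacterModule s.K)

noncomputable def Stg.j (s : Stg R) : s.K →ₗ[R] s.E := PureExt.charEval R s.K

lemma Stg.j_univ (s : Stg R) (T : Type u) [AddCommGroup T] [Module R T] :
    Function.Injective (s.j.rTensor T) := Groth.Agent.S8772.result R s.K T

noncomputable def Stg.next (s : Stg R) : Stg R := ⟨s.E ⧸ LinearMap.range s.j⟩

/-- the quotient map, typed as landing in the next stage. -/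
noncomputable def Stg.q (s : Stg R) : s.E →ₗ[R] s.next.K := (LinearMap.range s.j).mkQ

lemma Stg.q_surj (s : Stg R) : Function.Surjective s.q := Submodule.mkQ_surjective _

lemma Stg.q_j (s : Stg R) (x : s.K) : s.q (s.j x) = 0 := by
  change (LinearMap.range s.j).mkQ (s.j x) = 0
  rw [Submodule.mkQ_apply, Submodule.Quotient.mk_eq_zero]
  exact ⟨x, rfl⟩

noncomputable def Stg.dd (s : Stg R) : s.E →ₗ[R] s.next.E := s.next.j ∘ₗ s.q

lemma Stg.dd_j (s : Stg R) (x : s.K) : s.dd (s.j x) = 0 := by
  change s.next.j (s.q (s.j x)) = 0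
  rw [s.q_j, map_zero]

lemma Stg.dd_dd (s : Stg R) (x : s.E) : s.next.dd (s.dd x) = 0 := s.next.dd_j (s.q x)

/-- tensored exactness at the bottom. -/
lemma Stg.texact₀ (s : Stg R) (T : Type u) [AddCommGroup T] [Module R T]
    (w : s.E ⊗[R] T) (hw : s.dd.rTensor T w = 0) : ∃ v, s.j.rTensor T v = w := by
  have h1 : s.q.rTensor T w = 0 := by
    apply s.next.j_univ T
    rw [map_zero, ← LinearMap.comp_apply, ← LinearMap.rTensor_comp]
    exact hw
  have hex := rTensor_exact T (LinearMap.exact_subtype_mkQ (LinearMap.range s.j))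
    (Submodule.mkQ_surjective _)
  obtain ⟨c, hc⟩ := (hex w).1 h1
  obtain ⟨v, hv⟩ := LinearMap.rTensor_surjective T (LinearMap.surjective_rangeRestrict s.j) c
  refine ⟨v, ?_⟩
  have : s.j = (LinearMap.range s.j).subtype ∘ₗ s.j.rangeRestrict := rfl
  rw [this, LinearMap.rTensor_comp, LinearMap.comp_apply, hv, hc]

/-- tensored exactness in higher degrees. -/
lemma Stg.texact (s : Stg R) (T : Type u) [AddCommGroup T] [Module R T]
    (w : s.next.E ⊗[R] T) (hw : s.next.dd.rTensor T w = 0) : ∃ v, s.dd.rTensor T v = w := by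
  obtain ⟨c, hc⟩ := s.next.texact₀ T w hw
  obtain ⟨v, hv⟩ := LinearMap.rTensor_surjective T s.q_surj c
  refine ⟨v, ?_⟩
  rw [Stg.dd, LinearMap.rTensor_comp, LinearMap.comp_apply, hv, hc]

variable (R) (M : Type u) [AddCommGroup M] [Module R M]

noncomputable def stg : ℕ → Stg R
  | 0 => ⟨M⟩
  | n + 1 => (stg n).next

noncomputable def X (n : ℕ) : ModuleCat.{u} R := ModuleCat.of R (stg R M n).E

noncomputable def d (n : ℕ) : X R M n ⟶ X R M (n + 1) := ModuleCat.ofHom (stg R M n).dd

lemma d_comp (n : ℕ) : d R M n ≫ d R M (n + 1) = 0 := by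
  ext x
  exact (stg R M n).dd_dd x

noncomputable def cx : CochainComplex (ModuleCat.{u} R) ℕ :=
  CochainComplex.of (X R M) (d R M) (d_comp R M)

lemma cx_d (n : ℕ) : (cx R M).d n (n + 1) = d R M n := CochainComplex.of_d _ _ n

noncomputable def eta : ModuleCat.of R M ⟶ X R M 0 := ModuleCat.ofHom (stg R M 0).j

lemma eta_cx_d : eta R M ≫ (cx R M).d 0 1 = 0 := by
  rw [cx_d]
  ext x
  exact (stg R M 0).dd_j x

noncomputable def coaug :
    (CochainComplex.single₀ (ModuleCat.{u} R)).obj (ModuleCat.of R M) ⟶ cx R M :=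
  (CochainComplex.fromSingle₀Equiv _ _).symm ⟨eta R M, eta_cx_d R M⟩

lemma coaug_f0 : (coaug R M).f 0 = eta R M :=
  CochainComplex.fromSingle₀Equiv_symm_apply_f_zero (C := cx R M) (X := ModuleCat.of R M)
    (eta R M) (eta_cx_d R M)

lemma cx_pureInj (n : ℕ) ⦃K L : Type u⦄ [AddCommGroup K] [Module R K] [AddCommGroup L]
    [Module R L] (g : K →ₗ[R] L)
    (hg : ∀ (Q : Type u) [AddCommGroup Q] [Module R Q], Function.Injective (g.rTensor Q))
    (φ : K →ₗ[R] (cx R M).X n) : ∃ ψ : L →ₗ[R] (cx R M).X n, ψ ∘ₗ g = φ :=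
  charModule_pureInj R (CharacterModule (stg R M n).K) g hg φ

open MonoidalCategory in
theorem coaug_quasiIso (T : ModuleCat.{u} R) :
    QuasiIso (((MonoidalCategory.tensorRight T).mapHomologicalComplex (ComplexShape.up ℕ)).map
      (coaug R M)) := by
  let F := (MonoidalCategory.tensorRight T).mapHomologicalComplex (ComplexShape.up ℕ)
  refine ⟨fun n => ?_⟩
  cases n with
  | zero =>
    rw [CochainComplex.quasiIsoAt₀_iff, ShortComplex.quasiIso_iff_of_zeros]
    · constructor
      · rw [ShortComplex.moduleCat_exact_iff]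
        intro w hw
        change (((cx R M).d 0 1) ▷ T).hom w = 0 at hw
        rw [cx_d] at hw
        obtain ⟨v, hv⟩ := (stg R M 0).texact₀ T w hw
        refine ⟨v, ?_⟩
        change (((coaug R M).f 0) ▷ T).hom v = w
        rw [coaug_f0]
        exact hv
      · change Mono (((coaug R M).f 0) ▷ T)
        rw [coaug_f0]
        have : Mono (eta R M ▷ T) := (ModuleCat.mono_iff_injective _).2 ((stg R M 0).j_univ T)
        exact this
    · exact (F.obj ((CochainComplex.single₀ (ModuleCat.{u} R)).obj (ModuleCat.of R M))).shape 0 0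
        (by simp)
    · change (MonoidalCategory.tensorRight T).map
        (((CochainComplex.single₀ (ModuleCat.{u} R)).obj (ModuleCat.of R M)).d 0 1) = 0
      rw [HomologicalComplex.single_obj_d, Functor.map_zero]
    · exact (F.obj (cx R M)).shape 0 0 (by simp)
  | succ n =>
    rw [quasiIsoAt_iff_exactAt]
    · rw [HomologicalComplex.exactAt_iff' _ n (n + 1) (n + 1 + 1)
        (CochainComplex.prev_nat_succ n) (by simp)]
      rw [ShortComplex.moduleCat_exact_iff]
      intro w hw
      change (((cx R M).d (n + 1) (n + 1 + 1)) ▷ T).hom w = 0 at hw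
      rw [cx_d] at hw
      obtain ⟨v, hv⟩ := (stg R M n).texact T w hw
      refine ⟨v, ?_⟩
      change (((cx R M).d n (n + 1)) ▷ T).hom v = w
      rw [cx_d]
      exact hv
    · apply HomologicalComplex.ExactAt.of_isZero
      exact Functor.map_isZero (MonoidalCategory.tensorRight T)
        (HomologicalComplex.isZero_single_obj_X _ _ _ _ (by simp))

end Helper57.PureCoresExists
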