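import Mathlib

/-!
# Purity criteria

* `Helper57.PureCover.univInj_ker_of_lifts`: if every map from a finitely presented module to `M`
  lifts along `g : P → M`, then `ker g → P` is universally injective.
-/

set_option autoImplicit false
universe u

open TensorProduct

namespace Helper57.PureCover

section
variable {R : Type u} [CommRing R] {P M : Type u} [AddCommGroup P] [Module R P]
  [AddCommGroup M] [Module R M]

/-- the core step: a tensor in `Φ ⊗ T` (`Φ` finite free) mapped to `ker g ⊗ T` which dies in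
`P ⊗ T` already dies in `ker g ⊗ T`. -/
lemma core (g : P →ₗ[R] M)
    (hlift : ∀ (F : Type u) [AddCommGroup F] [Module R F] [Module.FinitePresentation R F]
      (φ : F →ₗ[R] M), ∃ ψ : F →ₗ[R] P, g ∘ₗ ψ = φ)
    (T : Type u) [AddCommGroup T] [Module R T] (l : ℕ)
    (κ : (Fin l → R) →ₗ[R] LinearMap.ker g) (ζ : (Fin l → R) ⊗[R] T)
    (hζ : ((LinearMap.ker g).subtype ∘ₗ κ).rTensor T ζ = 0) : κ.rTensor T ζ = 0 := by
  classical
  let lam : (Fin l → R) →ₗ[R] P := (LinearMap.ker g).subtype ∘ₗ κ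
  let P₀ : Submodule R P := LinearMap.range lam
  have hP₀ : P₀.FG := by
    change (LinearMap.range lam).FG
    rw [LinearMap.range_eq_map]
    exact Submodule.FG.map _ Module.Finite.fg_top
  let lam₀ : (Fin l → R) →ₗ[R] P₀ := lam.rangeRestrict
  have hlam₀ : P₀.subtype ∘ₗ lam₀ = lam := rfl
  have hu : P₀.subtype.rTensor T (lam₀.rTensor T ζ) = 0 := by
    rw [← LinearMap.comp_apply, ← LinearMap.rTensor_comp, hlam₀]
    exact hζ
  obtain ⟨Q, hPQ, hQ, hQ0⟩ := TensorProduct.eq_zero_of_fg_of_subtype_eq_zero hP₀ hu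
  haveI : Module.Finite R Q := Module.Finite.iff_fg.2 hQ
  obtain ⟨n, π', hπ'⟩ := Module.Finite.exists_fin' R Q
  let lam₁ : (Fin l → R) →ₗ[R] Q := Submodule.inclusion hPQ ∘ₗ lam₀
  obtain ⟨μ, hμ⟩ := Module.projective_lifting_property π' lam₁ hπ'
  have hlam₁ : Q.subtype ∘ₗ lam₁ = lam := by
    rw [← hlam₀]
    rfl
  -- v := μ ⊗ T ζ lies in the kernel of π' ⊗ T
  have hv : π'.rTensor T (μ.rTensor T ζ) = 0 := by
    rw [← LinearMap.comp_apply, ← LinearMap.rTensor_comp, hμ, LinearMap.rTensor_comp,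
      LinearMap.comp_apply]
    exact hQ0
  have hex := rTensor_exact T (LinearMap.exact_subtype_ker_map π') hπ'
  obtain ⟨c, hc⟩ := (hex (μ.rTensor T ζ)).1 hv
  obtain ⟨C₀, hC₀, c₀, hc₀⟩ := TensorProduct.exists_of_fg c
  let j : C₀ →ₗ[R] (Fin n → R) := (LinearMap.ker π').subtype ∘ₗ C₀.subtype
  have hπj : ∀ y, π' (j y) = 0 := fun y => (C₀.subtype y).2
  let D : Submodule R (Fin n → R) := LinearMap.range μ ⊔ LinearMap.range j
  have hD : D.FG := by
    refine Submodule.FG.sup ?_ ?_
    · rw [LinearMap.range_eq_map]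
      exact Submodule.FG.map _ Module.Finite.fg_top
    · rw [LinearMap.range_eq_map]
      haveI : Module.Finite R C₀ := Module.Finite.iff_fg.2 hC₀
      exact Submodule.FG.map _ Module.Finite.fg_top
  haveI : Module.FinitePresentation R ((Fin n → R) ⧸ D) :=
    Module.finitePresentation_of_surjective D.mkQ (Submodule.mkQ_surjective _)
      (by rw [Submodule.ker_mkQ]; exact hD)
  have hglam : ∀ x, g (lam x) = 0 := fun x => (κ x).2
  have hDker : D ≤ LinearMap.ker (g ∘ₗ Q.subtype ∘ₗ π') := by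
    refine sup_le ?_ ?_
    · rintro _ ⟨x, rfl⟩
      change g (Q.subtype (π' (μ x))) = 0
      have h1 : π' (μ x) = lam₁ x := LinearMap.congr_fun hμ x
      rw [h1]
      have h2 : Q.subtype (lam₁ x) = lam x := LinearMap.congr_fun hlam₁ x
      rw [h2]
      exact hglam x
    · rintro _ ⟨y, rfl⟩
      change g (Q.subtype (π' (j y))) = 0
      rw [hπj, map_zero, map_zero]
  let φ : ((Fin n → R) ⧸ D) →ₗ[R] M := D.liftQ (g ∘ₗ Q.subtype ∘ₗ π') hDker
  obtain ⟨ψ, hψ⟩ := hlift _ φ
  let σ : (Fin n → R) →ₗ[R] P := Q.subtype ∘ₗ π' - ψ ∘ₗ D.mkQ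
  have hgσ : ∀ x, σ x ∈ LinearMap.ker g := fun x => by
    change g (σ x) = 0
    change g (Q.subtype (π' x) - ψ (D.mkQ x)) = 0
    rw [map_sub]
    have : g (ψ (D.mkQ x)) = φ (D.mkQ x) := LinearMap.congr_fun hψ (D.mkQ x)
    rw [this]
    change g (Q.subtype (π' x)) - g (Q.subtype (π' x)) = 0
    rw [sub_self]
  let σ' : (Fin n → R) →ₗ[R] LinearMap.ker g := σ.codRestrict (LinearMap.ker g) hgσ
  have hA : σ' ∘ₗ μ = κ := by
    apply LinearMap.ext
    intro x
    apply Subtype.ext
    change Q.subtype (π' (μ x)) - ψ (D.mkQ (μ x)) = (κ x : P)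
    have h0 : D.mkQ (μ x) = 0 := by
      rw [Submodule.mkQ_apply, Submodule.Quotient.mk_eq_zero]
      exact Submodule.mem_sup_left ⟨x, rfl⟩
    have h1 : π' (μ x) = lam₁ x := LinearMap.congr_fun hμ x
    have h2 : Q.subtype (lam₁ x) = lam x := LinearMap.congr_fun hlam₁ x
    rw [h0, map_zero, sub_zero, h1, h2]
    rfl
  have hB : σ' ∘ₗ j = 0 := by
    apply LinearMap.ext
    intro y
    apply Subtype.ext
    change Q.subtype (π' (j y)) - ψ (D.mkQ (j y)) = 0
    have h0 : D.mkQ (j y) = 0 := by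
      rw [Submodule.mkQ_apply, Submodule.Quotient.mk_eq_zero]
      exact Submodule.mem_sup_right ⟨y, rfl⟩
    rw [h0, hπj, map_zero, map_zero, sub_zero]
  rw [← hA, LinearMap.rTensor_comp, LinearMap.comp_apply, ← hc, ← hc₀]
  change σ'.rTensor T ((LinearMap.ker π').subtype.rTensor T (C₀.subtype.rTensor T c₀)) = 0
  rw [← LinearMap.comp_apply, ← LinearMap.comp_apply, ← LinearMap.rTensor_comp,
    ← LinearMap.rTensor_comp]
  have : (σ' ∘ₗ (LinearMap.ker π').subtype) ∘ₗ C₀.subtype = 0 := hB
  rw [this, LinearMap.rTensor_zero, LinearMap.zero_apply]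

theorem univInj_ker_of_lifts (g : P →ₗ[R] M)
    (hlift : ∀ (F : Type u) [AddCommGroup F] [Module R F] [Module.FinitePresentation R F]
      (φ : F →ₗ[R] M), ∃ ψ : F →ₗ[R] P, g ∘ₗ ψ = φ)
    (T : Type u) [AddCommGroup T] [Module R T] :
    Function.Injective ((LinearMap.ker g).subtype.rTensor T) := by
  rw [injective_iff_map_eq_zero]
  intro z hz
  obtain ⟨l, k, t, rfl⟩ := TensorProduct.exists_sum_tmul_eq z
  let κ : (Fin l → R) →ₗ[R] LinearMap.ker g := Fintype.linearCombination R k
  let ζ : (Fin l → R) ⊗[R] T := ∑ i, (Pi.single i (1 : R) : Fin l → R) ⊗ₜ[R] t i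
  have hζ : κ.rTensor T ζ = ∑ i, k i ⊗ₜ[R] t i := by
    simp only [ζ, κ, map_sum, LinearMap.rTensor_tmul]
    refine Finset.sum_congr rfl fun i _ => ?_
    congr 1
    simp [Fintype.linearCombination_apply_single]
  rw [← hζ] at hz ⊢
  refine core g hlift T l κ ζ ?_
  rw [LinearMap.rTensor_comp, LinearMap.comp_apply]
  exact hz

end


section Cover
open scoped Classical
variable (R : Type u) [CommRing R] (M : Type u) [AddCommGroup M] [Module R M]

/-- index of the canonical pure projective cover: finite presentations with a map to `M`. -/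
abbrev CIdx : Type u :=
  Σ (n : ℕ) (N' : {N' : Submodule R (Fin n → R) // N'.FG}), ((Fin n → R) ⧸ N'.1) →ₗ[R] M

/-- the finitely presented summands (a `def`, so that its only instances are the ones below and
instance paths agree with those of an abstract family of modules). -/
def CQ (i : CIdx R M) : Type u := (Fin i.1 → R) ⧸ i.2.1.1

instance (i : CIdx R M) : AddCommGroup (CQ R M i) :=
  inferInstanceAs (AddCommGroup ((Fin i.1 → R) ⧸ i.2.1.1))

instance (i : CIdx R M) : Module R (CQ R M i) :=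
  inferInstanceAs (Module R ((Fin i.1 → R) ⧸ i.2.1.1))

/-- identification of a summand with the quotient. -/
def cequiv (i : CIdx R M) : CQ R M i ≃ₗ[R] ((Fin i.1 → R) ⧸ i.2.1.1) :=
  { toFun := fun x => x
    invFun := fun x => x
    map_add' := fun _ _ => rfl
    map_smul' := fun _ _ => rfl
    left_inv := fun _ => rfl
    right_inv := fun _ => rfl }

instance (i : CIdx R M) : Module.FinitePresentation R (CQ R M i) := by
  haveI : Module.FinitePresentation R ((Fin i.1 → R) ⧸ i.2.1.1) :=
    Module.finitePresentation_of_surjective (i.2.1.1).mkQ (Submodule.mkQ_surjective _)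
      (by rw [Submodule.ker_mkQ]; exact i.2.1.2)
  exact Module.FinitePresentation.of_equiv (cequiv R M i).symm

/-- the structure map of a summand. -/
def cmap (i : CIdx R M) : CQ R M i →ₗ[R] M := i.2.2 ∘ₗ (cequiv R M i).toLinearMap

/-- the canonical cover. -/
noncomputable def cover : (Π₀ i, CQ R M i) →ₗ[R] M :=
  DFinsupp.lsum ℕ (fun i : CIdx R M => cmap R M i)

lemma cover_lifts (F : Type u) [AddCommGroup F] [Module R F] [Module.FinitePresentation R F]
    (φ : F →ₗ[R] M) : ∃ ψ : F →ₗ[R] (Π₀ i, CQ R M i), cover R M ∘ₗ ψ = φ := by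
  obtain ⟨n, N', e, hN'⟩ := Module.FinitePresentation.exists_fin R F
  let i : CIdx R M := ⟨n, ⟨N', hN'⟩, φ ∘ₗ e.symm.toLinearMap⟩
  let e' : F ≃ₗ[R] CQ R M i := e.trans (cequiv R M i).symm
  refine ⟨DFinsupp.lsingle i ∘ₗ e'.toLinearMap, ?_⟩
  apply LinearMap.ext
  intro x
  change cover R M (DFinsupp.single i (e' x)) = φ x
  rw [cover, DFinsupp.lsum_single]
  change φ (e.symm (e x)) = φ x
  rw [LinearEquiv.symm_apply_apply]

lemma cover_surjective : Function.Surjective (cover R M) := by
  intro m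
  obtain ⟨ψ, hψ⟩ := cover_lifts R M R (LinearMap.toSpanSingleton R M m)
  refine ⟨ψ 1, ?_⟩
  have := LinearMap.congr_fun hψ 1
  simpa using this

theorem cover_univInj (T : Type u) [AddCommGroup T] [Module R T] :
    Function.Injective ((LinearMap.ker (cover R M)).subtype.rTensor T) := by
  have h := univInj_ker_of_lifts (R := R) (P := Π₀ i, CQ R M i) (M := M) (cover R M)
    (fun F _ _ _ φ => cover_lifts R M F φ) T
  exact h

end Cover

section Packaged
variable (R : Type u) [CommRing R]

/-- local copy of the universal injectivity predicate (same shape as `CAlgX.UniversallyInjective`). -/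
def UnivInj {M N : Type u} [AddCommGroup M] [Module R M] [AddCommGroup N] [Module R N]
    (f : M →ₗ[R] N) : Prop :=
  ∀ (Q : Type u) [AddCommGroup Q] [Module R Q], Function.Injective (f.rTensor Q)

variable (M : Type u) [AddCommGroup M] [Module R M]

theorem cover_univInj' : UnivInj R (LinearMap.ker (cover R M)).subtype := by
  intro Q _ _
  exact cover_univInj R M Q

end Packaged

end Helper57.PureCover
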