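import Mathlib

/-!
# Finitely presented modules are pure projective

`Helper57.PureProj.fp_lifts`: maps out of a finitely presented module lift along surjections whose
kernel inclusion is universally injective.
-/

set_option autoImplicit false
universe u

open TensorProduct

namespace Helper57.PureProj

variable {R : Type u} [CommRing R] {L : Type u} [AddCommGroup L] [Module R L]

/-- equational criterion: a finite linear system with right hand side in a pure submodule `K`
which is solvable in `L` is solvable in `K`. -/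
lemma key (K : Submodule R L)
    (hu : ∀ (T : Type u) [AddCommGroup T] [Module R T], Function.Injective (K.subtype.rTensor T))
    {n m : ℕ} (r : Fin m → Fin n → R) (l : Fin n → L) (hk : ∀ i, ∑ j, r i j • l j ∈ K) :
    ∃ x : Fin n → K, ∀ i, ∑ j, r i j • (x j : L) = ∑ j, r i j • l j := by
  classical
  let A : (Fin n → R) →ₗ[R] (Fin m → R) := LinearMap.pi fun i => Fintype.linearCombination R (r i)
  have hA : ∀ v i, A v i = ∑ j, v j * r i j := fun v i => by
    simp [A, Fintype.linearCombination_apply]
  let q := (LinearMap.range A).mkQ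
  let kk : Fin m → K := fun i => ⟨_, hk i⟩
  let ω₀ : K ⊗[R] (Fin m → R) := ∑ i, kk i ⊗ₜ[R] (Pi.single i (1 : R) : Fin m → R)
  have hsingle : ∀ j : Fin n, A (Pi.single j 1) = ∑ i, r i j • (Pi.single i (1 : R) : Fin m → R) := by
    intro j
    ext i
    rw [hA]
    simp [Finset.sum_apply, Pi.single_apply]
  have h0 : K.subtype.rTensor _ (q.lTensor K ω₀) = 0 := by
    simp only [ω₀, map_sum, LinearMap.lTensor_tmul, LinearMap.rTensor_tmul, Submodule.subtype_apply, kk]
    calc ∑ i, (∑ j, r i j • l j) ⊗ₜ[R] q (Pi.single i 1)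
        = ∑ i, ∑ j, l j ⊗ₜ[R] (r i j • q (Pi.single i 1)) := by
          refine Finset.sum_congr rfl fun i _ => ?_
          rw [TensorProduct.sum_tmul]
          refine Finset.sum_congr rfl fun j _ => ?_
          rw [TensorProduct.smul_tmul]
      _ = ∑ j, l j ⊗ₜ[R] (∑ i, r i j • q (Pi.single i 1)) := by
          rw [Finset.sum_comm]
          refine Finset.sum_congr rfl fun j _ => ?_
          rw [TensorProduct.tmul_sum]
      _ = ∑ j, l j ⊗ₜ[R] q (A (Pi.single j 1)) := by
          refine Finset.sum_congr rfl fun j _ => ?_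
          rw [hsingle, map_sum]
          simp only [map_smul]
      _ = 0 := by
          refine Finset.sum_eq_zero fun j _ => ?_
          have : q (A (Pi.single j 1)) = 0 := by
            rw [Submodule.mkQ_apply, Submodule.Quotient.mk_eq_zero]
            exact ⟨_, rfl⟩
          rw [this, TensorProduct.tmul_zero]
  have hω : q.lTensor K ω₀ = 0 := hu _ (by rw [h0, map_zero])
  have hex : Function.Exact (A.lTensor K) (q.lTensor K) :=
    lTensor_exact K (LinearMap.exact_map_mkQ_range A) (Submodule.mkQ_surjective _)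
  obtain ⟨ξ, hξ⟩ := (hex ω₀).1 hω
  let x : Fin n → K := TensorProduct.piScalarRightHom R R K (Fin n) ξ
  refine ⟨x, fun i => ?_⟩
  -- compare the `i`-th coordinates
  let Θ : K ⊗[R] (Fin m → R) →ₗ[R] K :=
    LinearMap.proj i ∘ₗ TensorProduct.piScalarRightHom R R K (Fin m)
  let Ξ : K ⊗[R] (Fin n → R) →ₗ[R] K :=
    (Fintype.linearCombination R (fun j => LinearMap.proj (R := R) (φ := fun _ : Fin n => K) j)
      (r i)) ∘ₗ TensorProduct.piScalarRightHom R R K (Fin n)
  have hΘΞ : Θ ∘ₗ A.lTensor K = Ξ := by
    apply TensorProduct.ext'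
    intro k v
    simp only [Θ, Ξ, LinearMap.comp_apply, LinearMap.lTensor_tmul,
      TensorProduct.piScalarRightHom_tmul, LinearMap.proj_apply, Fintype.linearCombination_apply,
      LinearMap.sum_apply, LinearMap.smul_apply]
    rw [hA, Finset.sum_smul]
    refine Finset.sum_congr rfl fun j _ => ?_
    rw [mul_comm, mul_smul]
  have h1 : Θ (A.lTensor K ξ) = kk i := by
    rw [hξ]
    simp only [ω₀, Θ, map_sum, LinearMap.comp_apply, TensorProduct.piScalarRightHom_tmul,
      LinearMap.proj_apply, Pi.single_apply]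
    simp
  have h2 : Ξ ξ = ∑ j, r i j • x j := by
    simp only [Ξ, LinearMap.comp_apply, Fintype.linearCombination_apply, LinearMap.sum_apply,
      LinearMap.smul_apply, LinearMap.proj_apply]
    rfl
  have h3 : ∑ j, r i j • x j = kk i := by
    rw [← h2, ← hΘΞ, LinearMap.comp_apply, h1]
  have h4 := congrArg (fun y : K => (y : L)) h3
  simpa using h4


/-- finitely presented modules are pure projective. -/
theorem fp_lifts {N : Type u} [AddCommGroup N] [Module R N]
    (g : L →ₗ[R] N) (hg : Function.Surjective g)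
    (hu : ∀ (T : Type u) [AddCommGroup T] [Module R T],
      Function.Injective ((LinearMap.ker g).subtype.rTensor T))
    (F : Type u) [AddCommGroup F] [Module R F] [Module.FinitePresentation R F] (φ : F →ₗ[R] N) :
    ∃ ψ : F →ₗ[R] L, g ∘ₗ ψ = φ := by
  classical
  obtain ⟨n, N', e, hN'⟩ := Module.FinitePresentation.exists_fin R F
  obtain ⟨m, r, hr⟩ := Submodule.fg_iff_exists_fin_generating_family.1 hN'
  obtain ⟨α, hα⟩ := Module.projective_lifting_property g
    (φ ∘ₗ e.symm.toLinearMap ∘ₗ N'.mkQ) hg
  have hα' : ∀ v, g (α v) = φ (e.symm (N'.mkQ v)) := fun v => LinearMap.congr_fun hα v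
  have hrN : ∀ i, r i ∈ N' := fun i => by
    rw [← hr]
    exact Submodule.subset_span ⟨i, rfl⟩
  have hαsum : ∀ v : Fin n → R, α v = ∑ j, v j • α (Pi.single j 1) := by
    intro v
    rw [LinearMap.pi_apply_eq_sum_univ α v]
    refine Finset.sum_congr rfl fun j _ => ?_
    congr 2
    ext j'
    simp [Pi.single_apply, eq_comm]
  have hk : ∀ i, ∑ j, r i j • α (Pi.single j 1) ∈ LinearMap.ker g := fun i => by
    rw [← hαsum]
    change g (α (r i)) = 0
    rw [hα']
    have : N'.mkQ (r i) = 0 := by
      rw [Submodule.mkQ_apply, Submodule.Quotient.mk_eq_zero]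
      exact hrN i
    rw [this, map_zero, map_zero]
  obtain ⟨x, hx⟩ := key (LinearMap.ker g) hu r (fun j => α (Pi.single j 1)) hk
  let β : (Fin n → R) →ₗ[R] L := (LinearMap.ker g).subtype ∘ₗ Fintype.linearCombination R x
  have hβ : ∀ i, β (r i) = α (r i) := by
    intro i
    rw [hαsum (r i), ← hx i]
    simp [β, Fintype.linearCombination_apply]
  have hgβ : ∀ v, g (β v) = 0 := fun v => (Fintype.linearCombination R x v).2
  have hle : N' ≤ LinearMap.ker (α - β) := by
    rw [← hr, Submodule.span_le]
    rintro _ ⟨i, rfl⟩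
    change (α - β) (r i) = 0
    rw [LinearMap.sub_apply, hβ, sub_self]
  refine ⟨N'.liftQ (α - β) hle ∘ₗ e.toLinearMap, ?_⟩
  apply LinearMap.ext
  intro f
  obtain ⟨v, hv⟩ := N'.mkQ_surjective (e f)
  change g (N'.liftQ (α - β) hle (e f)) = φ f
  rw [← hv, Submodule.mkQ_apply, Submodule.liftQ_apply, LinearMap.sub_apply, map_sub, hgβ,
    sub_zero, hα', hv, LinearEquiv.symm_apply_apply]

end Helper57.PureProj
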