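import Mathlib

/-!
# Comparison lemmas for (pure) resolutions

* `Helper57.PureRes.exists_lift` / `homotopy_zero`: the comparison theorem for chain complexes in an
  abelian category where projectivity of the source terms is replaced by an abstract lifting
  property against the relevant short complexes of the target.
* `Helper57.PureRes.univInj_ker`: kernel inclusions in a universally exact complex are
  universally injective.
-/

set_option autoImplicit false
universe u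

open CategoryTheory CategoryTheory.Limits Category

namespace Helper57.PureRes

section General
universe v' u'
variable {C : Type u'} [Category.{v'} C] [Abelian C] {Y Z : C}

/-- `X` has the lifting property against the short complex `S`. -/
def LiftsAgainst (X : C) (S : ShortComplex C) : Prop :=
  ∀ φ : X ⟶ S.X₂, φ ≫ S.g = 0 → ∃ ψ : X ⟶ S.X₁, ψ ≫ S.f = φ

variable (f : Y ⟶ Z) (P Q : ChainComplex C ℕ)
  (πP : P ⟶ (ChainComplex.single₀ C).obj Y) (πQ : Q ⟶ (ChainComplex.single₀ C).obj Z)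

lemma aug_zero : Q.d 1 0 ≫ πQ.f 0 = 0 := by
  rw [← πQ.comm 1 0, HomologicalComplex.single_obj_d, comp_zero]

variable (h0 : ∀ φ : P.X 0 ⟶ ((ChainComplex.single₀ C).obj Z).X 0, ∃ ψ : P.X 0 ⟶ Q.X 0, ψ ≫ πQ.f 0 = φ)
  (h1 : ∀ n, LiftsAgainst (P.X n) (ShortComplex.mk (Q.d 1 0) (πQ.f 0) (aug_zero Q πQ)))
  (h2 : ∀ n m, LiftsAgainst (P.X n) (ShortComplex.mk _ _ (Q.d_comp_d (m + 2) (m + 1) m)))

include h0 h1 h2 in
lemma exists_lift : ∃ φ : P ⟶ Q, φ ≫ πQ = πP ≫ (ChainComplex.single₀ C).map f := by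
  classical
  have hPzero : P.d 1 0 ≫ πP.f 0 = 0 := aug_zero P πP
  obtain ⟨z, hz⟩ := h0 (πP.f 0 ≫ ((ChainComplex.single₀ C).map f).f 0)
  have hh1 : (P.d 1 0 ≫ z) ≫ πQ.f 0 = 0 := by
    rw [assoc, hz, ← assoc, hPzero, zero_comp]
  obtain ⟨o, ho⟩ := h1 1 (P.d 1 0 ≫ z) hh1
  have ho' : o ≫ Q.d 1 0 = P.d 1 0 ≫ z := ho
  have key : ∀ (n : ℕ) (g' : P.X (n + 1) ⟶ Q.X (n + 1)) (g : P.X n ⟶ Q.X n)
      (_ : g' ≫ Q.d (n + 1) n = P.d (n + 1) n ≫ g),
      ∃ g'' : P.X (n + 2) ⟶ Q.X (n + 2), g'' ≫ Q.d (n + 2) (n + 1) = P.d (n + 2) (n + 1) ≫ g' := by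
    intro n g' g w
    exact h2 (n + 2) n (P.d (n + 2) (n + 1) ≫ g') (by simp [w])
  let φ : P ⟶ Q := ChainComplex.mkHom _ _ z o ho'
    fun n ⟨g, g', w⟩ => ⟨(key n g' g w).choose, (key n g' g w).choose_spec⟩
  refine ⟨φ, ?_⟩
  apply HomologicalComplex.to_single_hom_ext (j := 0)
  simp only [HomologicalComplex.comp_f]
  have : φ.f 0 = z := ChainComplex.mkHom_f_0 _ _ _ _ _ _
  rw [this, hz]

include h1 h2 in
lemma homotopy_zero (φ : P ⟶ Q) (comm : φ ≫ πQ = 0) : Nonempty (Homotopy φ 0) := by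
  classical
  have c0 : φ.f 0 ≫ πQ.f 0 = 0 := congr_fun (congr_arg HomologicalComplex.Hom.f comm) 0
  obtain ⟨zz, hzz⟩ := h1 0 (φ.f 0) c0
  have hzz' : zz ≫ Q.d 1 0 = φ.f 0 := hzz
  have hh1 : (φ.f 1 - P.d 1 0 ≫ zz) ≫ Q.d 1 0 = 0 := by
    rw [Preadditive.sub_comp, assoc, HomologicalComplex.Hom.comm, hzz', sub_self]
  obtain ⟨zo, hzo⟩ := h2 1 0 (φ.f 1 - P.d 1 0 ≫ zz) hh1
  have hzo' : zo ≫ Q.d 2 1 = φ.f 1 - P.d 1 0 ≫ zz := hzo
  have key : ∀ (n : ℕ) (g : P.X n ⟶ Q.X (n + 1)) (g' : P.X (n + 1) ⟶ Q.X (n + 2))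
      (_ : φ.f (n + 1) = P.d (n + 1) n ≫ g + g' ≫ Q.d (n + 2) (n + 1)),
      ∃ g'' : P.X (n + 2) ⟶ Q.X (n + 3),
        g'' ≫ Q.d (n + 3) (n + 2) = φ.f (n + 2) - P.d (n + 2) (n + 1) ≫ g' := by
    intro n g g' w
    exact h2 (n + 2) (n + 1) (φ.f (n + 2) - P.d _ _ ≫ g') (by simp [w])
  exact ⟨Homotopy.mkInductive _ zz (by simp [hzz']) zo (by simp [hzo'])
    fun n ⟨g, g', w⟩ => ⟨(key n g g' w).choose, by simp [(key n g g' w).choose_spec]⟩⟩

end General


section LinAlg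
open TensorProduct
variable {R : Type u} [CommRing R] {A' A B C : Type u} [AddCommGroup A'] [Module R A']
  [AddCommGroup A] [Module R A] [AddCommGroup B] [Module R B] [AddCommGroup C] [Module R C]

lemma rid_rTensor (f : A →ₗ[R] B) (v : A ⊗[R] R) :
    TensorProduct.rid R B (f.rTensor R v) = f (TensorProduct.rid R A v) := by
  induction v using TensorProduct.induction_on with
  | zero => simp
  | tmul a r => simp
  | add x y hx hy => simp [hx, hy]

/-- exactness after tensoring with the ring itself gives exactness. -/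
lemma exact_of_rTensor_self (f : A →ₗ[R] B) (g : B →ₗ[R] C)
    (h : ∀ w : B ⊗[R] R, g.rTensor R w = 0 → ∃ v : A ⊗[R] R, f.rTensor R v = w) :
    ∀ b, g b = 0 → ∃ a, f a = b := by
  intro b hb
  obtain ⟨v, hv⟩ := h (b ⊗ₜ 1) (by simp [hb])
  refine ⟨TensorProduct.rid R A v, ?_⟩
  rw [← rid_rTensor, hv, TensorProduct.rid_tmul, one_smul]

lemma surjective_of_rTensor_self (g : B →ₗ[R] C) (h : Function.Surjective (g.rTensor R)) :
    Function.Surjective g := by
  intro c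
  obtain ⟨v, hv⟩ := h (c ⊗ₜ 1)
  refine ⟨TensorProduct.rid R B v, ?_⟩
  rw [← rid_rTensor, hv, TensorProduct.rid_tmul, one_smul]

/-- `K = ker g`; if `A → K` is surjective and `A' ⊗ Q → A ⊗ Q → B ⊗ Q` is exact at `A ⊗ Q`,
then `K ⊗ Q → B ⊗ Q` is injective. -/
lemma injective_rTensor_ker (e : A' →ₗ[R] A) (f : A →ₗ[R] B) (g : B →ₗ[R] C)
    (hfe : ∀ x, f (e x) = 0) (hgf : ∀ x, g (f x) = 0)
    (hex : ∀ b, g b = 0 → ∃ a, f a = b)
    (Q : Type u) [AddCommGroup Q] [Module R Q]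
    (hexQ : ∀ w : A ⊗[R] Q, f.rTensor Q w = 0 → ∃ v : A' ⊗[R] Q, e.rTensor Q v = w) :
    Function.Injective ((LinearMap.ker g).subtype.rTensor Q) := by
  let q : A →ₗ[R] LinearMap.ker g := f.codRestrict (LinearMap.ker g) (fun a => hgf a)
  have hq : Function.Surjective q := by
    rintro ⟨b, hb⟩
    obtain ⟨a, ha⟩ := hex b hb
    exact ⟨a, Subtype.ext ha⟩
  have hqe : q ∘ₗ e = 0 := by
    ext x
    exact hfe x
  have hιq : (LinearMap.ker g).subtype ∘ₗ q = f := by
    ext x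
    rfl
  rw [injective_iff_map_eq_zero]
  intro z hz
  obtain ⟨w, rfl⟩ := LinearMap.rTensor_surjective Q hq z
  have h1 : f.rTensor Q w = 0 := by
    rw [← hιq, LinearMap.rTensor_comp]
    exact hz
  obtain ⟨v, rfl⟩ := hexQ w h1
  rw [← LinearMap.comp_apply, ← LinearMap.rTensor_comp, hqe, LinearMap.rTensor_zero,
    LinearMap.zero_apply]

end LinAlg

section ModuleCat
open TensorProduct MonoidalCategory
variable {R : Type u} [CommRing R] {N : ModuleCat.{u} R}
  (N' : ChainComplex (ModuleCat.{u} R) ℕ)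
  (ε : N' ⟶ (ChainComplex.single₀ (ModuleCat.{u} R)).obj N)
  (hN' : ∀ T : ModuleCat.{u} R,
      QuasiIso (((MonoidalCategory.tensorRight T).mapHomologicalComplex (ComplexShape.down ℕ)).map ε))

include hN' in
lemma tensored_exact_succ (T : ModuleCat.{u} R) (n : ℕ) (w : N'.X (n + 1) ⊗[R] T)
    (hw : (N'.d (n + 1) n).hom.rTensor T w = 0) :
    ∃ v : N'.X (n + 2) ⊗[R] T, (N'.d (n + 2) (n + 1)).hom.rTensor T v = w := by
  haveI := hN' T
  let F := (MonoidalCategory.tensorRight T).mapHomologicalComplex (ComplexShape.down ℕ)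
  have hex : (F.obj N').ExactAt (n + 1) := by
    rw [← quasiIsoAt_iff_exactAt' (F.map ε) (n + 1) ?_]
    · exact (hN' T).quasiIsoAt (n + 1)
    · apply HomologicalComplex.ExactAt.of_isZero
      exact Functor.map_isZero (MonoidalCategory.tensorRight T)
        (HomologicalComplex.isZero_single_obj_X _ _ _ _ (by simp))
  have h2 := ((HomologicalComplex.exactAt_iff' _ (n + 2) (n + 1) n)
    (by simp only [ChainComplex.prev]; rfl) (by simp)).1 hex
  rw [ShortComplex.moduleCat_exact_iff] at h2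
  exact h2 w hw

include hN' in
lemma tensored_exact_zero (T : ModuleCat.{u} R) :
    (∀ w : N'.X 0 ⊗[R] T, (ε.f 0).hom.rTensor T w = 0 →
      ∃ v : N'.X 1 ⊗[R] T, (N'.d 1 0).hom.rTensor T v = w) ∧
    Function.Surjective ((ε.f 0).hom.rTensor T) := by
  haveI := hN' T
  let F := (MonoidalCategory.tensorRight T).mapHomologicalComplex (ComplexShape.down ℕ)
  have h0 : QuasiIsoAt (F.map ε) 0 := (hN' T).quasiIsoAt 0
  rw [ChainComplex.quasiIsoAt₀_iff, ShortComplex.quasiIso_iff_of_zeros'] at h0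
  · obtain ⟨h1, h2⟩ := h0
    rw [ShortComplex.moduleCat_exact_iff] at h1
    refine ⟨fun w hw => h1 w hw, ?_⟩
    exact (ModuleCat.epi_iff_surjective _).1 h2
  · exact (F.obj N').shape 0 0 (by simp)
  · change (MonoidalCategory.tensorRight T).map
      (((ChainComplex.single₀ (ModuleCat.{u} R)).obj N).d 1 0) = 0
    rw [HomologicalComplex.single_obj_d, Functor.map_zero]
  · exact (F.obj ((ChainComplex.single₀ (ModuleCat.{u} R)).obj N)).shape 0 0 (by simp)

end ModuleCat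


section Assembly
open TensorProduct MonoidalCategory
variable {R : Type u} [CommRing R]

/-- the lifting property of pure projective modules (against universally exact surjections). -/
def PureProj (X : Type u) [AddCommGroup X] [Module R X] : Prop :=
  ∀ ⦃L T : Type u⦄ [AddCommGroup L] [Module R L] [AddCommGroup T] [Module R T] (g : L →ₗ[R] T),
    Function.Surjective g →
    (∀ (Q : Type u) [AddCommGroup Q] [Module R Q],
      Function.Injective ((LinearMap.ker g).subtype.rTensor Q)) →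
    ∀ φ : X →ₗ[R] T, ∃ ψ : X →ₗ[R] L, g ∘ₗ ψ = φ

lemma liftsAgainst_of_pureProj (X : ModuleCat.{u} R) (hX : PureProj (R := R) X)
    (S : ShortComplex (ModuleCat.{u} R))
    (hex : ∀ b : S.X₂, S.g.hom b = 0 → ∃ a : S.X₁, S.f.hom a = b)
    (hpure : ∀ (Q : Type u) [AddCommGroup Q] [Module R Q],
      Function.Injective ((LinearMap.ker S.f.hom).subtype.rTensor Q)) :
    LiftsAgainst X S := by
  intro φ hφ
  have hzero : ∀ a : S.X₁, S.g.hom (S.f.hom a) = 0 := fun a => by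
    rw [← LinearMap.comp_apply, ← ModuleCat.hom_comp, S.zero]
    rfl
  have hφ' : ∀ x : X, S.g.hom (φ.hom x) = 0 := fun x => by
    rw [← LinearMap.comp_apply, ← ModuleCat.hom_comp, hφ]
    rfl
  let q : S.X₁ →ₗ[R] LinearMap.ker S.g.hom := S.f.hom.codRestrict _ hzero
  have hq : Function.Surjective q := by
    rintro ⟨b, hb⟩
    obtain ⟨a, ha⟩ := hex b hb
    exact ⟨a, Subtype.ext ha⟩
  have hker : LinearMap.ker q = LinearMap.ker S.f.hom := LinearMap.ker_codRestrict _ _ _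
  let φ' : X →ₗ[R] LinearMap.ker S.g.hom := φ.hom.codRestrict _ hφ'
  obtain ⟨ψ, hψ⟩ := hX q hq (by rw [hker]; exact hpure) φ'
  refine ⟨ModuleCat.ofHom ψ, ?_⟩
  ext x
  have := congrArg (fun l : X →ₗ[R] LinearMap.ker S.g.hom => (l x).1) hψ
  exact this

variable {M N : ModuleCat.{u} R} (f : M ⟶ N) (P N' : ChainComplex (ModuleCat.{u} R) ℕ)
  (π : P ⟶ (ChainComplex.single₀ (ModuleCat.{u} R)).obj M)
  (ε : N' ⟶ (ChainComplex.single₀ (ModuleCat.{u} R)).obj N)
  (hP : ∀ n : ℕ, PureProj (R := R) (P.X n))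
  (hN' : ∀ T : ModuleCat.{u} R,
      QuasiIso (((MonoidalCategory.tensorRight T).mapHomologicalComplex (ComplexShape.down ℕ)).map ε))

omit f P π hP in
include hN' in
lemma exact_succ (n : ℕ) : ∀ b : N'.X (n + 1), (N'.d (n + 1) n).hom b = 0 →
    ∃ a : N'.X (n + 2), (N'.d (n + 2) (n + 1)).hom a = b :=
  exact_of_rTensor_self _ _ (tensored_exact_succ N' ε hN' (ModuleCat.of R R) n)

omit f P π hP in
include hN' in
lemma exact_zero : (∀ b : N'.X 0, (ε.f 0).hom b = 0 → ∃ a : N'.X 1, (N'.d 1 0).hom a = b) ∧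
    Function.Surjective (ε.f 0).hom :=
  ⟨exact_of_rTensor_self _ _ (tensored_exact_zero N' ε hN' (ModuleCat.of R R)).1,
    surjective_of_rTensor_self _ (tensored_exact_zero N' ε hN' (ModuleCat.of R R)).2⟩

omit f P π hP hN' in
lemma dd_zero (i j k : ℕ) (x : N'.X i) : (N'.d j k).hom ((N'.d i j).hom x) = 0 := by
  rw [← LinearMap.comp_apply, ← ModuleCat.hom_comp, N'.d_comp_d]
  rfl

omit f P π hP in
include hN' in
lemma univInj_ker_succ (n : ℕ) (Q : Type u) [AddCommGroup Q] [Module R Q] :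
    Function.Injective ((LinearMap.ker (N'.d (n + 1) n).hom).subtype.rTensor Q) :=
  injective_rTensor_ker (N'.d (n + 3) (n + 2)).hom (N'.d (n + 2) (n + 1)).hom (N'.d (n + 1) n).hom
    (dd_zero N' _ _ _) (dd_zero N' _ _ _) (exact_succ N' ε hN' n) Q
    (tensored_exact_succ N' ε hN' (ModuleCat.of R Q) (n + 1))

omit f P π hP in
include hN' in
lemma univInj_ker_zero (Q : Type u) [AddCommGroup Q] [Module R Q] :
    Function.Injective ((LinearMap.ker (ε.f 0).hom).subtype.rTensor Q) :=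
  injective_rTensor_ker (N'.d 2 1).hom (N'.d 1 0).hom (ε.f 0).hom
    (dd_zero N' _ _ _) (fun x => by
      rw [← LinearMap.comp_apply, ← ModuleCat.hom_comp, aug_zero N' ε]
      rfl) (exact_zero N' ε hN').1 Q
    (tensored_exact_succ N' ε hN' (ModuleCat.of R Q) 0)

omit f π in
include hP hN' in
lemma pure_h0 : ∀ φ : P.X 0 ⟶ ((ChainComplex.single₀ (ModuleCat.{u} R)).obj N).X 0,
    ∃ ψ : P.X 0 ⟶ N'.X 0, ψ ≫ ε.f 0 = φ := by
  intro φ
  obtain ⟨ψ, hψ⟩ := hP 0 (ε.f 0).hom (exact_zero N' ε hN').2 (univInj_ker_zero N' ε hN') φ.hom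
  refine ⟨ModuleCat.ofHom ψ, ?_⟩
  ext x
  exact LinearMap.congr_fun hψ x

omit f π in
include hP hN' in
lemma pure_h1 : ∀ n, LiftsAgainst (P.X n)
    (ShortComplex.mk (N'.d 1 0) (ε.f 0) (aug_zero N' ε)) := fun n =>
  liftsAgainst_of_pureProj (P.X n) (hP n) _ (exact_zero N' ε hN').1 (univInj_ker_succ N' ε hN' 0)

omit f π in
include hP hN' in
lemma pure_h2 : ∀ n m, LiftsAgainst (P.X n)
    (ShortComplex.mk _ _ (N'.d_comp_d (m + 2) (m + 1) m)) := fun n m =>
  liftsAgainst_of_pureProj (P.X n) (hP n) _ (exact_succ N' ε hN' m)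
    (univInj_ker_succ N' ε hN' (m + 1))

include hP hN' in
theorem pure_exists_lift : ∃ φ : P ⟶ N', φ ≫ ε = π ≫ (ChainComplex.single₀ (ModuleCat.{u} R)).map f :=
  exists_lift f P N' π ε (pure_h0 P N' ε hP hN') (pure_h1 P N' ε hP hN') (pure_h2 P N' ε hP hN')

omit π in
include hP hN' in
theorem pure_homotopy_zero (φ : P ⟶ N') (comm : φ ≫ ε = 0) : Nonempty (Homotopy φ 0) :=
  homotopy_zero P N' ε (pure_h1 P N' ε hP hN') (pure_h2 P N' ε hP hN') φ comm

end Assembly

end Helper57.PureRes
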