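import Mathlib
import Groth.Agent.Lib.Helper57.PureCover

/-!
# Existence of pure projective resolutions

Iterating the canonical cover `Helper57.PureCover.cover` on kernels gives a chain complex of direct
sums of finitely presented modules, augmented to `M`, which stays exact after any tensor product.
-/

set_option autoImplicit false
universe u

open CategoryTheory TensorProduct Helper57.PureCover

namespace Helper57.PureResExists

variable (R : Type u) [CommRing R]

/-- a stage: a module to be covered. -/
structure Stg where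
  K : Type u
  [ag : AddCommGroup K]
  [md : Module R K]

attribute [instance] Stg.ag Stg.md

variable {R}

/-- the covering direct sum. -/
abbrev Stg.F (s : Stg R) : Type u := Π₀ i, CQ R s.K i

noncomputable def Stg.p (s : Stg R) : s.F →ₗ[R] s.K := cover R s.K

lemma Stg.p_surj (s : Stg R) : Function.Surjective s.p := cover_surjective R s.K

lemma Stg.p_univ (s : Stg R) (T : Type u) [AddCommGroup T] [Module R T] :
    Function.Injective ((LinearMap.ker s.p).subtype.rTensor T) := cover_univInj R s.K T

noncomputable def Stg.next (s : Stg R) : Stg R := ⟨LinearMap.ker s.p⟩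

/-- the cover of the kernel, typed as landing in the kernel. -/
noncomputable def Stg.q (s : Stg R) : s.next.F →ₗ[R] (LinearMap.ker s.p) := s.next.p

lemma Stg.q_surj (s : Stg R) : Function.Surjective s.q := s.next.p_surj

noncomputable def Stg.dd (s : Stg R) : s.next.F →ₗ[R] s.F :=
  (LinearMap.ker s.p).subtype ∘ₗ s.q

lemma Stg.p_dd (s : Stg R) (x : s.next.F) : s.p (s.dd x) = 0 := (s.q x).2

lemma Stg.ker_q (s : Stg R) : LinearMap.ker s.q = LinearMap.ker s.next.p := rfl

lemma Stg.dd_dd (s : Stg R) (x : s.next.next.F) : s.dd (s.next.dd x) = 0 := by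
  have h : s.q (s.next.dd x) = 0 := s.next.p_dd x
  change (LinearMap.ker s.p).subtype (s.q (s.next.dd x)) = 0
  rw [h, map_zero]

/-- tensored exactness at the bottom. -/
lemma Stg.texact₀ (s : Stg R) (T : Type u) [AddCommGroup T] [Module R T]
    (w : s.F ⊗[R] T) (hw : s.p.rTensor T w = 0) : ∃ v, s.dd.rTensor T v = w := by
  have hex := rTensor_exact T (LinearMap.exact_subtype_ker_map s.p) s.p_surj
  obtain ⟨c, hc⟩ := (hex w).1 hw
  obtain ⟨v, hv⟩ := LinearMap.rTensor_surjective T s.q_surj c
  refine ⟨v, ?_⟩
  rw [Stg.dd, LinearMap.rTensor_comp, LinearMap.comp_apply, hv, hc]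

/-- tensored exactness in higher degrees. -/
lemma Stg.texact (s : Stg R) (T : Type u) [AddCommGroup T] [Module R T]
    (w : s.next.F ⊗[R] T) (hw : s.dd.rTensor T w = 0) : ∃ v, s.next.dd.rTensor T v = w := by
  have h1 : s.q.rTensor T w = 0 := by
    apply s.p_univ T
    rw [map_zero, ← LinearMap.comp_apply, ← LinearMap.rTensor_comp]
    exact hw
  exact s.next.texact₀ T w h1

lemma Stg.tsurj (s : Stg R) (T : Type u) [AddCommGroup T] [Module R T] :
    Function.Surjective (s.p.rTensor T) := LinearMap.rTensor_surjective T s.p_surj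

variable (R) (M : Type u) [AddCommGroup M] [Module R M]

noncomputable def stg : ℕ → Stg R
  | 0 => ⟨M⟩
  | n + 1 => (stg n).next

noncomputable def X (n : ℕ) : ModuleCat.{u} R := ModuleCat.of R (stg R M n).F

noncomputable def d (n : ℕ) : X R M (n + 1) ⟶ X R M n := ModuleCat.ofHom (stg R M n).dd

lemma d_comp (n : ℕ) : d R M (n + 1) ≫ d R M n = 0 := by
  ext x
  exact (stg R M n).dd_dd x

noncomputable def cx : ChainComplex (ModuleCat.{u} R) ℕ :=
  ChainComplex.of (X R M) (d R M) (d_comp R M)

lemma cx_d (n : ℕ) : (cx R M).d (n + 1) n = d R M n := ChainComplex.of_d _ _ n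

noncomputable def eps : X R M 0 ⟶ ModuleCat.of R M := ModuleCat.ofHom (stg R M 0).p

lemma cx_d_eps : (cx R M).d 1 0 ≫ eps R M = 0 := by
  rw [cx_d]
  ext x
  exact (stg R M 0).p_dd x

noncomputable def aug : cx R M ⟶ (ChainComplex.single₀ (ModuleCat.{u} R)).obj (ModuleCat.of R M) :=
  (ChainComplex.toSingle₀Equiv _ _).symm ⟨eps R M, cx_d_eps R M⟩

lemma aug_f0 : (aug R M).f 0 = eps R M :=
  ChainComplex.toSingle₀Equiv_symm_apply_f_zero (C := cx R M) (X := ModuleCat.of R M)
    (eps R M) (cx_d_eps R M)

open MonoidalCategory in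
theorem aug_quasiIso (T : ModuleCat.{u} R) :
    QuasiIso (((MonoidalCategory.tensorRight T).mapHomologicalComplex (ComplexShape.down ℕ)).map
      (aug R M)) := by
  let F := (MonoidalCategory.tensorRight T).mapHomologicalComplex (ComplexShape.down ℕ)
  refine ⟨fun n => ?_⟩
  cases n with
  | zero =>
    rw [ChainComplex.quasiIsoAt₀_iff, ShortComplex.quasiIso_iff_of_zeros']
    · constructor
      · rw [ShortComplex.moduleCat_exact_iff]
        intro w hw
        change (((aug R M).f 0) ▷ T).hom w = 0 at hw
        rw [aug_f0] at hw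
        obtain ⟨v, hv⟩ := (stg R M 0).texact₀ T w hw
        refine ⟨v, ?_⟩
        change (((cx R M).d 1 0) ▷ T).hom v = w
        rw [cx_d]
        exact hv
      · change Epi (((aug R M).f 0) ▷ T)
        rw [aug_f0]
        have : Epi (eps R M ▷ T) := (ModuleCat.epi_iff_surjective _).2 ((stg R M 0).tsurj T)
        exact this
    · exact (F.obj (cx R M)).shape 0 0 (by simp)
    · change (MonoidalCategory.tensorRight T).map
        (((ChainComplex.single₀ (ModuleCat.{u} R)).obj (ModuleCat.of R M)).d 1 0) = 0
      rw [HomologicalComplex.single_obj_d, Functor.map_zero]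
    · exact (F.obj ((ChainComplex.single₀ (ModuleCat.{u} R)).obj (ModuleCat.of R M))).shape 0 0
        (by simp)
  | succ n =>
    rw [quasiIsoAt_iff_exactAt']
    · rw [HomologicalComplex.exactAt_iff' _ (n + 1 + 1) (n + 1) n (by simp) (by simp)]
      rw [ShortComplex.moduleCat_exact_iff]
      intro w hw
      change (((cx R M).d (n + 1) n) ▷ T).hom w = 0 at hw
      rw [cx_d] at hw
      obtain ⟨v, hv⟩ := (stg R M n).texact T w hw
      refine ⟨v, ?_⟩
      change (((cx R M).d (n + 1 + 1) (n + 1)) ▷ T).hom v = w
      rw [cx_d]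
      exact hv
    · apply HomologicalComplex.ExactAt.of_isZero
      exact Functor.map_isZero (MonoidalCategory.tensorRight T)
        (HomologicalComplex.isZero_single_obj_X _ _ _ _ (by simp))

end Helper57.PureResExists
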