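import Mathlib

/-! Generic lemmas for S2027 (desingularization lemma): flat annihilators, determinant trick,
second-order Taylor expansion and chain rule for multivariate polynomials, right inverses
from maximal minors. -/

set_option autoImplicit false
universe u

namespace Groth.Agent.Lib.Helper57.S2027Core

open MvPolynomial

/-- annihilators of `π²` in a flat module -/
theorem flat_ann {R N : Type*} [CommRing R] [AddCommGroup N] [Module R N] [Module.Flat R N]
    (π r : R) (hr : ∀ x : R, π ^ 2 * x = 0 → π * (r * x) = 0) (x : N) (hx : π ^ 2 • x = 0) :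
    π • r • x = 0 := by
  have h0 : ∑ i : Unit, (fun _ : Unit => π ^ 2) i • (fun _ : Unit => x) i = 0 := by
    simpa using hx
  obtain ⟨k, a, y, h1, h2⟩ := Module.Flat.isTrivialRelation_of_sum_smul_eq_zero h0
  have h1' := h1 ()
  have h2' : ∀ j, π ^ 2 * a () j = 0 := by
    intro j
    simpa using h2 j
  change x = _ at h1'
  rw [h1', Finset.smul_sum, Finset.smul_sum]
  refine Finset.sum_eq_zero fun j _ => ?_
  rw [smul_smul, smul_smul, mul_assoc, hr _ (h2' j), zero_smul]

/-- determinant trick -/
theorem det_mul_eq_zero {N : Type*} [CommRing N] {p : ℕ} (M : Matrix (Fin p) (Fin p) N)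
    (e : Fin p → N) (h : M.mulVec e = 0) (j : Fin p) : M.det * e j = 0 := by
  have h1 : (M.adjugate * M).mulVec e = 0 := by
    rw [← Matrix.mulVec_mulVec, h, Matrix.mulVec_zero]
  rw [Matrix.adjugate_mul, Matrix.smul_mulVec, Matrix.one_mulVec] at h1
  have := congrFun h1 j
  simpa using this

theorem lemmaX {R N : Type*} [CommRing R] [CommRing N] [Algebra R N] [Module.Flat R N]
    (π r : R) (hr : ∀ x : R, π ^ 2 * x = 0 → π * (r * x) = 0) {p : ℕ} (t : Fin p → N)
    (ht : ∀ j, ∃ a : Fin p → N,
      algebraMap R N (π ^ 3) * t j = algebraMap R N (π ^ 4) * ∑ k, a k * t k) :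
    ∃ b b' : N, b = algebraMap R N (r ^ (2 * p)) + algebraMap R N π * b' ∧
      ∀ j, b * (algebraMap R N π * t j) = 0 := by
  classical
  choose a ha using ht
  -- r² π t_j = Σ_k π r² a_jk (π t_k)
  have key : ∀ j, algebraMap R N (r ^ 2) * (algebraMap R N π * t j) =
      ∑ k, (algebraMap R N π * (algebraMap R N (r ^ 2) * a j k)) * (algebraMap R N π * t k) := by
    intro j
    set x : N := t j - algebraMap R N π * ∑ k, a j k * t k with hx
    have h3 : π ^ 2 • (π • x) = 0 := by
      rw [smul_smul, ← pow_succ, Algebra.smul_def, hx, mul_sub, ha j, ← mul_assoc, ← map_mul,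
        ← pow_succ, sub_self]
    have h4 := flat_ann π r hr _ h3
    have h5 : π ^ 2 • (r • x) = 0 := by
      rw [← h4]
      simp only [smul_smul]
      congr 1
      ring
    have h6 := flat_ann π r hr _ h5
    simp only [smul_smul, Algebra.smul_def, hx] at h6
    have h7 : algebraMap R N (r ^ 2) * (algebraMap R N π * t j) =
        algebraMap R N (π * r * r) * t j := by
      rw [← mul_assoc, ← map_mul]
      congr 2
      ring
    rw [h7]
    have h8 : algebraMap R N (π * r * r) * t j =
        algebraMap R N (π * r * r) * (algebraMap R N π * ∑ k, a j k * t k) := by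
      rw [← sub_eq_zero]
      rw [← h6]
      simp only [map_mul]
      ring
    rw [h8, Finset.mul_sum, Finset.mul_sum]
    refine Finset.sum_congr rfl fun k _ => ?_
    simp only [map_mul, map_pow]
    ring
  let M : Matrix (Fin p) (Fin p) N :=
    algebraMap R N (r ^ 2) • (1 : Matrix (Fin p) (Fin p) N) -
      Matrix.of fun j k => algebraMap R N π * (algebraMap R N (r ^ 2) * a j k)
  have hM : M.mulVec (fun j => algebraMap R N π * t j) = 0 := by
    ext j
    simp only [M, Matrix.sub_mulVec, Matrix.smul_mulVec, Matrix.one_mulVec, Pi.sub_apply,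
      Pi.smul_apply, smul_eq_mul, Pi.zero_apply]
    rw [key j, sub_eq_zero]
    simp [Matrix.mulVec, dotProduct]
  have hdet : M.det - algebraMap R N (r ^ (2 * p)) ∈ Ideal.span {algebraMap R N π} := by
    rw [← Ideal.Quotient.eq, RingHom.map_det]
    have : (Ideal.Quotient.mk (Ideal.span {algebraMap R N π})).mapMatrix M =
        (Ideal.Quotient.mk (Ideal.span {algebraMap R N π}) (algebraMap R N (r ^ 2))) •
          (1 : Matrix (Fin p) (Fin p) _) := by
      ext j k
      have hz : Ideal.Quotient.mk (Ideal.span {algebraMap R N π}) (algebraMap R N π) = 0 :=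
        Ideal.Quotient.eq_zero_iff_mem.2 (Ideal.subset_span rfl)
      simp only [M, RingHom.mapMatrix_apply, Matrix.map_apply, Matrix.sub_apply, Matrix.smul_apply,
        Matrix.of_apply, map_sub, map_mul, smul_eq_mul, hz, zero_mul, sub_zero]
      by_cases hjk : j = k
      · subst hjk; simp
      · simp [Matrix.one_apply_ne hjk]
    rw [this, Matrix.det_smul, Matrix.det_one, mul_one, Fintype.card_fin, ← map_pow, ← map_pow,
      ← pow_mul]
  obtain ⟨b', hb'⟩ := Ideal.mem_span_singleton'.1 hdet
  refine ⟨M.det, b', ?_, fun j => det_mul_eq_zero M _ hM j⟩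
  have : M.det = algebraMap R N (r ^ (2 * p)) + b' * algebraMap R N π := by rw [hb']; ring
  rw [this]
  ring

/-- pull back of `lemmaX` along a localization away from `Δ` -/
theorem lemmaX' {R B' : Type*} [CommRing R] [CommRing B'] [Algebra R B'] (Δ : B')
    [Module.Flat R (Localization.Away Δ)]
    (π r : R) (hr : ∀ x : R, π ^ 2 * x = 0 → π * (r * x) = 0) {p : ℕ} (t : Fin p → B')
    (ht : ∀ j, ∃ a : Fin p → B',
      algebraMap R B' (π ^ 3) * t j = algebraMap R B' (π ^ 4) * ∑ k, a k * t k) :
    ∃ (p₀ p₂ : B') (k : ℕ), p₀ = algebraMap R B' (r ^ (2 * p)) * Δ ^ k + algebraMap R B' π * p₂ ∧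
      ∀ j, p₀ * (algebraMap R B' π * t j) = 0 := by
  classical
  have hν : ∀ x : R, algebraMap R (Localization.Away Δ) x =
      algebraMap B' (Localization.Away Δ) (algebraMap R B' x) := fun x =>
    IsScalarTower.algebraMap_apply R B' (Localization.Away Δ) x
  have ht' : ∀ j, ∃ a : Fin p → Localization.Away Δ,
      algebraMap R (Localization.Away Δ) (π ^ 3) * (algebraMap B' (Localization.Away Δ) (t j)) =
        algebraMap R (Localization.Away Δ) (π ^ 4) *
          ∑ k, a k * algebraMap B' (Localization.Away Δ) (t k) := by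
    intro j
    obtain ⟨a, ha⟩ := ht j
    refine ⟨fun k => algebraMap B' _ (a k), ?_⟩
    have := congrArg (algebraMap B' (Localization.Away Δ)) ha
    simpa only [map_mul, map_sum, ← hν] using this
  obtain ⟨b, b', hb, hbt⟩ := lemmaX π r hr (fun j => algebraMap B' (Localization.Away Δ) (t j)) ht'
  obtain ⟨k, q, hq⟩ := IsLocalization.Away.surj Δ b'
  set c₀ : B' := algebraMap R B' (r ^ (2 * p)) * Δ ^ k + algebraMap R B' π * q with hc₀
  have hc : algebraMap B' (Localization.Away Δ) c₀ =
      b * algebraMap B' (Localization.Away Δ) Δ ^ k := by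
    rw [hc₀, map_add, map_mul, map_mul, ← hν, ← hν,
      map_pow (algebraMap B' (Localization.Away Δ)) Δ k, ← hq, hb]
    ring
  have hz : ∀ j, ∃ kj : ℕ, Δ ^ kj * (c₀ * (algebraMap R B' π * t j)) = 0 := by
    intro j
    have h0 : algebraMap B' (Localization.Away Δ) (c₀ * (algebraMap R B' π * t j)) = 0 := by
      rw [map_mul, hc, map_mul, ← hν]
      have := hbt j
      rw [mul_right_comm, this, zero_mul]
    obtain ⟨⟨_, kj, rfl⟩, hkj⟩ :=
      (IsLocalization.map_eq_zero_iff (Submonoid.powers Δ) (Localization.Away Δ) _).1 h0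
    exact ⟨kj, hkj⟩
  choose kj hkj using hz
  set K := Finset.univ.sup kj with hK
  refine ⟨Δ ^ K * c₀, Δ ^ K * q, k + K, ?_, ?_⟩
  · rw [hc₀, pow_add]
    ring
  · intro j
    have hle : kj j ≤ K := Finset.le_sup (Finset.mem_univ j)
    have : Δ ^ K = Δ ^ (K - kj j) * Δ ^ kj j := by rw [← pow_add]; congr 1; omega
    rw [this, mul_assoc, mul_assoc, hkj j, mul_zero]

/-- second order Taylor expansion -/
theorem taylor2 {R S : Type*} [CommRing R] [CommRing S] [Algebra R S] {n : ℕ}
    (f : MvPolynomial (Fin n) R) (pt : Fin n → R) (y : Fin n → S) (t : S) :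
    ∃ Q : S, aeval (fun i => algebraMap R S (pt i) + t * y i) f =
      algebraMap R S (eval pt f) +
        t * ∑ i, algebraMap R S (eval pt (pderiv i f)) * y i + t ^ 2 * Q := by
  classical
  induction f using MvPolynomial.induction_on with
  | C a =>
    refine ⟨0, ?_⟩
    simp
  | add f g hf hg =>
    obtain ⟨Q1, h1⟩ := hf
    obtain ⟨Q2, h2⟩ := hg
    refine ⟨Q1 + Q2, ?_⟩
    rw [map_add, h1, h2]
    simp only [map_add, add_mul, Finset.sum_add_distrib]
    ring
  | mul_X f k hf =>
    obtain ⟨Q1, h1⟩ := hf
    refine ⟨Q1 * algebraMap R S (pt k) +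
      (∑ i, algebraMap R S (eval pt (pderiv i f)) * y i) * y k + t * Q1 * y k, ?_⟩
    rw [map_mul, h1, aeval_X]
    have hd : ∀ i, algebraMap R S (eval pt (pderiv i (f * X k))) * y i =
        algebraMap R S (eval pt (pderiv i f)) * y i * algebraMap R S (pt k) +
          (if i = k then algebraMap R S (eval pt f) * y k else 0) := by
      intro i
      rw [Derivation.leibniz, pderiv_X]
      simp only [smul_eq_mul, map_add, map_mul, eval_X]
      by_cases hik : i = k
      · subst hik
        simp only [Pi.single_eq_same, map_one, mul_one, if_true]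
        ring
      · rw [Pi.single_eq_of_ne' hik, if_neg hik]
        simp only [map_zero, mul_zero, zero_mul, add_zero]
        ring
    simp_rw [hd]
    rw [Finset.sum_add_distrib, Finset.sum_ite_eq' Finset.univ k, if_pos (Finset.mem_univ k),
      ← Finset.sum_mul]
    simp only [map_mul, eval_X]
    ring

/-- chain rule for substitutions -/
theorem pderiv_aeval {R : Type*} [CommRing R] {n : ℕ} {τ : Type*}
    (σ₀ : Fin n → MvPolynomial τ R) (f : MvPolynomial (Fin n) R) (k : τ) :
    pderiv k (aeval σ₀ f) = ∑ i, aeval σ₀ (pderiv i f) * pderiv k (σ₀ i) := by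
  classical
  induction f using MvPolynomial.induction_on with
  | C a => simp
  | add f g hf hg =>
    rw [map_add, map_add, hf, hg, ← Finset.sum_add_distrib]
    refine Finset.sum_congr rfl fun i _ => ?_
    rw [map_add, map_add, add_mul]
  | mul_X f j hf =>
    rw [map_mul, Derivation.leibniz, hf, aeval_X]
    have hd : ∀ i, aeval σ₀ (pderiv i (f * X j)) * pderiv k (σ₀ i) =
        σ₀ j * (aeval σ₀ (pderiv i f) * pderiv k (σ₀ i)) +
          (if i = j then aeval σ₀ f * pderiv k (σ₀ j) else 0) := by
      intro i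
      rw [Derivation.leibniz, pderiv_X]
      simp only [smul_eq_mul, map_add, map_mul, aeval_X]
      by_cases hij : i = j
      · subst hij
        simp only [Pi.single_eq_same, map_one, mul_one, if_true]
        ring
      · rw [Pi.single_eq_of_ne' hij, if_neg hij]
        simp only [map_zero, mul_zero, zero_mul, add_zero]
        ring
    simp_rw [hd]
    rw [Finset.sum_add_distrib, Finset.sum_ite_eq' Finset.univ j, if_pos (Finset.mem_univ j),
      ← Finset.mul_sum]
    simp only [smul_eq_mul]
    ring

/-- right inverse up to a combination of maximal minors -/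
theorem exists_right_inv {T : Type*} [CommRing T] {c n : ℕ} (J : Matrix (Fin c) (Fin n) T)
    (α : (Fin c → Fin n) → T) :
    ∃ s : Matrix (Fin n) (Fin c) T,
      J * s = (∑ I : Fin c → Fin n, α I * (J.submatrix id I).det) • (1 : Matrix (Fin c) (Fin c) T) := by
  classical
  refine ⟨∑ I : Fin c → Fin n, α I •
    ((Matrix.of fun (i : Fin n) (l : Fin c) => if I l = i then (1 : T) else 0) *
      Matrix.adjugate (J.submatrix id I)), ?_⟩
  rw [Matrix.mul_sum, Finset.sum_smul]
  refine Finset.sum_congr rfl fun I _ => ?_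
  rw [Matrix.mul_smul, ← Matrix.mul_assoc]
  have : J * (Matrix.of fun (i : Fin n) (l : Fin c) => if I l = i then (1 : T) else 0) =
      J.submatrix id I := by
    ext j l
    simp [Matrix.mul_apply, Matrix.submatrix_apply]
  rw [this, Matrix.mul_adjugate, smul_smul]

end Groth.Agent.Lib.Helper57.S2027Core
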