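import Mathlib
import Groth.Prelude.Def_Smoothing
import Groth.Agent.Lib.Helper57.S2027Core
import Groth.Agent.Lib.Helper11.ElemStd
import Groth.Agent.Lib.Helper62.ElemStdPerm
import Groth.Agent.S2032

/-! The construction in the lifting lemma (S2024). -/

set_option autoImplicit false
universe u

namespace Groth.Agent.Lib.Helper57.S2024Lift

open MvPolynomial Smoothing Groth.Agent.Lib.Helper57.S2027Core

/-- a chart: a choice of rows and columns together with an element `q` multiplying all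
relations into the chosen ones modulo `π²` -/
structure Chart (R : Type u) [CommRing R] (n m : ℕ) where
  c : ℕ
  rows : Fin c ↪ Fin m
  cols : Fin c ↪ Fin n
  q : MvPolynomial (Fin n) R
  h : Fin m → Fin c → MvPolynomial (Fin n) R
  g : Fin m → MvPolynomial (Fin n) R

variable {R : Type u} [CommRing R] {n m : ℕ} (f : Fin m → MvPolynomial (Fin n) R) (π : R)

/-- validity of a chart -/
structure Chart.Valid (T : Chart R n m) : Prop where
  eq : ∀ ℓ, T.q * f ℓ = ∑ j, T.h ℓ j * f (T.rows j) + C (π ^ 2) * T.g ℓ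
  triv_h : ∀ j j', T.h (T.rows j) j' = if j = j' then T.q else 0
  triv_g : ∀ j, T.g (T.rows j) = 0

/-- the polynomial ring of `D` -/
abbrev Pol (R : Type u) [CommRing R] (n m : ℕ) : Type u := MvPolynomial (Fin (n + m)) R

/-- inclusion of the `x` variables -/
noncomputable def ι : MvPolynomial (Fin n) R →ₐ[R] Pol R n m := rename (Fin.castAdd m)

/-- the `z` variables -/
noncomputable def z (j : Fin m) : Pol R n m := X (Fin.natAdd n j)

/-- the relations `f_j - π z_j` -/
noncomputable def relF (j : Fin m) : Pol R n m := ι (f j) - C π * z j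

/-- the relations `p_{k,ℓ}` -/
noncomputable def relP (T : Chart R n m) (ℓ : Fin m) : Pol R n m :=
  ι T.q * z ℓ - ∑ j, ι (T.h ℓ j) * z (T.rows j) - C π * ι (T.g ℓ)

theorem ident {T : Chart R n m} (hT : T.Valid f π) (ℓ : Fin m) :
    ι T.q * relF f π ℓ = ∑ j, ι (T.h ℓ j) * relF f π (T.rows j) - C π * relP π T ℓ := by
  have h1 := congrArg (ι (m := m)) (hT.eq ℓ)
  rw [map_mul, map_add, map_sum, map_mul] at h1
  simp only [map_mul] at h1
  have hC : (ι (m := m)) (C (π ^ 2) : MvPolynomial (Fin n) R) = C π * C π := by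
    rw [ι, rename_C, ← C_mul, sq]
  rw [hC] at h1
  simp only [relF, relP, mul_sub, Finset.sum_sub_distrib, Finset.mul_sum]
  rw [h1]
  have : ∀ j, C π * (ι (T.h ℓ j) * z (T.rows j)) = ι (T.h ℓ j) * (C π * z (T.rows j)) :=
    fun j => by ring
  simp_rw [this]
  ring

theorem relP_triv {T : Chart R n m} (hT : T.Valid f π) (j : Fin T.c) :
    relP π T (T.rows j) = 0 := by
  classical
  rw [relP, hT.triv_g, map_zero, mul_zero, sub_zero]
  simp_rw [hT.triv_h]
  rw [Finset.sum_eq_single j]
  · rw [if_pos rfl, sub_self]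
  · intro j' _ hj'
    rw [if_neg (Ne.symm hj'), map_zero, zero_mul]
  · intro h; exact absurd (Finset.mem_univ j) h

open Classical in
/-- the leading relations of the chart -/
noncomputable def lead (T : Chart R n m) (ℓ : Fin m) : Pol R n m :=
  if ℓ ∈ Set.range T.rows then relF f π ℓ else relP π T ℓ

theorem lead_rows (T : Chart R n m) (j : Fin T.c) : lead f π T (T.rows j) = relF f π (T.rows j) := by
  rw [lead, if_pos ⟨j, rfl⟩]

theorem lead_not (T : Chart R n m) (ℓ : Fin m) (hℓ : ℓ ∉ Set.range T.rows) :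
    lead f π T ℓ = relP π T ℓ := by
  rw [lead, if_neg hℓ]

theorem relP_mem_lead {T : Chart R n m} (hT : T.Valid f π) (ℓ : Fin m) :
    relP π T ℓ ∈ Ideal.span (Set.range (lead f π T)) := by
  by_cases hℓ : ℓ ∈ Set.range T.rows
  · obtain ⟨j, rfl⟩ := hℓ
    rw [relP_triv f π hT]
    exact Ideal.zero_mem _
  · rw [← lead_not f π T ℓ hℓ]
    exact Ideal.subset_span ⟨ℓ, rfl⟩

theorem claimA {T : Chart R n m} (hT : T.Valid f π) (ℓ : Fin m) :
    ι T.q * relF f π ℓ ∈ Ideal.span (Set.range (lead f π T)) := by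
  rw [ident f π hT ℓ]
  refine Ideal.sub_mem _ (Ideal.sum_mem _ fun j _ => Ideal.mul_mem_left _ _ ?_)
    (Ideal.mul_mem_left _ _ (relP_mem_lead f π hT ℓ))
  rw [← lead_rows f π T j]
  exact Ideal.subset_span ⟨_, rfl⟩

theorem claimB {T : Chart R n m} (hT : T.Valid f π) (ℓ : Fin m) :
    C π * relP π T ℓ ∈ Ideal.span (Set.range (relF f π)) := by
  have h := ident f π hT ℓ
  have h2 : C π * relP π T ℓ = ∑ j, ι (T.h ℓ j) * relF f π (T.rows j) - ι T.q * relF f π ℓ := by
    rw [h]; ring
  rw [h2]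
  exact Ideal.sub_mem _ (Ideal.sum_mem _ fun j _ => Ideal.mul_mem_left _ _
    (Ideal.subset_span ⟨_, rfl⟩)) (Ideal.mul_mem_left _ _ (Ideal.subset_span ⟨_, rfl⟩))

theorem pderiv_z_ι (j : Fin m) (p : MvPolynomial (Fin n) R) :
    pderiv (Fin.natAdd n j) (ι (m := m) p) = 0 := by
  classical
  apply pderiv_eq_zero_of_notMem_vars
  intro hmem
  have h1 := vars_rename (Fin.castAdd m) p hmem
  rw [Finset.mem_image] at h1
  obtain ⟨i, -, hi⟩ := h1
  have := congrArg Fin.val hi
  simp at this
  omega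

theorem pderiv_x_ι (i : Fin n) (p : MvPolynomial (Fin n) R) :
    pderiv (Fin.castAdd m i) (ι (m := m) p) = ι (pderiv i p) :=
  pderiv_rename (Fin.castAdd_injective n m) i p

theorem pderiv_z_z (j j' : Fin m) :
    pderiv (Fin.natAdd n j') (z (R := R) (n := n) j) = if j = j' then 1 else 0 := by
  classical
  rw [z, pderiv_X]
  by_cases h : j = j'
  · subst h
    rw [Pi.single_eq_same, if_pos rfl]
  · rw [if_neg h, Pi.single_eq_of_ne' (by
      intro h2
      exact h (Fin.natAdd_injective _ _ h2).symm)]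

theorem pderiv_x_z (i : Fin n) (j : Fin m) :
    pderiv (Fin.castAdd m i) (z (R := R) (n := n) j) = 0 := by
  classical
  rw [z, pderiv_X, Pi.single_eq_of_ne' (by
    intro h
    have := congrArg Fin.val h
    simp at this
    omega)]

theorem pderiv_z_relF (j j' : Fin m) :
    pderiv (Fin.natAdd n j') (relF f π j) = if j = j' then - C π else 0 := by
  rw [relF, map_sub, pderiv_z_ι, zero_sub, Derivation.leibniz, pderiv_C, smul_zero, add_zero,
    pderiv_z_z, smul_eq_mul]
  by_cases h : j = j'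
  · rw [if_pos h, if_pos h, mul_one]
  · rw [if_neg h, if_neg h, mul_zero, neg_zero]


/-- the syzygy relations -/
noncomputable def relS (a : Fin m → MvPolynomial (Fin n) R) (g : MvPolynomial (Fin n) R) :
    Pol R n m := ∑ j, ι (a j) * z j - C π * ι g

/-- syzygies modulo `π²` -/
def IsSyz (a : Fin m → MvPolynomial (Fin n) R) (g : MvPolynomial (Fin n) R) : Prop :=
  ∑ j, a j * f j = C (π ^ 2) * g

theorem ι_C (a : R) : ι (m := m) (C a : MvPolynomial (Fin n) R) = C a := by
  rw [ι, rename_C]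

theorem pi_relS {a : Fin m → MvPolynomial (Fin n) R} {g : MvPolynomial (Fin n) R}
    (h : IsSyz f π a g) : C π * relS π a g = - ∑ j, ι (a j) * relF f π j := by
  have h1 := congrArg (ι (m := m)) h
  rw [map_sum, map_mul, ι_C] at h1
  simp only [map_mul] at h1
  have hC : (C (π ^ 2) : Pol R n m) = C π * C π := by rw [← C_mul, sq]
  rw [hC] at h1
  simp only [relF, relS, mul_sub, Finset.sum_sub_distrib, Finset.mul_sum]
  rw [h1]
  have : ∀ j, C π * (ι (a j) * z j) = ι (a j) * (C π * z j) := fun j => by ring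
  simp_rw [this]
  ring

theorem pi_relS_mem {a : Fin m → MvPolynomial (Fin n) R} {g : MvPolynomial (Fin n) R}
    (h : IsSyz f π a g) : C π * relS π a g ∈ Ideal.span (Set.range (relF f π)) := by
  rw [pi_relS f π h]
  exact Ideal.neg_mem_iff _ |>.2 (Ideal.sum_mem _ fun j _ => Ideal.mul_mem_left _ _
    (Ideal.subset_span ⟨_, rfl⟩))

/-- the ideal of `D` -/
noncomputable def ID : Ideal (Pol R n m) :=
  Ideal.span (Set.range (relF f π) ∪ {x | ∃ a g, IsSyz f π a g ∧ x = relS π a g})

theorem relF_mem (j : Fin m) : relF f π j ∈ ID f π :=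
  Ideal.subset_span (Or.inl ⟨j, rfl⟩)

theorem relS_mem {a : Fin m → MvPolynomial (Fin n) R} {g : MvPolynomial (Fin n) R}
    (h : IsSyz f π a g) : relS π a g ∈ ID f π :=
  Ideal.subset_span (Or.inr ⟨a, g, h, rfl⟩)

theorem ID_le {J : Ideal (Pol R n m)} (h1 : ∀ j, relF f π j ∈ J)
    (h2 : ∀ a g, IsSyz f π a g → relS π a g ∈ J) : ID f π ≤ J := by
  rw [ID, Ideal.span_le]
  rintro x (⟨j, rfl⟩ | ⟨a, g, h, rfl⟩)
  · exact h1 j
  · exact h2 a g h

open Classical in
/-- the syzygy of a chart -/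
noncomputable def chartSyz (T : Chart R n m) (ℓ : Fin m) : Fin m → MvPolynomial (Fin n) R :=
  fun j' => (if j' = ℓ then T.q else 0) - ∑ j, if T.rows j = j' then T.h ℓ j else 0

theorem isSyz_chart {T : Chart R n m} (hT : T.Valid f π) (ℓ : Fin m) :
    IsSyz f π (chartSyz T ℓ) (T.g ℓ) := by
  classical
  rw [IsSyz]
  simp only [chartSyz, sub_mul, Finset.sum_sub_distrib, ite_mul, zero_mul, Finset.sum_mul]
  rw [Finset.sum_ite_eq' Finset.univ ℓ, if_pos (Finset.mem_univ _), Finset.sum_comm]
  simp_rw [Finset.sum_ite_eq Finset.univ, if_pos (Finset.mem_univ _)]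
  rw [hT.eq ℓ]
  ring

theorem relP_eq_relS (T : Chart R n m) (ℓ : Fin m) :
    relP π T ℓ = relS π (chartSyz T ℓ) (T.g ℓ) := by
  classical
  rw [relP, relS]
  congr 1
  simp only [chartSyz, map_sub, sub_mul, Finset.sum_sub_distrib, map_sum, Finset.sum_mul]
  congr 1
  · simp_rw [apply_ite (ι (m := m)), map_zero, ite_mul, zero_mul]
    rw [Finset.sum_ite_eq' Finset.univ ℓ, if_pos (Finset.mem_univ _)]
  · rw [Finset.sum_comm]
    refine Finset.sum_congr rfl fun j _ => ?_
    simp_rw [apply_ite (ι (m := m)), map_zero, ite_mul, zero_mul]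
    rw [Finset.sum_ite_eq Finset.univ, if_pos (Finset.mem_univ _)]

theorem relP_mem {T : Chart R n m} (hT : T.Valid f π) (ℓ : Fin m) : relP π T ℓ ∈ ID f π := by
  rw [relP_eq_relS]
  exact relS_mem f π (isSyz_chart f π hT ℓ)

theorem lead_mem {T : Chart R n m} (hT : T.Valid f π) (ℓ : Fin m) : lead f π T ℓ ∈ ID f π := by
  rw [lead]
  split_ifs
  · exact relF_mem f π ℓ
  · exact relP_mem f π hT ℓ

section generic

variable {D : Type u} [CommRing D] [Algebra R D] (φ : Pol R n m →ₐ[R] D)
  (hφ : Function.Surjective φ) (hkerφ : RingHom.ker φ.toRingHom = ID f π)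

include hφ in
theorem fp_D [IsNoetherianRing R] : Algebra.FinitePresentation R D := by
  refine Algebra.FinitePresentation.of_surjective hφ ?_
  exact IsNoetherian.noetherian _

include hkerφ in
theorem φ_eq_zero {x : Pol R n m} (hx : x ∈ ID f π) : φ x = 0 := by
  have : x ∈ RingHom.ker φ.toRingHom := hkerφ ▸ hx
  exact this

include hkerφ in
theorem mem_of_φ_eq {x y : Pol R n m} (h : φ x = φ y) : x - y ∈ ID f π := by
  rw [← hkerφ]
  change φ (x - y) = 0
  rw [map_sub, h, sub_self]

include hφ hkerφ in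
theorem elemStd_gen {c t : ℕ} (gens : Fin t → Pol R n m)
    (hgens : Ideal.span (Set.range gens) = ID f π) (chosen : Fin c → Pol R n m)
    (hchosen : ∀ j, chosen j ∈ ID f π) (cols₀ : Fin c ↪ Fin (n + m)) (b : Pol R n m)
    (hkill : ∀ i, b * (Matrix.det (Matrix.of fun j k => pderiv (cols₀ k) (chosen j))) * gens i ∈
      Ideal.span (Set.range chosen)) :
    IsElementaryStandard R D
      (φ (b * (Matrix.det (Matrix.of fun j k => pderiv (cols₀ k) (chosen j))))) := by
  classical
  set F : Fin (c + t) → Pol R n m := Fin.append chosen gens with hF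
  have hrange : Set.range F = Set.range chosen ∪ Set.range gens := by
    ext x
    constructor
    · rintro ⟨i, rfl⟩
      induction i using Fin.addCases with
      | left j => exact Or.inl ⟨j, by rw [hF, Fin.append_left]⟩
      | right i => exact Or.inr ⟨i, by rw [hF, Fin.append_right]⟩
    · rintro (⟨j, rfl⟩ | ⟨i, rfl⟩)
      · exact ⟨Fin.castAdd t j, by rw [hF, Fin.append_left]⟩
      · exact ⟨Fin.natAdd c i, by rw [hF, Fin.append_right]⟩
  have hspan : Ideal.span (Set.range F) = ID f π := by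
    rw [hrange, Ideal.span_union, hgens]
    refine sup_eq_right.2 ?_
    rw [Ideal.span_le]
    rintro _ ⟨j, rfl⟩
    exact hchosen j
  have hker : RingHom.ker φ.toRingHom = Ideal.span (Set.range F) := by rw [hspan, hkerφ]
  have hrel : ∀ j, F ((Fin.castAddEmb t) j) = chosen j := by
    intro j
    simp [hF]
  refine Groth.Agent.Lib.Helper62.ElemStdPerm.isElementaryStandard_of_rows_cols
    F φ hφ hker (Fin.castAddEmb t) cols₀ _ (φ b) ?_ ?_
  · rw [map_mul]
    congr 2
    unfold jacobianMinor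
    congr 1
    refine Matrix.ext fun j k => ?_
    simp only [Matrix.of_apply]
    rw [hrel]
  · intro a₁ ha₁ ℓ
    have h1 : a₁ - b * (Matrix.det (Matrix.of fun j k => pderiv (cols₀ k) (chosen j))) ∈
        ID f π := mem_of_φ_eq f π φ hkerφ ha₁
    have hrange2 : Set.range (F ∘ (Fin.castAddEmb t)) = Set.range chosen := by
      congr 1
      funext j
      exact hrel j
    rw [hrange2, hspan]
    have h2 : a₁ * F ℓ = (a₁ - b * (Matrix.det (Matrix.of fun j k =>
        pderiv (cols₀ k) (chosen j)))) * F ℓ +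
        b * (Matrix.det (Matrix.of fun j k => pderiv (cols₀ k) (chosen j))) * F ℓ := by ring
    rw [h2]
    have hFℓ : F ℓ ∈ ID f π := by
      rw [← hspan]
      exact Ideal.subset_span ⟨ℓ, rfl⟩
    refine Ideal.add_mem _ (Ideal.mem_sup_right ?_) (Ideal.mem_sup_left ?_)
    · rw [sq]
      exact Ideal.mul_mem_mul h1 hFℓ
    · induction ℓ using Fin.addCases with
      | left j =>
        rw [hF, Fin.append_left]
        exact Ideal.mul_mem_left _ _ (Ideal.subset_span ⟨j, rfl⟩)
      | right i =>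
        rw [hF, Fin.append_right]
        exact hkill i

end generic

theorem pi_mul_mem {x : Pol R n m} (hx : x ∈ ID f π) :
    C π * x ∈ Ideal.span (Set.range (relF f π)) := by
  rw [ID] at hx
  induction hx using Submodule.span_induction with
  | mem x hx =>
    rcases hx with ⟨j, rfl⟩ | ⟨a, g, h, rfl⟩
    · exact Ideal.mul_mem_left _ _ (Ideal.subset_span ⟨j, rfl⟩)
    · exact pi_relS_mem f π h
  | zero => rw [mul_zero]; exact Ideal.zero_mem _
  | add x y _ _ hx hy => rw [mul_add]; exact Ideal.add_mem _ hx hy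
  | smul a x _ hx => rw [smul_eq_mul, mul_left_comm]; exact Ideal.mul_mem_left _ _ hx

/-- the embedding of the `z` variables -/
def colsB (n m : ℕ) : Fin m ↪ Fin (n + m) := ⟨Fin.natAdd n, Fin.natAdd_injective m n⟩

theorem det_b : Matrix.det (Matrix.of fun j k : Fin m =>
    pderiv (colsB n m k) (relF f π j)) = (- C π) ^ m := by
  classical
  have : (Matrix.of fun j k : Fin m => pderiv (colsB n m k) (relF f π j)) =
      (- C π : Pol R n m) • (1 : Matrix (Fin m) (Fin m) (Pol R n m)) := by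
    refine Matrix.ext fun j k => ?_
    simp only [Matrix.of_apply, Matrix.smul_apply, smul_eq_mul]
    change pderiv (Fin.natAdd n k) (relF f π j) = _
    rw [pderiv_z_relF, Matrix.one_apply]
    by_cases h : j = k
    · rw [if_pos h, if_pos h, mul_one]
    · rw [if_neg h, if_neg h, mul_zero]
  rw [this, Matrix.det_smul, Matrix.det_one, mul_one, Fintype.card_fin]

theorem exists_gens [IsNoetherianRing R] :
    ∃ (t : ℕ) (gens : Fin t → Pol R n m), Ideal.span (Set.range gens) = ID f π :=
  Submodule.fg_iff_exists_fin_generating_family.1 (IsNoetherian.noetherian (ID f π))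

section generic2

variable {D : Type u} [CommRing D] [Algebra R D] (φ : Pol R n m →ₐ[R] D)
  (hφ : Function.Surjective φ) (hkerφ : RingHom.ker φ.toRingHom = ID f π)

include hφ hkerφ in
theorem elemStd_b [IsNoetherianRing R] :
    IsElementaryStandard R D (φ (C π * (- C π) ^ m)) := by
  obtain ⟨t, gens, hgens⟩ := exists_gens f π
  rw [← det_b f π]
  refine elemStd_gen f π φ hφ hkerφ gens hgens (relF f π) (relF_mem f π) (colsB n m) (C π) ?_
  intro i
  rw [mul_right_comm]
  refine Ideal.mul_mem_right _ _ (pi_mul_mem f π ?_)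
  rw [← hgens]
  exact Ideal.subset_span ⟨i, rfl⟩

include hφ hkerφ in
theorem exists_delta {Λ : Type u} [CommRing Λ] [Algebra R Λ]
    (hΛ : ∀ x : Λ, π ^ 2 • x = 0 → π • x = 0) (lam : Fin n → Λ) (mu : Fin m → Λ)
    (hmu : ∀ j, aeval lam (f j) = π ^ 2 • mu j) :
    ∃ δ : D →ₐ[R] Λ, ∀ p : MvPolynomial (Fin n) R, δ (φ (ι p)) = aeval lam p := by
  classical
  let δ₀ : Pol R n m →ₐ[R] Λ := aeval (Fin.append lam (fun j => π • mu j))
  have hι : ∀ p : MvPolynomial (Fin n) R, δ₀ (ι p) = aeval lam p := by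
    intro p
    simp only [δ₀, ι]
    rw [aeval_rename]
    congr 2
    funext i
    simp
  have hz : ∀ j, δ₀ (z j) = π • mu j := by
    intro j
    simp only [δ₀, z, aeval_X, Fin.append_right]
  have hC : ∀ a : R, δ₀ (C a) = algebraMap R Λ a := fun a => δ₀.commutes a
  have hF : ∀ j, δ₀ (relF f π j) = 0 := by
    intro j
    rw [relF, map_sub, map_mul, hι, hz, hC, hmu, ← Algebra.smul_def, smul_smul, ← sq, sub_self]
  have hspanF : ∀ x ∈ Ideal.span (Set.range (relF f π)), δ₀ x = 0 := by
    intro x hx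
    have : Ideal.span (Set.range (relF f π)) ≤ RingHom.ker δ₀.toRingHom := by
      rw [Ideal.span_le]
      rintro _ ⟨j, rfl⟩
      exact hF j
    exact this hx
  have hS : ∀ a g, IsSyz f π a g → δ₀ (relS π a g) = 0 := by
    intro a g hag
    set s : Λ := ∑ j, aeval lam (a j) * mu j - aeval lam g with hs
    have h1 : δ₀ (relS π a g) = π • s := by
      rw [relS, map_sub, map_sum, map_mul, hι, hC, hs, smul_sub, Finset.smul_sum,
        ← Algebra.smul_def]
      congr 1
      refine Finset.sum_congr rfl fun j _ => ?_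
      rw [map_mul, hι, hz, mul_smul_comm]
    have h2 : π • δ₀ (relS π a g) = 0 := by
      rw [Algebra.smul_def, ← hC, ← map_mul]
      exact hspanF _ (pi_relS_mem f π hag)
    rw [h1] at h2 ⊢
    rw [smul_smul, ← sq] at h2
    exact hΛ s h2
  have H : RingHom.ker φ.toRingHom ≤ RingHom.ker δ₀.toRingHom := by
    rw [hkerφ]
    exact ID_le f π hF hS
  exact ⟨AlgHom.liftOfSurjective φ hφ δ₀ H, fun p => by
    rw [AlgHom.liftOfSurjective_apply]; exact hι p⟩

include hkerφ in
theorem φ_ι_f (j : Fin m) : φ (ι (f j)) = algebraMap R D π * φ (z j) := by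
  have h1 : ι (f j) = relF f π j + C π * z j := by rw [relF]; ring
  rw [h1, map_add, φ_eq_zero f π φ hkerφ (relF_mem f π j), zero_add, map_mul]
  congr 1
  exact φ.commutes π

include hkerφ in
theorem exists_psi {C' : Type u} [CommRing C'] [Algebra R C']
    (χ : MvPolynomial (Fin n) R →ₐ[R] C') (hχ : Function.Surjective χ)
    (hker : RingHom.ker χ.toRingHom = Ideal.span (Set.range f) ⊔ Ideal.span {C (π ^ 2)}) :
    ∃ ψ : C' →ₐ[R] D ⧸ Ideal.span {algebraMap R D π},
      ∀ p, ψ (χ p) = Ideal.Quotient.mk _ (φ (ι p)) := by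
  let Ψ : MvPolynomial (Fin n) R →ₐ[R] D ⧸ Ideal.span {algebraMap R D π} :=
    (Ideal.Quotient.mkₐ R (Ideal.span {algebraMap R D π})).comp (φ.comp ι)
  have hΨ : ∀ p, Ψ p = Ideal.Quotient.mk _ (φ (ι p)) := fun p => rfl
  have H : RingHom.ker χ.toRingHom ≤ RingHom.ker Ψ.toRingHom := by
    rw [hker, sup_le_iff, Ideal.span_le, Ideal.span_le]
    constructor
    · rintro _ ⟨j, rfl⟩
      change Ψ (f j) = 0
      rw [hΨ, φ_ι_f f π φ hkerφ, Ideal.Quotient.eq_zero_iff_mem]
      exact Ideal.mul_mem_right _ _ (Ideal.subset_span rfl)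
    · intro x hx
      rw [Set.mem_singleton_iff] at hx
      subst hx
      change Ψ (C (π ^ 2)) = 0
      rw [hΨ, ι_C, Ideal.Quotient.eq_zero_iff_mem]
      have : φ (C (π ^ 2)) = algebraMap R D π * algebraMap R D π := by
        rw [← map_mul, ← sq]
        exact φ.commutes _
      rw [this]
      exact Ideal.mul_mem_right _ _ (Ideal.subset_span rfl)
  exact ⟨AlgHom.liftOfSurjective χ hχ Ψ H, fun p => by
    rw [AlgHom.liftOfSurjective_apply]; exact hΨ p⟩

theorem compat {Λ C' : Type u} [CommRing Λ] [Algebra R Λ] [CommRing C'] [Algebra R C']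
    (g : C' →ₐ[R] Λ ⧸ Ideal.span {algebraMap R Λ (π ^ 2)})
    (χ : MvPolynomial (Fin n) R →ₐ[R] C') (hχ : Function.Surjective χ)
    (lam : Fin n → Λ) (hlam : ∀ i, Ideal.Quotient.mk _ (lam i) = g (χ (X i)))
    (δ : D →ₐ[R] Λ) (hδ : ∀ p : MvPolynomial (Fin n) R, δ (φ (ι p)) = aeval lam p)
    (ψ : C' →ₐ[R] D ⧸ Ideal.span {algebraMap R D π})
    (hψ : ∀ p, ψ (χ p) = Ideal.Quotient.mk _ (φ (ι p)))
    (c : C') (d : D) (l : Λ)
    (hd : Ideal.Quotient.mk (Ideal.span {algebraMap R D π}) d = ψ c)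
    (hl : Ideal.Quotient.mk (Ideal.span {algebraMap R Λ (π ^ 2)}) l = g c) :
    δ d - l ∈ Ideal.span {algebraMap R Λ π} := by
  obtain ⟨p, rfl⟩ := hχ c
  have hgχ : g.comp χ = (Ideal.Quotient.mkₐ R (Ideal.span {algebraMap R Λ (π ^ 2)})).comp
      (aeval lam) := by
    refine MvPolynomial.algHom_ext fun i => ?_
    rw [AlgHom.comp_apply, AlgHom.comp_apply, aeval_X, ← hlam]
    rfl
  have hgp : g (χ p) = Ideal.Quotient.mk _ (aeval lam p) := by
    have := DFunLike.congr_fun hgχ p
    exact this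
  rw [hψ, Ideal.Quotient.eq, Ideal.mem_span_singleton'] at hd
  obtain ⟨e, he⟩ := hd
  rw [hgp, Ideal.Quotient.eq, Ideal.mem_span_singleton'] at hl
  obtain ⟨e', he'⟩ := hl
  have h1 : δ d - aeval lam p = δ e * algebraMap R Λ π := by
    rw [← hδ, ← map_sub, ← he, map_mul, δ.commutes]
  have h2 : δ d - l = (δ e - e' * algebraMap R Λ π) * algebraMap R Λ π := by
    have : l - aeval lam p = e' * algebraMap R Λ π * algebraMap R Λ π := by
      rw [← he', map_pow, sq, mul_assoc]
    calc δ d - l = (δ d - aeval lam p) - (l - aeval lam p) := by ring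
      _ = _ := by rw [h1, this]; ring
  rw [h2]
  exact Ideal.mul_mem_left _ _ (Ideal.subset_span rfl)

theorem smoothAt_of_elemStd [Algebra.FinitePresentation R D] (a : D)
    (ha : IsElementaryStandard R D a) (Q : Ideal D) [Q.IsPrime] (haQ : a ∉ Q) :
    Algebra.IsSmoothAt R Q := by
  haveI : Algebra.IsStandardSmooth R (Localization.Away a) := Groth.Agent.S2032.result a ha
  haveI : Algebra.Smooth R (Localization.Away a) := inferInstance
  have h1 := (Algebra.basicOpen_subset_smoothLocus_iff_smooth (R := R) (A := D) (f := a)).2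
    inferInstance
  have h2 : (⟨Q, inferInstance⟩ : PrimeSpectrum D) ∈ Algebra.smoothLocus R D := h1 haQ
  exact h2

end generic2

end Groth.Agent.Lib.Helper57.S2024Lift
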