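import Mathlib
import Groth.Agent.Lib.Helper57.S2024Lift

/-! Part (c) of the lifting lemma (S2024): the chart algebras. -/

set_option autoImplicit false
universe u

namespace Groth.Agent.Lib.Helper57.S2024Lift

open MvPolynomial Smoothing Groth.Agent.Lib.Helper57.S2027Core

variable {R : Type u} [CommRing R] {n m : ℕ} (f : Fin m → MvPolynomial (Fin n) R) (π : R)

open Classical in
/-- the columns of the chart: `x_{cols j}` for `ℓ = rows j`, and `z_ℓ` otherwise -/
noncomputable def colsFun (T : Chart R n m) (ℓ : Fin m) : Fin (n + m) :=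
  if h : ∃ j, T.rows j = ℓ then Fin.castAdd m (T.cols h.choose) else Fin.natAdd n ℓ

theorem colsFun_rows (T : Chart R n m) (j : Fin T.c) :
    colsFun T (T.rows j) = Fin.castAdd m (T.cols j) := by
  have h : ∃ j', T.rows j' = T.rows j := ⟨j, rfl⟩
  rw [colsFun, dif_pos h]
  have : h.choose = j := T.rows.injective h.choose_spec
  rw [this]

theorem colsFun_not (T : Chart R n m) (ℓ : Fin m) (hℓ : ℓ ∉ Set.range T.rows) :
    colsFun T ℓ = Fin.natAdd n ℓ := by
  rw [colsFun, dif_neg (fun ⟨j, hj⟩ => hℓ ⟨j, hj⟩)]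

theorem colsFun_injective (T : Chart R n m) : Function.Injective (colsFun T) := by
  intro ℓ ℓ' h
  by_cases h1 : ℓ ∈ Set.range T.rows
  · obtain ⟨j, rfl⟩ := h1
    by_cases h2 : ℓ' ∈ Set.range T.rows
    · obtain ⟨j', rfl⟩ := h2
      rw [colsFun_rows, colsFun_rows] at h
      rw [T.cols.injective (Fin.castAdd_injective n m h)]
    · rw [colsFun_rows, colsFun_not T ℓ' h2] at h
      have := congrArg Fin.val h
      simp at this
      omega
  · by_cases h2 : ℓ' ∈ Set.range T.rows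
    · obtain ⟨j', rfl⟩ := h2
      rw [colsFun_rows, colsFun_not T ℓ h1] at h
      have := congrArg Fin.val h
      simp at this
      omega
    · rw [colsFun_not T ℓ h1, colsFun_not T ℓ' h2] at h
      exact Fin.natAdd_injective m n h

/-- the columns as an embedding -/
noncomputable def colsC (T : Chart R n m) : Fin m ↪ Fin (n + m) := ⟨colsFun T, colsFun_injective T⟩

/-- the Jacobian matrix of the chart -/
noncomputable def Mx (T : Chart R n m) : Matrix (Fin m) (Fin m) (Pol R n m) :=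
  Matrix.of fun ℓ ℓ' => pderiv (colsC T ℓ') (lead f π T ℓ)

/-- the Jacobian determinant of the chart -/
noncomputable def Δ (T : Chart R n m) : Pol R n m := (Mx f π T).det

theorem Mx_EE (T : Chart R n m) (j j' : Fin T.c) :
    Mx f π T (T.rows j) (T.rows j') = ι (pderiv (T.cols j') (f (T.rows j))) := by
  rw [Mx, Matrix.of_apply]
  change pderiv (colsFun T (T.rows j')) _ = _
  rw [colsFun_rows, lead_rows, relF, map_sub, pderiv_x_ι, Derivation.leibniz, pderiv_C, smul_zero,
    add_zero, pderiv_x_z, smul_zero, sub_zero]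

theorem Mx_EN (T : Chart R n m) (j : Fin T.c) (ℓ' : Fin m) (hℓ' : ℓ' ∉ Set.range T.rows) :
    Mx f π T (T.rows j) ℓ' = 0 := by
  rw [Mx, Matrix.of_apply]
  change pderiv (colsFun T ℓ') _ = _
  rw [colsFun_not T ℓ' hℓ', lead_rows, pderiv_z_relF, if_neg]
  rintro rfl
  exact hℓ' ⟨j, rfl⟩

theorem Mx_NN (T : Chart R n m) (ℓ ℓ' : Fin m) (hℓ : ℓ ∉ Set.range T.rows)
    (hℓ' : ℓ' ∉ Set.range T.rows) :
    Mx f π T ℓ ℓ' = if ℓ = ℓ' then ι T.q else 0 := by
  classical
  rw [Mx, Matrix.of_apply]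
  change pderiv (colsFun T ℓ') _ = _
  rw [colsFun_not T ℓ' hℓ', lead_not f π T ℓ hℓ, relP, map_sub, map_sub, Derivation.leibniz,
    pderiv_z_ι, smul_zero, add_zero, pderiv_z_z, map_sum, Derivation.leibniz, pderiv_C, smul_zero,
    add_zero, pderiv_z_ι, smul_zero, sub_zero]
  have h1 : ∀ j, pderiv (Fin.natAdd n ℓ') (ι (T.h ℓ j) * z (T.rows j)) = 0 := by
    intro j
    rw [Derivation.leibniz, pderiv_z_ι, smul_zero, add_zero, pderiv_z_z, if_neg, smul_zero]
    rintro rfl
    exact hℓ' ⟨j, rfl⟩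
  rw [Finset.sum_eq_zero (fun j _ => h1 j), sub_zero, smul_eq_mul]
  by_cases h : ℓ = ℓ'
  · rw [if_pos h, if_pos h, mul_one]
  · rw [if_neg h, if_neg h, mul_zero]


theorem block_E (T : Chart R n m) [DecidablePred fun ℓ => ℓ ∈ Set.range T.rows] :
    (Matrix.toSquareBlockProp (Mx f π T) (fun ℓ => ℓ ∈ Set.range T.rows)).det =
      ι (jacobianMinor f T.rows T.cols) := by
  let e : Fin T.c ≃ {ℓ : Fin m // ℓ ∈ Set.range T.rows} :=
    Equiv.ofInjective T.rows T.rows.injective
  rw [← Matrix.det_submatrix_equiv_self e, jacobianMinor, AlgHom.map_det]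
  congr 1
  refine Matrix.ext fun j k => ?_
  rw [Matrix.submatrix_apply, Matrix.toSquareBlockProp_def, Matrix.of_apply]
  have he : ∀ j, (e j : Fin m) = T.rows j := fun j => rfl
  rw [he, he, Mx_EE]
  rfl

theorem block_N (T : Chart R n m) [DecidablePred fun ℓ => ℓ ∈ Set.range T.rows] :
    (Matrix.toSquareBlockProp (Mx f π T) (fun ℓ => ¬ ℓ ∈ Set.range T.rows)).det =
      ι T.q ^ Fintype.card {ℓ : Fin m // ¬ ℓ ∈ Set.range T.rows} := by
  classical
  have : Matrix.toSquareBlockProp (Mx f π T) (fun ℓ => ¬ ℓ ∈ Set.range T.rows) =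
      (ι T.q : Pol R n m) • (1 : Matrix _ _ (Pol R n m)) := by
    refine Matrix.ext fun ℓ ℓ' => ?_
    rw [Matrix.toSquareBlockProp_def, Matrix.of_apply, Mx_NN f π T _ _ ℓ.2 ℓ'.2,
      Matrix.smul_apply, Matrix.one_apply, smul_eq_mul]
    by_cases h : ℓ = ℓ'
    · rw [if_pos (congrArg Subtype.val h), if_pos h, mul_one]
    · rw [if_neg (fun h' => h (Subtype.ext h')), if_neg h, mul_zero]
  rw [this, Matrix.det_smul, Matrix.det_one, mul_one]

theorem Δ_eq (T : Chart R n m) :
    ∃ e : ℕ, Δ f π T = ι (jacobianMinor f T.rows T.cols) * ι T.q ^ e := by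
  classical
  refine ⟨Fintype.card {ℓ : Fin m // ¬ ℓ ∈ Set.range T.rows}, ?_⟩
  rw [Δ, Matrix.twoBlockTriangular_det' (Mx f π T) (fun ℓ => ℓ ∈ Set.range T.rows)]
  · have h1 := block_E f π T
    have h2 := block_N f π T
    convert congrArg₂ (· * ·) h1 h2
  · rintro ℓ ⟨j, rfl⟩ ℓ' hℓ'
    exact Mx_EN f π T j ℓ' hℓ'

theorem cramer_core {N : Type*} [CommRing N] {c : ℕ} (J : Matrix (Fin c) (Fin c) N)
    (v w : Fin c → N) (p : N) (h : ∀ k, ∑ j, v j * J j k = p * w k) (j : Fin c) :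
    J.det * v j = p * (Matrix.vecMul w J.adjugate) j := by
  have h1 : Matrix.vecMul v J = p • w := by
    funext k
    rw [Matrix.vecMul, dotProduct, Pi.smul_apply, smul_eq_mul, ← h k]
  have h2 : Matrix.vecMul (Matrix.vecMul v J) J.adjugate = J.det • v := by
    rw [Matrix.vecMul_vecMul, Matrix.mul_adjugate, Matrix.vecMul_smul, Matrix.vecMul_one]
  rw [h1, Matrix.smul_vecMul] at h2
  have := congrFun h2 j
  rw [Pi.smul_apply, Pi.smul_apply, smul_eq_mul, smul_eq_mul] at this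
  exact this.symm

theorem loc_ann {R N : Type u} [CommRing R] [CommRing N] [Algebra R N] (π : R)
    (hR : ∀ r : R, π ^ 2 * r = 0 → π * r = 0) (r₀ : N)
    [Algebra.Smooth R (Localization.Away r₀)] (x : N)
    (hx : algebraMap R N π ^ 2 * x = 0) : ∃ k : ℕ, r₀ ^ k * (algebraMap R N π * x) = 0 := by
  have h1 : π ^ 2 • (algebraMap N (Localization.Away r₀) x) = 0 := by
    rw [Algebra.smul_def, IsScalarTower.algebraMap_apply R N (Localization.Away r₀), ← map_mul,
      map_pow, hx, map_zero]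
  have h2 := flat_ann π 1 (fun y hy => by rw [one_mul]; exact hR y hy) _ h1
  rw [one_smul, Algebra.smul_def, IsScalarTower.algebraMap_apply R N (Localization.Away r₀),
    ← map_mul] at h2
  obtain ⟨⟨_, k, rfl⟩, hk⟩ :=
    (IsLocalization.map_eq_zero_iff (Submonoid.powers r₀) (Localization.Away r₀) _).1 h2
  exact ⟨k, hk⟩

theorem core2 {R N : Type u} [CommRing R] [CommRing N] [Algebra R N] (π : R)
    (hR : ∀ r : R, π ^ 2 * r = 0 → π * r = 0) (r₀ : N)
    [Algebra.Smooth R (Localization.Away r₀)] {c : ℕ} (J : Matrix (Fin c) (Fin c) N)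
    (v w zz : Fin c → N) (G : N)
    (h1 : ∀ k, ∑ j, v j * J j k = algebraMap R N π * w k)
    (h2 : algebraMap R N π * (∑ j, v j * zz j - algebraMap R N π * G) = 0) :
    ∃ k : ℕ, r₀ ^ k * (J.det * (∑ j, v j * zz j - algebraMap R N π * G)) = 0 := by
  set p := algebraMap R N π with hp
  set u := Matrix.vecMul w J.adjugate with hu
  have hcr : ∀ j, J.det * v j = p * u j := cramer_core J v w p h1
  set t : N := ∑ j, u j * zz j - J.det * G with ht
  have h3 : J.det * (∑ j, v j * zz j - p * G) = p * t := by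
    rw [ht, mul_sub, mul_sub, Finset.mul_sum, Finset.mul_sum]
    congr 1
    · refine Finset.sum_congr rfl fun j _ => ?_
      rw [← mul_assoc, hcr, mul_assoc]
    · ring
  have h4 : p ^ 2 * t = 0 := by
    rw [sq, mul_assoc, ← h3, mul_left_comm, h2, mul_zero]
  obtain ⟨k, hk⟩ := loc_ann π hR r₀ t h4
  exact ⟨k, by rw [h3]; exact hk⟩
theorem reduce_identity {P : Type*} [CommRing P] {m c : ℕ} (A : Fin m → P) (Z : Fin m → P)
    (H : Fin m → Fin c → P) (ZE : Fin c → P) (Gl : Fin m → P) (Q p g : P) :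
    Q * (∑ ℓ, A ℓ * Z ℓ - p * g) = ∑ ℓ, A ℓ * (Q * Z ℓ - ∑ j, H ℓ j * ZE j - p * Gl ℓ) +
      (∑ j, (∑ ℓ, A ℓ * H ℓ j) * ZE j - p * (Q * g - ∑ ℓ, A ℓ * Gl ℓ)) := by
  have e1 : ∑ ℓ, A ℓ * ∑ j, H ℓ j * ZE j = ∑ j, (∑ ℓ, A ℓ * H ℓ j) * ZE j := by
    simp only [Finset.mul_sum, Finset.sum_mul]
    rw [Finset.sum_comm]
    refine Finset.sum_congr rfl fun _ _ => Finset.sum_congr rfl fun _ _ => by ring
  have e2 : ∑ ℓ, A ℓ * (Q * Z ℓ - ∑ j, H ℓ j * ZE j - p * Gl ℓ) =
      Q * ∑ ℓ, A ℓ * Z ℓ - ∑ ℓ, A ℓ * ∑ j, H ℓ j * ZE j - p * ∑ ℓ, A ℓ * Gl ℓ := by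
    simp only [mul_sub, Finset.sum_sub_distrib, Finset.mul_sum]
    congr 1
    · congr 1
      refine Finset.sum_congr rfl fun _ _ => by ring
    · refine Finset.sum_congr rfl fun _ _ => by ring
  rw [e2, e1]
  ring

theorem syz_identity {P : Type*} [CommRing P] {m c : ℕ} (A : Fin m → P) (F : Fin m → P)
    (H : Fin m → Fin c → P) (FE : Fin c → P) (Gl : Fin m → P) (Q p g : P)
    (h1 : ∑ ℓ, A ℓ * F ℓ = p * g) (h2 : ∀ ℓ, Q * F ℓ = ∑ j, H ℓ j * FE j + p * Gl ℓ) :
    ∑ j, (∑ ℓ, A ℓ * H ℓ j) * FE j = p * (Q * g - ∑ ℓ, A ℓ * Gl ℓ) := by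
  have e1 : ∑ ℓ, A ℓ * ∑ j, H ℓ j * FE j = ∑ j, (∑ ℓ, A ℓ * H ℓ j) * FE j := by
    simp only [Finset.mul_sum, Finset.sum_mul]
    rw [Finset.sum_comm]
    refine Finset.sum_congr rfl fun _ _ => Finset.sum_congr rfl fun _ _ => by ring
  rw [← e1]
  have e3 : ∀ ℓ, ∑ j, H ℓ j * FE j = Q * F ℓ - p * Gl ℓ := fun ℓ => by rw [h2]; ring
  simp_rw [e3, mul_sub, Finset.sum_sub_distrib]
  have e4 : ∑ ℓ, A ℓ * (Q * F ℓ) = Q * ∑ ℓ, A ℓ * F ℓ := by
    rw [Finset.mul_sum]
    refine Finset.sum_congr rfl fun _ _ => by ring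
  have e5 : ∑ ℓ, A ℓ * (p * Gl ℓ) = p * ∑ ℓ, A ℓ * Gl ℓ := by
    rw [Finset.mul_sum]
    refine Finset.sum_congr rfl fun _ _ => by ring
  rw [e4, e5, h1]
  ring

/-- the ideal generated by the leading relations -/
noncomputable def L (T : Chart R n m) : Ideal (Pol R n m) := Ideal.span (Set.range (lead f π T))

/-- `E`-supported syzygy relation -/
noncomputable def relE (T : Chart R n m) (coef : Fin T.c → MvPolynomial (Fin n) R)
    (G : MvPolynomial (Fin n) R) : Pol R n m :=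
  ∑ j, ι (coef j) * z (T.rows j) - C π * ι G

theorem relF_rows_mem (T : Chart R n m) (j : Fin T.c) : relF f π (T.rows j) ∈ L f π T := by
  rw [← lead_rows f π T j]
  exact Ideal.subset_span ⟨_, rfl⟩

theorem smooth_N (T : Chart R n m) :
    Algebra.Smooth R (Localization.Away (Ideal.Quotient.mk (L f π T) (Δ f π T))) := by
  have hker : RingHom.ker (Ideal.Quotient.mkₐ R (L f π T)).toRingHom =
      Ideal.span (Set.range (lead f π T)) := by
    change RingHom.ker (Ideal.Quotient.mk (L f π T)) = _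
    rw [Ideal.mk_ker]
    rfl
  haveI : Algebra.FinitePresentation R (Pol R n m ⧸ L f π T) :=
    Algebra.FinitePresentation.of_surjective (f := Ideal.Quotient.mkₐ R (L f π T))
      (Ideal.Quotient.mkₐ_surjective R _) (by
        rw [hker]; exact Submodule.fg_span (Set.finite_range _))
  have hES : IsElementaryStandard R (Pol R n m ⧸ L f π T)
      (Ideal.Quotient.mk (L f π T) (Δ f π T)) := by
    refine Groth.Agent.Lib.Helper62.ElemStdPerm.isElementaryStandard_of_rows_cols (lead f π T)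
      (Ideal.Quotient.mkₐ R (L f π T)) (Ideal.Quotient.mkₐ_surjective R _) hker
      (Function.Embedding.refl _) (colsC T) _ 1 ?_ ?_
    · rw [one_mul]
      rfl
    · intro a₁ _ ℓ
      exact Ideal.mem_sup_left (Ideal.mul_mem_left _ _ (Ideal.subset_span ⟨ℓ, rfl⟩))
  haveI : Algebra.IsStandardSmooth R (Localization.Away
      (Ideal.Quotient.mk (L f π T) (Δ f π T))) := Groth.Agent.S2032.result _ hES
  infer_instance

theorem claimC (hR : ∀ r : R, π ^ 2 * r = 0 → π * r = 0) (T : Chart R n m)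
    (coef : Fin T.c → MvPolynomial (Fin n) R) (G : MvPolynomial (Fin n) R)
    (hsyz : ∑ j, coef j * f (T.rows j) = C (π ^ 2) * G) :
    ∃ k : ℕ, Δ f π T ^ k * (ι (jacobianMinor f T.rows T.cols) * relE π T coef G) ∈ L f π T := by
  haveI := smooth_N f π T
  set mk := Ideal.Quotient.mk (L f π T) with hmk
  have hπ : algebraMap R (Pol R n m ⧸ L f π T) π = mk (C π) := rfl
  have hC2 : (C (π ^ 2) : Pol R n m) = C π * C π := by rw [← C_mul, sq]
  -- h2
  have h2 : C π * relE π T coef G = - ∑ j, ι (coef j) * relF f π (T.rows j) := by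
    have h1 := congrArg (ι (m := m)) hsyz
    rw [map_sum, map_mul, ι_C, hC2] at h1
    simp only [map_mul] at h1
    simp only [relF, relE, mul_sub, Finset.sum_sub_distrib, Finset.mul_sum]
    rw [h1]
    have : ∀ j, C π * (ι (coef j) * z (T.rows j)) = ι (coef j) * (C π * z (T.rows j)) :=
      fun j => by ring
    simp_rw [this]
    ring
  have h2' : mk (C π) * (∑ j, mk (ι (coef j)) * mk (z (T.rows j)) - mk (C π) * mk (ι G)) = 0 := by
    have : mk (C π * relE π T coef G) = 0 := by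
      rw [h2, Ideal.Quotient.eq_zero_iff_mem]
      exact Ideal.neg_mem_iff _ |>.2 (Ideal.sum_mem _ fun j _ => Ideal.mul_mem_left _ _
        (relF_rows_mem f π T j))
    simpa only [relE, map_mul, map_sub, map_sum] using this
  -- h1
  have h1' : ∀ k : Fin T.c, ∑ j, mk (ι (coef j)) * mk (ι (pderiv (T.cols k) (f (T.rows j)))) =
      mk (C π) * (mk (C π) * mk (ι (pderiv (T.cols k) G)) -
        ∑ j, mk (ι (pderiv (T.cols k) (coef j))) * mk (z (T.rows j))) := by
    intro k
    have hd := congrArg (fun p => ι (m := m) (pderiv (T.cols k) p)) hsyz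
    simp only [map_sum, Derivation.leibniz, pderiv_C, smul_zero, add_zero, smul_eq_mul,
      map_add, map_mul, ι_C] at hd
    rw [Finset.sum_add_distrib, hC2] at hd
    have key : ∑ j, ι (coef j) * ι (pderiv (T.cols k) (f (T.rows j))) -
        C π * (C π * ι (pderiv (T.cols k) G) -
          ∑ j, ι (pderiv (T.cols k) (coef j)) * z (T.rows j)) =
        - ∑ j, ι (pderiv (T.cols k) (coef j)) * relF f π (T.rows j) := by
      simp only [relF, mul_sub, Finset.sum_sub_distrib, Finset.mul_sum]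
      have : ∀ j, C π * (ι (pderiv (T.cols k) (coef j)) * z (T.rows j)) =
          ι (pderiv (T.cols k) (coef j)) * (C π * z (T.rows j)) := fun j => by ring
      simp_rw [this]
      have hd' : (∑ j, ι (coef j) * ι (pderiv (T.cols k) (f (T.rows j))) : Pol R n m) =
          C π * C π * ι (pderiv (T.cols k) G) -
            ∑ j, ι (pderiv (T.cols k) (coef j)) * ι (f (T.rows j)) := by
        rw [map_zero, mul_zero, add_zero] at hd
        rw [← hd]
        have : ∀ j, ι (m := m) (f (T.rows j)) * ι (pderiv (T.cols k) (coef j)) =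
            ι (pderiv (T.cols k) (coef j)) * ι (f (T.rows j)) := fun j => mul_comm _ _
        simp_rw [this]
        ring
      rw [hd']
      ring
    have : mk (∑ j, ι (coef j) * ι (pderiv (T.cols k) (f (T.rows j))) -
        C π * (C π * ι (pderiv (T.cols k) G) -
          ∑ j, ι (pderiv (T.cols k) (coef j)) * z (T.rows j))) = 0 := by
      rw [key, Ideal.Quotient.eq_zero_iff_mem]
      exact Ideal.neg_mem_iff _ |>.2 (Ideal.sum_mem _ fun j _ => Ideal.mul_mem_left _ _
        (relF_rows_mem f π T j))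
    rw [map_sub, sub_eq_zero] at this
    simpa only [map_mul, map_sub, map_sum] using this
  obtain ⟨k, hk⟩ := core2 π hR (mk (Δ f π T))
    (Matrix.of fun j k => mk (ι (pderiv (T.cols k) (f (T.rows j)))))
    (fun j => mk (ι (coef j)))
    (fun k => mk (C π) * mk (ι (pderiv (T.cols k) G)) -
        ∑ j, mk (ι (pderiv (T.cols k) (coef j))) * mk (z (T.rows j)))
    (fun j => mk (z (T.rows j))) (mk (ι G))
    (fun k => by rw [hπ]; exact h1' k) (by rw [hπ]; exact h2')
  refine ⟨k, ?_⟩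
  rw [← Ideal.Quotient.eq_zero_iff_mem]
  have hdet : (Matrix.of fun j k => mk (ι (pderiv (T.cols k) (f (T.rows j))))).det =
      mk (ι (jacobianMinor f T.rows T.cols)) := by
    rw [jacobianMinor, AlgHom.map_det, RingHom.map_det]
    rfl
  rw [hdet, hπ] at hk
  rw [← hk]
  simp only [relE, map_mul, map_sub, map_sum, map_pow]
  rfl

theorem relS_reduce {T : Chart R n m} (a : Fin m → MvPolynomial (Fin n) R)
    (g : MvPolynomial (Fin n) R) :
    ι T.q * relS π a g = ∑ ℓ, ι (a ℓ) * relP π T ℓ +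
      relE π T (fun j => ∑ ℓ, a ℓ * T.h ℓ j) (T.q * g - ∑ ℓ, a ℓ * T.g ℓ) := by
  simp only [relS, relP, relE, map_sum, map_mul, map_sub]
  exact reduce_identity _ _ _ _ _ _ _ _

theorem syz_reduce {T : Chart R n m} (hT : T.Valid f π) (a : Fin m → MvPolynomial (Fin n) R)
    (g : MvPolynomial (Fin n) R) (h : IsSyz f π a g) :
    ∑ j, (∑ ℓ, a ℓ * T.h ℓ j) * f (T.rows j) = C (π ^ 2) * (T.q * g - ∑ ℓ, a ℓ * T.g ℓ) :=
  syz_identity _ _ _ _ _ _ _ _ h hT.eq

theorem all_ID (hR : ∀ r : R, π ^ 2 * r = 0 → π * r = 0) {T : Chart R n m} (hT : T.Valid f π)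
    {x : Pol R n m} (hx : x ∈ ID f π) :
    ∃ k : ℕ, Δ f π T ^ k * (ι (jacobianMinor f T.rows T.cols) * ι T.q) * x ∈ L f π T := by
  rw [ID] at hx
  induction hx using Submodule.span_induction with
  | mem x hx =>
    rcases hx with ⟨j, rfl⟩ | ⟨a, g, h, rfl⟩
    · refine ⟨0, ?_⟩
      rw [pow_zero, one_mul, mul_assoc]
      exact Ideal.mul_mem_left _ _ (claimA f π hT j)
    · obtain ⟨k, hk⟩ := claimC f π hR T _ _ (syz_reduce f π hT a g h)
      refine ⟨k, ?_⟩
      have : Δ f π T ^ k * (ι (jacobianMinor f T.rows T.cols) * ι T.q) * relS π a g =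
          Δ f π T ^ k * ι (jacobianMinor f T.rows T.cols) * (∑ ℓ, ι (a ℓ) * relP π T ℓ) +
          Δ f π T ^ k * (ι (jacobianMinor f T.rows T.cols) *
            relE π T (fun j => ∑ ℓ, a ℓ * T.h ℓ j) (T.q * g - ∑ ℓ, a ℓ * T.g ℓ)) := by
        rw [mul_assoc, mul_assoc, relS_reduce π a g]
        ring
      rw [this]
      refine Ideal.add_mem _ (Ideal.mul_mem_left _ _ (Ideal.sum_mem _ fun ℓ _ =>
        Ideal.mul_mem_left _ _ (relP_mem_lead f π hT ℓ))) hk
  | zero => exact ⟨0, by rw [mul_zero]; exact Ideal.zero_mem _⟩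
  | add x y _ _ hx hy =>
    obtain ⟨k1, h1⟩ := hx
    obtain ⟨k2, h2⟩ := hy
    refine ⟨k1 + k2, ?_⟩
    have : Δ f π T ^ (k1 + k2) * (ι (jacobianMinor f T.rows T.cols) * ι T.q) * (x + y) =
        Δ f π T ^ k2 * (Δ f π T ^ k1 * (ι (jacobianMinor f T.rows T.cols) * ι T.q) * x) +
        Δ f π T ^ k1 * (Δ f π T ^ k2 * (ι (jacobianMinor f T.rows T.cols) * ι T.q) * y) := by
      rw [pow_add]; ring
    rw [this]
    exact Ideal.add_mem _ (Ideal.mul_mem_left _ _ h1) (Ideal.mul_mem_left _ _ h2)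
  | smul a x _ hx =>
    obtain ⟨k, hk⟩ := hx
    refine ⟨k, ?_⟩
    rw [smul_eq_mul, mul_left_comm]
    exact Ideal.mul_mem_left _ _ hk

section generic3

variable {D : Type u} [CommRing D] [Algebra R D] (φ : Pol R n m →ₐ[R] D)
  (hφ : Function.Surjective φ) (hkerφ : RingHom.ker φ.toRingHom = ID f π)

include hφ hkerφ in
theorem elemStd_c [IsNoetherianRing R] (hR : ∀ r : R, π ^ 2 * r = 0 → π * r = 0)
    {T : Chart R n m} (hT : T.Valid f π) :
    ∃ k1 k2 : ℕ, IsElementaryStandard R D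
      (φ (ι (jacobianMinor f T.rows T.cols) ^ k1 * ι T.q ^ k2)) := by
  classical
  obtain ⟨t, gens, hgens⟩ := exists_gens f π
  have hg : ∀ i, gens i ∈ ID f π := fun i => by
    rw [← hgens]; exact Ideal.subset_span ⟨i, rfl⟩
  choose k hk using fun i => all_ID f π hR hT (hg i)
  obtain ⟨e, he⟩ := Δ_eq f π T
  set M := ∑ i, k i with hM
  set mn := ι (m := m) (jacobianMinor f T.rows T.cols) with hmn
  set b := Δ f π T ^ M * (mn * ι T.q) with hb
  have hmain := elemStd_gen f π φ hφ hkerφ gens hgens (lead f π T) (lead_mem f π hT) (colsC T) b ?_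
  · have hdet : Matrix.det (Matrix.of fun j k => pderiv (colsC T k) (lead f π T j)) = Δ f π T := rfl
    rw [hdet] at hmain
    refine ⟨M + 2, e * M + 1 + e, ?_⟩
    have : mn ^ (M + 2) * ι T.q ^ (e * M + 1 + e) = b * Δ f π T := by
      rw [hb, he]
      ring
    rw [this]
    exact hmain
  · intro i
    have hdet : Matrix.det (Matrix.of fun j k => pderiv (colsC T k) (lead f π T j)) = Δ f π T := rfl
    rw [hdet]
    have hle : k i ≤ M := Finset.single_le_sum (fun _ _ => Nat.zero_le _) (Finset.mem_univ i)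
    have : b * Δ f π T * gens i = Δ f π T * Δ f π T ^ (M - k i) *
        (Δ f π T ^ k i * (mn * ι T.q) * gens i) := by
      rw [hb]
      have : Δ f π T ^ M = Δ f π T ^ (M - k i) * Δ f π T ^ k i := by
        rw [← pow_add]; congr 1; omega
      rw [this]
      ring
    rw [this]
    exact Ideal.mul_mem_left _ _ (hk i)

end generic3

end Groth.Agent.Lib.Helper57.S2024Lift
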