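import Mathlib
import Groth.Prelude.Def_Smoothing
import Groth.Agent.Lib.Helper57.S2024Lift
import Groth.Agent.Lib.Helper11.ElemStd
import Groth.Agent.S2108

/-! Charts from smooth primes (for S2024). -/

set_option autoImplicit false
universe u

namespace Groth.Agent.Lib.Helper57.S2024Lift

open MvPolynomial Smoothing

theorem exists_chart {R C' : Type u} [CommRing R] [CommRing C'] [Algebra R C'] (π : R)
    [Algebra (R ⧸ Ideal.span {π ^ 2}) C'] [IsScalarTower R (R ⧸ Ideal.span {π ^ 2}) C']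
    {n m : ℕ} (f : Fin m → MvPolynomial (Fin n) R) (χ : MvPolynomial (Fin n) R →ₐ[R] C')
    (hχ : Function.Surjective χ)
    (hker : RingHom.ker χ.toRingHom = Ideal.span (Set.range f) ⊔ Ideal.span {C (π ^ 2)})
    (𝔭 : Ideal C') [𝔭.IsPrime] (hsm : Algebra.IsSmoothAt (R ⧸ Ideal.span {π ^ 2}) 𝔭) :
    ∃ T : Chart R n m, T.Valid f π ∧ χ T.q ∉ 𝔭 ∧ χ (jacobianMinor f T.rows T.cols) ∉ 𝔭 := by
  classical
  set Rb := R ⧸ Ideal.span {π ^ 2} with hRb
  set mp : MvPolynomial (Fin n) R →+* MvPolynomial (Fin n) Rb := map (algebraMap R Rb) with hmp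
  have hmps : Function.Surjective mp := map_surjective _ Ideal.Quotient.mk_surjective
  let φb : MvPolynomial (Fin n) Rb →ₐ[Rb] C' := aeval (fun i => χ (X i))
  have hφmp : ∀ p, φb (mp p) = χ p := by
    intro p
    change aeval (fun i => χ (X i)) (map (algebraMap R Rb) p) = χ p
    rw [aeval_map_algebraMap]
    exact (DFunLike.congr_fun (aeval_unique χ) p).symm
  have hφbs : Function.Surjective φb := by
    intro c
    obtain ⟨p, rfl⟩ := hχ c
    exact ⟨mp p, hφmp p⟩
  have hmpC : mp (C (π ^ 2)) = 0 := by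
    rw [hmp, map_C]
    have : algebraMap R Rb (π ^ 2) = 0 :=
      Ideal.Quotient.eq_zero_iff_mem.2 (Ideal.subset_span rfl)
    rw [this, map_zero]
  have hχf : ∀ j, χ (f j) = 0 := by
    intro j
    have : f j ∈ RingHom.ker χ.toRingHom := by
      rw [hker]
      exact Ideal.mem_sup_left (Ideal.subset_span ⟨j, rfl⟩)
    exact this
  set fb : Fin m → MvPolynomial (Fin n) Rb := fun j => mp (f j) with hfb
  have hkerb : RingHom.ker φb.toRingHom = Ideal.span (Set.range fb) := by
    apply le_antisymm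
    · intro pb hpb
      obtain ⟨p, rfl⟩ := hmps pb
      have h1 : χ p = 0 := by rw [← hφmp]; exact hpb
      have h2 : p ∈ Ideal.span (Set.range f) ⊔ Ideal.span {C (π ^ 2)} := by
        rw [← hker]; exact h1
      have h3 := Ideal.mem_map_of_mem mp h2
      rw [Ideal.map_sup, Ideal.map_span, Ideal.map_span, Set.image_singleton, hmpC,
        ← Set.range_comp] at h3
      have h4 : Ideal.span ({0} : Set (MvPolynomial (Fin n) Rb)) = ⊥ := by
        rw [Ideal.span_singleton_eq_bot]
      rw [h4, sup_bot_eq] at h3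
      exact h3
    · rw [Ideal.span_le]
      rintro _ ⟨j, rfl⟩
      change φb (mp (f j)) = 0
      rw [hφmp, hχf]
  haveI := hsm
  obtain ⟨ab, hab, c, rows, cols, a', haa, hkill⟩ :=
    Groth.Agent.S2108.result fb φb hφbs hkerb 𝔭
  obtain ⟨a₁, ha₁⟩ := hφbs ab
  obtain ⟨qb, hqb, hqb2⟩ := Groth.Agent.Lib.Helper11.ElemStd.det_trick fb
    (Ideal.span (Set.range (fb ∘ rows))) a₁ (hkill a₁ ha₁)
  have hminor : jacobianMinor fb rows cols = mp (jacobianMinor f rows cols) := by
    rw [jacobianMinor, jacobianMinor, RingHom.map_det]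
    congr 1
    refine Matrix.ext fun j k => ?_
    rw [RingHom.mapMatrix_apply, Matrix.map_apply, Matrix.of_apply, Matrix.of_apply]
    exact pderiv_map
  have hM : χ (jacobianMinor f rows cols) ∉ 𝔭 := by
    intro hmem
    apply hab
    rw [haa, hminor, hφmp]
    exact Ideal.mul_mem_left _ _ hmem
  obtain ⟨q, hq⟩ := hmps qb
  have hqp : χ q ∉ 𝔭 := by
    intro hmem
    have h1 : φb qb - φb (a₁ ^ m) = 0 := by
      rw [← map_sub]
      have : qb - a₁ ^ m ∈ RingHom.ker φb.toRingHom := by rw [hkerb]; exact hqb2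
      exact this
    rw [sub_eq_zero, map_pow, ha₁, ← hq, hφmp] at h1
    rw [h1] at hmem
    exact hab (Ideal.IsPrime.mem_of_pow_mem inferInstance _ hmem)
  -- lift the relations
  have hlift : ∀ ℓ, ∃ (h₀ : Fin c → MvPolynomial (Fin n) R) (g₀ : MvPolynomial (Fin n) R),
      q * f ℓ = ∑ j, h₀ j * f (rows j) + C (π ^ 2) * g₀ := by
    intro ℓ
    obtain ⟨hb, hhb⟩ := (Ideal.mem_span_range_iff_exists_fun).1 (hqb ℓ)
    choose h₀ hh₀ using fun j => hmps (hb j)
    have h1 : q * f ℓ - ∑ j, h₀ j * f (rows j) ∈ RingHom.ker mp := by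
      rw [RingHom.mem_ker, map_sub, map_mul, map_sum, hq]
      simp_rw [map_mul, hh₀]
      rw [sub_eq_zero]
      exact hhb.symm
    rw [hmp, ker_map] at h1
    have h2 : RingHom.ker (algebraMap R Rb) = Ideal.span {π ^ 2} := Ideal.mk_ker
    rw [h2, Ideal.map_span, Set.image_singleton, Ideal.mem_span_singleton'] at h1
    obtain ⟨g₀, hg₀⟩ := h1
    refine ⟨h₀, g₀, ?_⟩
    rw [mul_comm (C (π ^ 2)), hg₀]
    ring
  choose h₀ g₀ hhg using hlift
  refine ⟨⟨c, rows, cols, q,
    fun ℓ j => if ℓ ∈ Set.range rows then (if ℓ = rows j then q else 0) else h₀ ℓ j,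
    fun ℓ => if ℓ ∈ Set.range rows then 0 else g₀ ℓ⟩, ⟨?_, ?_, ?_⟩, hqp, hM⟩
  · intro ℓ
    change q * f ℓ = ∑ j, (if ℓ ∈ Set.range rows then (if ℓ = rows j then q else 0)
      else h₀ ℓ j) * f (rows j) + C (π ^ 2) * (if ℓ ∈ Set.range rows then 0 else g₀ ℓ)
    by_cases hℓ : ℓ ∈ Set.range rows
    · simp only [if_pos hℓ, mul_zero, add_zero]
      obtain ⟨j₀, rfl⟩ := hℓ
      rw [Finset.sum_eq_single j₀]
      · rw [if_pos rfl]
      · intro j _ hj
        rw [if_neg (fun h => hj (rows.injective h).symm), zero_mul]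
      · intro h; exact absurd (Finset.mem_univ _) h
    · simp only [if_neg hℓ]
      exact hhg ℓ
  · intro j j'
    change (if rows j ∈ Set.range rows then (if rows j = rows j' then q else 0)
      else h₀ (rows j) j') = _
    rw [if_pos ⟨j, rfl⟩]
    by_cases h : j = j'
    · rw [if_pos (congrArg rows h), if_pos h]
    · rw [if_neg (fun h' => h (rows.injective h')), if_neg h]
  · intro j
    change (if rows j ∈ Set.range rows then 0 else g₀ (rows j)) = 0
    rw [if_pos ⟨j, rfl⟩]

end Groth.Agent.Lib.Helper57.S2024Lift
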