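import Mathlib
import Groth.Prelude.Def_Smoothing
import Groth.Agent.Lib.Helper57.S2027Core
import Groth.Agent.Lib.Helper11.ElemStd

/-! The construction in the desingularization lemma (S2027). -/

set_option autoImplicit false
universe u

namespace Groth.Agent.Lib.Helper57.S2027Constr

open MvPolynomial Smoothing Groth.Agent.Lib.Helper57.S2027Core

/-- the data of the construction -/
structure Dat (R : Type u) [CommRing R] where
  n : ℕ
  m : ℕ
  c : ℕ
  hcm : c ≤ m
  f : Fin m → MvPolynomial (Fin n) R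
  π : R
  pt : Fin n → R
  e : Fin m → R
  he : ∀ j, eval pt (f j) = π ^ 4 * e j
  d : R
  s : Matrix (Fin n) (Fin c) R
  hs : ∀ j k : Fin c, ∑ i, eval pt (pderiv i (f (Fin.castLE hcm j))) * s i k =
      if j = k then (1 - π ^ 3 * d) * π else 0
  htail : ∀ j : Fin m, c ≤ (j : ℕ) → C π * f j ∈
    Ideal.span (f '' {j' : Fin m | (j' : ℕ) < c}) ⊔ Ideal.span (Set.range f) ^ 2
  hminor : ∃ α : (Fin c → Fin n) → MvPolynomial (Fin n) R,
    C π - ∑ I : Fin c → Fin n, α I * jacobianMinor f (Fin.castLE hcm) I ∈ Ideal.span (Set.range f)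

namespace Dat

variable {R : Type u} [CommRing R] (D : Dat R)

/-- the polynomial ring in the variables `v`, `w` -/
abbrev Pv : Type u := MvPolynomial (Fin (D.c + D.n)) R

/-- the variables `v` -/
noncomputable def v (k : Fin D.c) : D.Pv := X (Fin.castAdd D.n k)

/-- the variables `w` -/
noncomputable def w (i : Fin D.n) : D.Pv := X (Fin.natAdd D.c i)

/-- the direction -/
noncomputable def y (i : Fin D.n) : D.Pv := ∑ k, C (D.s i k) * D.v k + C D.π * D.w i

/-- the substitution -/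
noncomputable def σ : MvPolynomial (Fin D.n) R →ₐ[R] D.Pv :=
  aeval (fun i => C (D.pt i) + C (D.π ^ 2) * D.y i)

/-- substituted relations -/
noncomputable def F (j : Fin D.m) : D.Pv := D.σ (D.f j)

/-- the Jacobian matrix at the point -/
noncomputable def J' (j : Fin D.m) (i : Fin D.n) : R := eval D.pt (pderiv i (D.f j))

theorem exists_Q (j : Fin D.m) : ∃ Q : D.Pv, D.F j = C (D.π ^ 4 * D.e j) +
    C (D.π ^ 2) * ∑ i, C (D.J' j i) * D.y i + C (D.π ^ 4) * Q := by
  obtain ⟨Q, hQ⟩ := taylor2 (S := D.Pv) (D.f j) D.pt D.y (C (D.π ^ 2))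
  refine ⟨Q, ?_⟩
  change aeval _ (D.f j) = _
  simp only [MvPolynomial.algebraMap_eq] at hQ
  rw [hQ, D.he j]
  simp only [J', map_pow, map_mul]
  ring

/-- the Taylor remainder -/
noncomputable def Q (j : Fin D.m) : D.Pv := Classical.choose (D.exists_Q j)

theorem F_eq (j : Fin D.m) : D.F j = C (D.π ^ 4 * D.e j) +
    C (D.π ^ 2) * ∑ i, C (D.J' j i) * D.y i + C (D.π ^ 4) * D.Q j :=
  Classical.choose_spec (D.exists_Q j)

/-- `F j = π² t j` -/
noncomputable def tt (j : Fin D.m) : D.Pv :=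
  C (D.π ^ 2 * D.e j) + ∑ i, C (D.J' j i) * D.y i + C (D.π ^ 2) * D.Q j

theorem F_eq_tt (j : Fin D.m) : D.F j = C (D.π ^ 2) * D.tt j := by
  rw [F_eq, tt]
  simp only [map_pow, map_mul]
  ring

/-- auxiliary part of `g` -/
noncomputable def G (j : Fin D.c) : D.Pv :=
  C (D.e (Fin.castLE D.hcm j)) - C (D.π ^ 2 * D.d) * D.v j + D.Q (Fin.castLE D.hcm j)

/-- the new leading relations -/
noncomputable def g (j : Fin D.c) : D.Pv :=
  D.v j + ∑ i, C (D.J' (Fin.castLE D.hcm j) i) * D.w i + C D.π * D.G j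

theorem F_eq_g (j : Fin D.c) : D.F (Fin.castLE D.hcm j) = C (D.π ^ 3) * D.g j := by
  classical
  rw [F_eq, g, G]
  have h1 : ∑ i, C (D.J' (Fin.castLE D.hcm j) i) * D.y i =
      C ((1 - D.π ^ 3 * D.d) * D.π) * D.v j +
        C D.π * ∑ i, C (D.J' (Fin.castLE D.hcm j) i) * D.w i := by
    simp only [y, mul_add, Finset.sum_add_distrib, Finset.mul_sum]
    congr 1
    · rw [Finset.sum_comm]
      have : ∀ k, ∑ i, C (D.J' (Fin.castLE D.hcm j) i) * (C (D.s i k) * D.v k) =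
          C (if j = k then (1 - D.π ^ 3 * D.d) * D.π else 0) * D.v k := by
        intro k
        rw [← D.hs j k, map_sum, Finset.sum_mul]
        refine Finset.sum_congr rfl fun i _ => ?_
        rw [map_mul, mul_assoc]
        rfl
      simp_rw [this]
      rw [Finset.sum_eq_single j]
      · rw [if_pos rfl]
      · intro k _ hk
        rw [if_neg (Ne.symm hk), map_zero, zero_mul]
      · intro h; exact absurd (Finset.mem_univ j) h
    · refine Finset.sum_congr rfl fun i _ => ?_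
      ring
  rw [h1]
  simp only [map_pow, map_mul, map_sub, map_one]
  ring

/-- the relations of `B` -/
noncomputable def relB (j : Fin D.m) : D.Pv :=
  if h : (j : ℕ) < D.c then D.g ⟨j, h⟩ else D.F j

theorem relB_lead (j : Fin D.c) : D.relB (Fin.castLE D.hcm j) = D.g j := by
  rw [relB, dif_pos (show ((Fin.castLE D.hcm j : Fin D.m) : ℕ) < D.c from j.2)]
  rfl

theorem relB_tail (j : Fin D.m) (hj : D.c ≤ (j : ℕ)) : D.relB j = D.F j := by
  rw [relB, dif_neg (by omega)]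

/-- the ideal of `B` -/
noncomputable def IB : Ideal D.Pv := Ideal.span (Set.range D.relB)

/-- the algebra `B` -/
abbrev B : Type u := D.Pv ⧸ D.IB

theorem g_mem (j : Fin D.c) : D.g j ∈ D.IB := by
  rw [← D.relB_lead j]
  exact Ideal.subset_span ⟨_, rfl⟩

theorem span_g_le : Ideal.span (Set.range D.g) ≤ D.IB := by
  rw [Ideal.span_le]
  rintro _ ⟨j, rfl⟩
  exact D.g_mem j

theorem F_mem_span_g (j : Fin D.m) (hj : (j : ℕ) < D.c) : D.F j ∈ Ideal.span (Set.range D.g) := by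
  have : j = Fin.castLE D.hcm ⟨j, hj⟩ := rfl
  rw [this, F_eq_g]
  exact Ideal.mul_mem_left _ _ (Ideal.subset_span ⟨_, rfl⟩)

theorem F_mem (j : Fin D.m) : D.F j ∈ D.IB := by
  by_cases hj : (j : ℕ) < D.c
  · exact D.span_g_le (D.F_mem_span_g j hj)
  · rw [← D.relB_tail j (by omega)]
    exact Ideal.subset_span ⟨_, rfl⟩

theorem span_F_le : Ideal.span (Set.range D.F) ≤ D.IB := by
  rw [Ideal.span_le]
  rintro _ ⟨j, rfl⟩
  exact D.F_mem j

theorem span_lead_eq : Ideal.span (D.relB '' {j' : Fin D.m | (j' : ℕ) < D.c}) =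
    Ideal.span (Set.range D.g) := by
  congr 1
  ext x
  constructor
  · rintro ⟨j, hj, rfl⟩
    exact ⟨⟨j, hj⟩, (D.relB_lead ⟨j, hj⟩).symm⟩
  · rintro ⟨j, rfl⟩
    exact ⟨Fin.castLE D.hcm j, j.2, D.relB_lead j⟩

theorem tail (j : Fin D.m) (hj : D.c ≤ (j : ℕ)) :
    C D.π * D.F j ∈ Ideal.span (Set.range D.g) ⊔ Ideal.span (Set.range D.F) ^ 2 := by
  have h := Ideal.mem_map_of_mem D.σ.toRingHom (D.htail j hj)
  rw [Ideal.map_sup, Ideal.map_pow, Ideal.map_span, Ideal.map_span] at h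
  have h1 : D.σ.toRingHom (C D.π * D.f j) = C D.π * D.F j := by
    change D.σ (C D.π * D.f j) = _
    rw [map_mul, F]
    congr 1
    exact D.σ.commutes D.π
  rw [h1] at h
  have hle : Ideal.span (⇑D.σ.toRingHom '' (D.f '' {j' : Fin D.m | (j' : ℕ) < D.c})) ⊔
      Ideal.span (⇑D.σ.toRingHom '' Set.range D.f) ^ 2 ≤
      Ideal.span (Set.range D.g) ⊔ Ideal.span (Set.range D.F) ^ 2 := by
    refine sup_le_sup ?_ (Ideal.pow_right_mono ?_ 2)
    · rw [Ideal.span_le]
      rintro _ ⟨_, ⟨j', hj', rfl⟩, rfl⟩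
      exact D.F_mem_span_g j' hj'
    · rw [Ideal.span_le]
      rintro _ ⟨_, ⟨j', rfl⟩, rfl⟩
      exact Ideal.subset_span ⟨j', rfl⟩
  exact hle h

/-- the marked presentation of `B` -/
noncomputable def PB : MarkedPresentation R D.B where
  n := D.c + D.n
  m := D.m
  c := D.c
  hcn := Nat.le_add_right _ _
  hcm := D.hcm
  rel := D.relB
  hom := Ideal.Quotient.mkₐ R D.IB
  surj := Ideal.Quotient.mkₐ_surjective R D.IB
  ker_eq := by
    change RingHom.ker (Ideal.Quotient.mk D.IB) = _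
    rw [Ideal.mk_ker]
    rfl

theorem pderiv_w_σ (f : MvPolynomial (Fin D.n) R) (l : Fin D.n) :
    pderiv (Fin.natAdd D.c l) (D.σ f) = C (D.π ^ 3) * D.σ (pderiv l f) := by
  classical
  rw [σ, pderiv_aeval]
  have h : ∀ i, pderiv (Fin.natAdd D.c l) (C (D.pt i) + C (D.π ^ 2) * D.y i) =
      if i = l then C (D.π ^ 3) else 0 := by
    intro i
    rw [map_add, pderiv_C, zero_add, Derivation.leibniz, pderiv_C, smul_zero, add_zero, y, map_add,
      map_sum]
    have h1 : ∀ k, pderiv (Fin.natAdd D.c l) (C (D.s i k) * D.v k) = 0 := by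
      intro k
      rw [Derivation.leibniz, pderiv_C, smul_zero, add_zero, v, pderiv_X,
        Pi.single_eq_of_ne' (by
          intro h
          have := congrArg Fin.val h
          simp at this
          omega), smul_zero]
    rw [Finset.sum_eq_zero (fun k _ => h1 k), zero_add, Derivation.leibniz, pderiv_C, smul_zero,
      add_zero, w, pderiv_X]
    by_cases hil : i = l
    · subst hil
      rw [Pi.single_eq_same, if_pos rfl]
      simp only [smul_eq_mul, map_pow]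
      ring
    · rw [if_neg hil, Pi.single_eq_of_ne' (by
        intro h
        exact hil (Fin.natAdd_injective _ _ h).symm)]
      simp
  simp_rw [h]
  rw [Finset.sum_eq_single l]
  · rw [if_pos rfl, mul_comm]
  · intro i _ hi
    rw [if_neg hi, mul_zero]
  · intro h; exact absurd (Finset.mem_univ l) h

theorem minor_identity (I : Fin D.c → Fin D.n) :
    C (D.π ^ (3 * D.c)) * D.σ (jacobianMinor D.f (Fin.castLE D.hcm) I) =
      C (D.π ^ (3 * D.c)) * jacobianMinor D.relB (Fin.castLE D.hcm)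
        (fun k => Fin.natAdd D.c (I k)) := by
  have hpow : (C (D.π ^ (3 * D.c)) : D.Pv) = C (D.π ^ 3) ^ (Fintype.card (Fin D.c)) := by
    rw [Fintype.card_fin, ← map_pow, ← pow_mul]
  rw [jacobianMinor, jacobianMinor, AlgHom.map_det, hpow, ← Matrix.det_smul, ← Matrix.det_smul]
  congr 1
  ext j k
  simp only [Matrix.smul_apply, AlgHom.mapMatrix_apply, Matrix.map_apply, Matrix.of_apply,
    smul_eq_mul]
  rw [D.relB_lead j]
  have h1 : C (D.π ^ 3) * pderiv (Fin.natAdd D.c (I k)) (D.g j) =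
      pderiv (Fin.natAdd D.c (I k)) (C (D.π ^ 3) * D.g j) := by
    rw [Derivation.leibniz, pderiv_C, smul_zero, add_zero, smul_eq_mul]
  rw [h1, ← D.F_eq_g j, F, D.pderiv_w_σ]

theorem mk_σ_eq_zero (x : MvPolynomial (Fin D.n) R) (hx : x ∈ Ideal.span (Set.range D.f)) :
    Ideal.Quotient.mk D.IB (D.σ x) = 0 := by
  rw [Ideal.Quotient.eq_zero_iff_mem]
  have h := Ideal.mem_map_of_mem D.σ.toRingHom hx
  rw [Ideal.map_span] at h
  refine (Ideal.span_le.2 ?_) h
  rintro _ ⟨_, ⟨j, rfl⟩, rfl⟩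
  exact D.F_mem j

theorem killsTail_of (a₀ : D.Pv)
    (h : ∀ j : Fin D.m, D.c ≤ (j : ℕ) → a₀ * D.F j ∈ Ideal.span (Set.range D.g) ⊔ D.IB ^ 2) :
    KillsTail D.PB (D.PB.hom a₀) := by
  intro (a' : D.Pv) ha' (j : Fin D.m) hj
  change a' * D.relB j ∈ Ideal.span (D.relB '' {j' : Fin D.m | (j' : ℕ) < D.c}) ⊔
    D.IB ^ 2
  rw [D.span_lead_eq, D.relB_tail j hj]
  have h1 : a' - a₀ ∈ D.IB := by
    rw [← Ideal.Quotient.eq]
    exact ha'
  have h2 : a' * D.F j = (a' - a₀) * D.F j + a₀ * D.F j := by ring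
  rw [h2]
  refine Ideal.add_mem _ (Ideal.mem_sup_right ?_) (h j hj)
  have h3 : (a' - a₀) * D.F j ∈ D.IB ^ 2 := by
    rw [sq]
    exact Ideal.mul_mem_mul h1 (D.F_mem j)
  exact h3

theorem ss1 : IsStrictlyStandard R D.B (algebraMap R D.B (D.π ^ (3 * D.c + 1))) := by
  classical
  refine ⟨D.PB, ?_, ?_⟩
  · obtain ⟨α, hα⟩ := D.hminor
    have h0 := D.mk_σ_eq_zero _ hα
    rw [map_sub, map_sub, sub_eq_zero] at h0
    have hC : D.σ (C D.π) = C D.π := D.σ.commutes D.π
    rw [hC, map_sum, map_sum] at h0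
    have h1 : algebraMap R D.B (D.π ^ (3 * D.c + 1)) =
        Ideal.Quotient.mk D.IB (C (D.π ^ (3 * D.c))) * Ideal.Quotient.mk D.IB (C D.π) := by
      rw [← map_mul, ← map_mul, ← pow_succ]
      rfl
    rw [h1, h0, Finset.mul_sum]
    refine Ideal.sum_mem _ fun I _ => ?_
    have h2 : Ideal.Quotient.mk D.IB (C (D.π ^ (3 * D.c))) *
        Ideal.Quotient.mk D.IB (D.σ (α I * jacobianMinor D.f (Fin.castLE D.hcm) I)) =
        Ideal.Quotient.mk D.IB (D.σ (α I)) * (Ideal.Quotient.mk D.IB (C (D.π ^ (3 * D.c))) *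
          D.PB.hom (jacobianMinor D.PB.rel (Fin.castLE D.PB.hcm)
            (fun k => Fin.natAdd D.c (I k)))) := by
      change _ = _ * (_ * Ideal.Quotient.mk D.IB (jacobianMinor D.relB (Fin.castLE D.hcm)
            (fun k => Fin.natAdd D.c (I k))))
      rw [map_mul, map_mul, ← map_mul (Ideal.Quotient.mk D.IB) (C (D.π ^ (3 * D.c))) (jacobianMinor _ _ _),
        ← D.minor_identity I, map_mul]
      ring
    rw [h2]
    exact Ideal.mul_mem_left _ _ (Ideal.mul_mem_left _ _ (Ideal.subset_span ⟨_, rfl⟩))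
  · have h1 : algebraMap R D.B (D.π ^ (3 * D.c + 1)) =
        D.PB.hom (C (D.π ^ (3 * D.c + 1)) : D.Pv) := rfl
    rw [h1]
    refine D.killsTail_of (C (D.π ^ (3 * D.c + 1))) fun j hj => ?_
    have h2 : (C (D.π ^ (3 * D.c + 1)) : D.Pv) * D.F j = C (D.π ^ (3 * D.c)) * (C D.π * D.F j) := by
      rw [pow_succ, map_mul]
      ring
    rw [h2]
    refine Ideal.mul_mem_left _ _ ?_
    exact (sup_le_sup le_rfl (Ideal.pow_right_mono D.span_F_le 2)) (D.tail j hj)

/-- the leading minor -/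
noncomputable def Δ : D.Pv := jacobianMinor D.g (fun j => j) (fun k => Fin.castAdd D.n k)

theorem minor_lead_eq :
    jacobianMinor D.PB.rel (Fin.castLE D.PB.hcm) (Fin.castLE D.PB.hcn) = D.Δ := by
  have h : ∀ (j k : Fin D.c), pderiv (Fin.castLE (Nat.le_add_right D.c D.n) k)
      (D.relB (Fin.castLE D.hcm j)) = pderiv (Fin.castAdd D.n k) (D.g j) := by
    intro j k
    rw [D.relB_lead]
    rfl
  rw [jacobianMinor, Δ, jacobianMinor]
  congr 1
  refine Matrix.ext fun j k => ?_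
  simp only [Matrix.of_apply]
  exact h j k

theorem pderiv_v_g (j k : Fin D.c) : pderiv (Fin.castAdd D.n k) (D.g j) =
    (if j = k then 1 else 0) + C D.π * pderiv (Fin.castAdd D.n k) (D.G j) := by
  classical
  rw [g, map_add, map_add, map_sum]
  have h1 : ∀ i, pderiv (Fin.castAdd D.n k) (C (D.J' (Fin.castLE D.hcm j) i) * D.w i) = 0 := by
    intro i
    rw [Derivation.leibniz, pderiv_C, smul_zero, add_zero, w, pderiv_X,
      Pi.single_eq_of_ne' (by
        intro h
        have := congrArg Fin.val h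
        simp at this
        omega), smul_zero]
  rw [Finset.sum_eq_zero (fun i _ => h1 i), add_zero, Derivation.leibniz, pderiv_C, smul_zero,
    add_zero, smul_eq_mul, v, pderiv_X]
  congr 1
  by_cases hjk : j = k
  · subst hjk
    rw [Pi.single_eq_same, if_pos rfl]
  · rw [if_neg hjk, Pi.single_eq_of_ne' (by
      intro h
      exact hjk (Fin.castAdd_injective _ _ h).symm)]

theorem hΔ : D.Δ - 1 ∈ Ideal.span {(C D.π : D.Pv)} := by
  classical
  rw [← Ideal.Quotient.eq, map_one, Δ, jacobianMinor, RingHom.map_det]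
  have : (Ideal.Quotient.mk (Ideal.span {(C D.π : D.Pv)})).mapMatrix
      (Matrix.of fun j k : Fin D.c => pderiv (Fin.castAdd D.n k) (D.g j)) = 1 := by
    refine Matrix.ext fun j k => ?_
    have hz : Ideal.Quotient.mk (Ideal.span {(C D.π : D.Pv)}) (C D.π) = 0 :=
      Ideal.Quotient.eq_zero_iff_mem.2 (Ideal.subset_span rfl)
    simp only [RingHom.mapMatrix_apply, Matrix.map_apply, Matrix.of_apply]
    rw [D.pderiv_v_g, map_add, map_mul, hz, zero_mul, add_zero]
    by_cases hjk : j = k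
    · subst hjk; simp
    · simp [hjk]
  rw [this, Matrix.det_one]

/-- the ideal of `B'` -/
noncomputable def IB' : Ideal D.Pv := Ideal.span (Set.range D.g)

/-- the algebra `B'` -/
abbrev B' : Type u := D.Pv ⧸ D.IB'

/-- the marked presentation of `B'` -/
noncomputable def PB' : MarkedPresentation R D.B' where
  n := D.c + D.n
  m := D.c
  c := D.c
  hcn := Nat.le_add_right _ _
  hcm := le_rfl
  rel := D.g
  hom := Ideal.Quotient.mkₐ R D.IB'
  surj := Ideal.Quotient.mkₐ_surjective R D.IB'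
  ker_eq := by
    change RingHom.ker (Ideal.Quotient.mk D.IB') = _
    rw [Ideal.mk_ker]
    rfl

theorem flat_B' : Module.Flat R (Localization.Away (Ideal.Quotient.mk D.IB' D.Δ)) := by
  haveI : Algebra.IsStandardSmooth R (Localization.Away (Ideal.Quotient.mk D.IB' D.Δ)) := by
    refine Groth.Agent.Lib.Helper11.ElemStd.isStandardSmooth_of_marked
      (Ideal.Quotient.mk D.IB' D.Δ) D.PB' 1 ?_ ?_
    · rw [one_mul]
      rfl
    · intro a' _ j hj
      exact absurd j.2 (not_lt.2 hj)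
  infer_instance

theorem exists_P0 (r : R) (hr : ∀ x : R, D.π ^ 2 * x = 0 → D.π * (r * x) = 0) :
    ∃ (P₀ P₂ : D.Pv) (k : ℕ), P₀ = C (r ^ (2 * D.m)) * D.Δ ^ k + C D.π * P₂ ∧
      ∀ j : Fin D.m, D.c ≤ (j : ℕ) → P₀ * D.F j ∈ Ideal.span (Set.range D.g) := by
  classical
  haveI := D.flat_B'
  let t : Fin D.m → D.B' := fun j =>
    if D.c ≤ (j : ℕ) then Ideal.Quotient.mk D.IB' (D.tt j) else 0
  have hFt : ∀ k, Ideal.Quotient.mk D.IB' (D.F k) = algebraMap R D.B' (D.π ^ 2) * t k := by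
    intro k
    by_cases hk : D.c ≤ (k : ℕ)
    · simp only [t, if_pos hk]
      rw [F_eq_tt, map_mul]
      rfl
    · simp only [t, if_neg hk, mul_zero]
      exact Ideal.Quotient.eq_zero_iff_mem.2 (D.F_mem_span_g k (by omega))
  have ht : ∀ j, ∃ a : Fin D.m → D.B',
      algebraMap R D.B' (D.π ^ 3) * t j = algebraMap R D.B' (D.π ^ 4) * ∑ k, a k * t k := by
    intro j
    by_cases hj : D.c ≤ (j : ℕ)
    · have h' := Ideal.mem_map_of_mem (Ideal.Quotient.mk D.IB') (D.tail j hj)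
      rw [Ideal.map_sup, Ideal.map_pow, Ideal.map_span, Ideal.map_span] at h'
      have hbot : Ideal.span (⇑(Ideal.Quotient.mk D.IB') '' Set.range D.g) = ⊥ := by
        rw [Ideal.span_eq_bot]
        rintro _ ⟨_, ⟨j, rfl⟩, rfl⟩
        exact Ideal.Quotient.eq_zero_iff_mem.2 (Ideal.subset_span ⟨j, rfl⟩)
      rw [hbot, bot_sup_eq] at h'
      have hle : Ideal.span (⇑(Ideal.Quotient.mk D.IB') '' Set.range D.F) ≤
          Ideal.span {algebraMap R D.B' (D.π ^ 2)} := by
        rw [Ideal.span_le]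
        rintro _ ⟨_, ⟨k, rfl⟩, rfl⟩
        rw [hFt]
        exact Ideal.mul_mem_right _ _ (Ideal.subset_span rfl)
      have h2 : Ideal.Quotient.mk D.IB' (C D.π * D.F j) ∈
          Ideal.span {algebraMap R D.B' (D.π ^ 2)} *
            Ideal.span (⇑(Ideal.Quotient.mk D.IB') '' Set.range D.F) := by
        rw [sq] at h'
        exact Ideal.mul_mono_left hle h'
      obtain ⟨z, hz, hz'⟩ := Ideal.mem_span_singleton_mul.1 h2
      rw [← Set.range_comp] at hz
      obtain ⟨a, ha⟩ := Ideal.mem_span_range_iff_exists_fun.1 hz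
      refine ⟨a, ?_⟩
      have h3 : Ideal.Quotient.mk D.IB' (C D.π * D.F j) =
          algebraMap R D.B' (D.π ^ 3) * t j := by
        rw [map_mul, hFt, ← mul_assoc]
        congr 1
        rw [pow_succ' D.π 2, map_mul]
        rfl
      rw [← h3, ← hz', ← ha, Finset.mul_sum, Finset.mul_sum]
      refine Finset.sum_congr rfl fun k _ => ?_
      simp only [Function.comp_apply, smul_eq_mul]
      rw [hFt]
      simp only [map_pow]
      ring
    · refine ⟨fun _ => 0, ?_⟩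
      simp [t, if_neg hj]
  obtain ⟨p₀, p₂, k, hp, hpt⟩ := lemmaX' (Ideal.Quotient.mk D.IB' D.Δ) D.π r hr t ht
  obtain ⟨P₂, rfl⟩ := Ideal.Quotient.mk_surjective p₂
  refine ⟨C (r ^ (2 * D.m)) * D.Δ ^ k + C D.π * P₂, P₂, k, rfl, ?_⟩
  intro j hj
  have h4 : Ideal.Quotient.mk D.IB' ((C (r ^ (2 * D.m)) * D.Δ ^ k + C D.π * P₂) * D.F j) = 0 := by
    have h5 := hpt j
    simp only [t, if_pos hj] at h5
    have h6 : Ideal.Quotient.mk D.IB' (C (r ^ (2 * D.m)) * D.Δ ^ k + C D.π * P₂) = p₀ := by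
      rw [hp, map_add, map_mul, map_mul, map_pow (Ideal.Quotient.mk D.IB') D.Δ k]
      rfl
    rw [map_mul, h6, F_eq_tt, map_mul]
    have h7 : Ideal.Quotient.mk D.IB' (C (D.π ^ 2)) =
        algebraMap R D.B' D.π * algebraMap R D.B' D.π := by
      rw [← map_mul, ← sq]
      rfl
    rw [h7, mul_assoc, ← mul_assoc p₀, mul_comm p₀, mul_assoc, h5, mul_zero]
  exact Ideal.Quotient.eq_zero_iff_mem.1 h4

theorem ss2 (r : R) (hr : ∀ x : R, D.π ^ 2 * x = 0 → D.π * (r * x) = 0) (𝔮 : Ideal D.B)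
    [h𝔮 : 𝔮.IsPrime] (hπ : algebraMap R D.B D.π ∈ 𝔮) (hrq : algebraMap R D.B r ∉ 𝔮) :
    ∃ ε : D.B, ε ∉ 𝔮 ∧ IsStrictlyStandard R D.B ε := by
  obtain ⟨P₀, P₂, k, hP, htail⟩ := D.exists_P0 r hr
  refine ⟨D.PB.hom (P₀ * D.Δ), ?_, D.PB, ?_, ?_⟩
  · intro hmem
    have hΔq : Ideal.Quotient.mk D.IB D.Δ ∉ 𝔮 := by
      intro h
      obtain ⟨z, hz⟩ := Ideal.mem_span_singleton'.1 D.hΔ
      have h1 : (1 : D.B) = Ideal.Quotient.mk D.IB D.Δ -
          Ideal.Quotient.mk D.IB z * algebraMap R D.B D.π := by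
        rw [show algebraMap R D.B D.π = Ideal.Quotient.mk D.IB (C D.π) from rfl, ← map_mul, hz,
          map_sub, map_one]
        ring
      have : (1 : D.B) ∈ 𝔮 := by
        rw [h1]
        exact 𝔮.sub_mem h (𝔮.mul_mem_left _ hπ)
      exact h𝔮.ne_top ((Ideal.eq_top_iff_one _).2 this)
    have h1 : D.PB.hom (P₀ * D.Δ) = Ideal.Quotient.mk D.IB P₀ * Ideal.Quotient.mk D.IB D.Δ :=
      map_mul _ _ _
    rw [h1] at hmem
    rcases h𝔮.mem_or_mem hmem with h | h
    · have h2 : Ideal.Quotient.mk D.IB P₀ = algebraMap R D.B (r ^ (2 * D.m)) *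
          Ideal.Quotient.mk D.IB D.Δ ^ k + algebraMap R D.B D.π * Ideal.Quotient.mk D.IB P₂ := by
        rw [hP, map_add, map_mul, map_mul, map_pow (Ideal.Quotient.mk D.IB) D.Δ k]
        rfl
      rw [h2] at h
      have h3 : algebraMap R D.B (r ^ (2 * D.m)) * Ideal.Quotient.mk D.IB D.Δ ^ k ∈ 𝔮 := by
        have := 𝔮.sub_mem h (𝔮.mul_mem_right (Ideal.Quotient.mk D.IB P₂) hπ)
        simpa using this
      rcases h𝔮.mem_or_mem h3 with h4 | h4
      · rw [map_pow] at h4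
        exact hrq (h𝔮.mem_of_pow_mem _ h4)
      · exact hΔq (h𝔮.mem_of_pow_mem _ h4)
    · exact hΔq h
  · have : D.PB.hom (P₀ * D.Δ) = D.PB.hom P₀ *
        D.PB.hom (jacobianMinor D.PB.rel (Fin.castLE D.PB.hcm) (Fin.castLE D.PB.hcn)) := by
      rw [D.minor_lead_eq]
      exact map_mul (Ideal.Quotient.mk D.IB) P₀ D.Δ
    rw [this]
    exact Ideal.mul_mem_left _ _ (Ideal.subset_span ⟨_, rfl⟩)
  · refine D.killsTail_of _ fun j hj => ?_
    have : P₀ * D.Δ * D.F j = D.Δ * (P₀ * D.F j) := by ring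
    rw [this]
    exact Ideal.mem_sup_left (Ideal.mul_mem_left _ _ (htail j hj))

theorem exists_ss (r : R) (hr : ∀ x : R, D.π ^ 2 * x = 0 → D.π * (r * x) = 0) (𝔮 : Ideal D.B)
    [h𝔮 : 𝔮.IsPrime] (hrq : algebraMap R D.B r ∉ 𝔮) :
    ∃ ε : D.B, ε ∉ 𝔮 ∧ IsStrictlyStandard R D.B ε := by
  by_cases hπ : algebraMap R D.B D.π ∈ 𝔮
  · exact D.ss2 r hr 𝔮 hπ hrq
  · refine ⟨_, fun h => hπ ?_, D.ss1⟩
    rw [map_pow] at h
    exact h𝔮.mem_of_pow_mem _ h

theorem exists_alpha {A : Type u} [CommRing A] [Algebra R A]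
    (hom : MvPolynomial (Fin D.n) R →ₐ[R] A) (hsurj : Function.Surjective hom)
    (hker : RingHom.ker hom.toRingHom = Ideal.span (Set.range D.f)) :
    ∃ α : A →ₐ[R] D.B, ∀ p, α (hom p) = Ideal.Quotient.mk D.IB (D.σ p) := by
  have H : RingHom.ker hom.toRingHom ≤
      RingHom.ker ((Ideal.Quotient.mkₐ R D.IB).comp D.σ).toRingHom := by
    rw [hker]
    intro x hx
    exact D.mk_σ_eq_zero x hx
  exact ⟨AlgHom.liftOfSurjective hom hsurj ((Ideal.Quotient.mkₐ R D.IB).comp D.σ) H,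
    fun p => AlgHom.liftOfSurjective_apply hom hsurj _ H p⟩

theorem exists_beta {Λ : Type u} [CommRing Λ] [Algebra R Λ]
    (hΛ : ∀ x : Λ, D.π ^ 2 • x = 0 → D.π • x = 0)
    (φ₀ : MvPolynomial (Fin D.n) R →ₐ[R] Λ) (hφ₀ : ∀ j, φ₀ (D.f j) = 0) (lam : Fin D.n → Λ)
    (hlam : ∀ i, φ₀ (X i) = algebraMap R Λ (D.pt i) + D.π ^ 4 • lam i) :
    ∃ β : D.B →ₐ[R] Λ, ∀ p, β (Ideal.Quotient.mk D.IB (D.σ p)) = φ₀ p := by
  classical
  let β₀ : D.Pv →ₐ[R] Λ :=
    aeval (Fin.append (fun _ : Fin D.c => (0 : Λ)) (fun i : Fin D.n => D.π • lam i))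
  have hv : ∀ k, β₀ (D.v k) = 0 := by
    intro k
    simp only [β₀, v, aeval_X, Fin.append_left]
  have hw : ∀ i, β₀ (D.w i) = D.π • lam i := by
    intro i
    simp only [β₀, w, aeval_X, Fin.append_right]
  have hC : ∀ a : R, β₀ (C a) = algebraMap R Λ a := fun a => β₀.commutes a
  have hy : ∀ i, β₀ (D.y i) = D.π ^ 2 • lam i := by
    intro i
    rw [y, map_add, map_sum]
    simp only [map_mul, hv, mul_zero, Finset.sum_const_zero, zero_add, hw, hC]
    rw [← Algebra.smul_def, smul_smul, ← sq]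
  have hσ : β₀.comp D.σ = φ₀ := by
    apply MvPolynomial.algHom_ext
    intro i
    rw [AlgHom.comp_apply, σ, aeval_X, map_add, map_mul, hy, hC, hC, hlam, ← Algebra.smul_def,
      smul_smul]
    congr 2
    ring
  have hσ' : ∀ p, β₀ (D.σ p) = φ₀ p := fun p => by rw [← hσ]; rfl
  have hF : ∀ j, β₀ (D.F j) = 0 := fun j => by rw [F, hσ', hφ₀]
  have hg : ∀ j, β₀ (D.g j) = 0 := by
    intro j
    set τ : Λ := ∑ i, D.J' (Fin.castLE D.hcm j) i • lam i + β₀ (D.G j) with hτ
    have h1 : β₀ (D.g j) = D.π • τ := by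
      rw [g, map_add, map_add, hv, zero_add, map_sum, map_mul, hC, hτ, smul_add, Finset.smul_sum,
        ← Algebra.smul_def]
      congr 1
      refine Finset.sum_congr rfl fun i _ => ?_
      rw [map_mul, hC, hw, ← Algebra.smul_def, smul_comm]
    have h2 : D.π ^ 3 • β₀ (D.g j) = 0 := by
      rw [Algebra.smul_def, ← hC, ← map_mul, ← D.F_eq_g, hF]
    rw [h1] at h2 ⊢
    have h3 : D.π ^ 2 • (D.π ^ 2 • τ) = 0 := by
      rw [← h2, smul_smul, smul_smul]
      congr 1
      ring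
    have h4 := hΛ _ h3
    have h5 : D.π ^ 2 • (D.π • τ) = 0 := by
      rw [← h4, smul_smul, smul_smul]
      congr 1
      ring
    have h6 := hΛ _ h5
    have h7 : D.π ^ 2 • τ = 0 := by
      rw [← h6, smul_smul, sq]
    exact hΛ _ h7
  have hIB : ∀ a ∈ D.IB, β₀ a = 0 := by
    intro a ha
    have : D.IB ≤ RingHom.ker β₀.toRingHom := by
      rw [IB, Ideal.span_le]
      rintro _ ⟨j, rfl⟩
      change β₀ (D.relB j) = 0
      by_cases hj : (j : ℕ) < D.c
      · rw [relB, dif_pos hj]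
        exact hg _
      · rw [D.relB_tail j (by omega)]
        exact hF j
    exact this ha
  refine ⟨Ideal.Quotient.liftₐ D.IB β₀ hIB, fun p => ?_⟩
  rw [← hσ' p]
  rfl

end Dat

end Groth.Agent.Lib.Helper57.S2027Constr
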