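import Mathlib
import Groth.Prelude.Def_Smoothing
import Groth.Agent.Lib.Helper62.ElemStdPerm

universe u

namespace Groth.Agent.Lib.Helper57.S2029Core

open MvPolynomial TensorProduct

section clear
variable {R T : Type u} [CommRing R] [CommRing T] [Algebra R T] (S : Submonoid R)
  [IsLocalization S T] {Z : Type*}

attribute [local instance] MvPolynomial.algebraMvPolynomial

omit [IsLocalization S T] in
theorem algebraMap_poly (p : MvPolynomial Z R) :
    algebraMap (MvPolynomial Z R) (MvPolynomial Z T) p = MvPolynomial.map (algebraMap R T) p := rfl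

/-- clearing denominators of finitely many polynomials -/
theorem exists_clear {c : ℕ} (ρ : Fin c → MvPolynomial Z T) :
    ∃ s₁ ∈ S, ∃ F : Fin c → MvPolynomial Z R,
      ∀ j, MvPolynomial.map (algebraMap R T) (F j) = C (algebraMap R T s₁) * ρ j := by
  obtain ⟨⟨b, s₁, hs₁, rfl⟩, hb⟩ := IsLocalization.exist_integer_multiples_of_finite
    (S.map (C (σ := Z) (R := R))) ρ
  choose F hF using hb
  refine ⟨s₁, hs₁, F, fun j => ?_⟩
  have := hF j
  rw [algebraMap_poly] at this
  rw [this, Algebra.smul_def, algebraMap_poly]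
  simp

/-- membership in an extended ideal descends after multiplying by an element of `S` -/
theorem exists_mul_mem (I : Ideal (MvPolynomial Z R)) (p : MvPolynomial Z R)
    (hp : MvPolynomial.map (algebraMap R T) p ∈ I.map (MvPolynomial.map (algebraMap R T))) :
    ∃ s ∈ S, C s * p ∈ I := by
  have h := (IsLocalization.algebraMap_mem_map_algebraMap_iff (S.map (C (σ := Z) (R := R)))
    (MvPolynomial Z T) I p).1 hp
  obtain ⟨m, ⟨s, hs, rfl⟩, hm⟩ := h
  exact ⟨s, hs, hm⟩

/-- `S`-torsion from vanishing in the localized module -/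
theorem exists_smul_eq_zero {Λ : Type u} [AddCommGroup Λ] [Module R Λ] (x : Λ)
    (hx : (1 : T) ⊗ₜ[R] x = 0) : ∃ s ∈ S, s • x = 0 := by
  have h := (IsLocalizedModule.eq_zero_iff S (TensorProduct.mk R T Λ 1)).1 hx
  obtain ⟨⟨s, hs⟩, h⟩ := h
  exact ⟨s, hs, h⟩

end clear



section clear
variable {R T : Type u} [CommRing R] [CommRing T] [Algebra R T] (S : Submonoid R)
  [IsLocalization S T] {Z : Type*}

/-- the extension of the ideal of cleared relations is the ideal of the original relations -/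
theorem map_span_clear {c : ℕ} (ρ : Fin c → MvPolynomial Z T) (s₁ : R) (hs₁ : s₁ ∈ S)
    (F : Fin c → MvPolynomial Z R)
    (hF : ∀ j, MvPolynomial.map (algebraMap R T) (F j) = C (algebraMap R T s₁) * ρ j) :
    (Ideal.span (Set.range F)).map (MvPolynomial.map (algebraMap R T)) =
      Ideal.span (Set.range ρ) := by
  obtain ⟨w, hw⟩ := (IsLocalization.map_units T (⟨s₁, hs₁⟩ : S)).exists_left_inv
  rw [Ideal.map_span]
  apply le_antisymm
  · rw [Ideal.span_le]
    rintro _ ⟨_, ⟨j, rfl⟩, rfl⟩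
    rw [hF]
    exact Ideal.mul_mem_left _ _ (Ideal.subset_span ⟨j, rfl⟩)
  · rw [Ideal.span_le]
    rintro _ ⟨j, rfl⟩
    have : ρ j = C w * MvPolynomial.map (algebraMap R T) (F j) := by
      rw [hF, ← mul_assoc, ← C_mul]
      change ρ j = C (w * algebraMap R T s₁) * ρ j
      rw [hw, C_1, one_mul]
    rw [this]
    exact Ideal.mul_mem_left _ _ (Ideal.subset_span ⟨_, ⟨j, rfl⟩, rfl⟩)

omit [IsLocalization S T] in
theorem map_det_clear {c : ℕ} (ρ : Fin c → MvPolynomial Z T) (s₁ : R)
    (F : Fin c → MvPolynomial Z R)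
    (hF : ∀ j, MvPolynomial.map (algebraMap R T) (F j) = C (algebraMap R T s₁) * ρ j)
    (cols : Fin c → Z) :
    MvPolynomial.map (algebraMap R T) (Matrix.det (Matrix.of fun j k => pderiv (cols k) (F j))) =
      C (algebraMap R T s₁) ^ c *
        Matrix.det (Matrix.of fun j k => pderiv (cols k) (ρ j)) := by
  rw [RingHom.map_det]
  have : (MvPolynomial.map (algebraMap R T)).mapMatrix
      (Matrix.of fun j k => pderiv (cols k) (F j)) =
      (C (algebraMap R T s₁) : MvPolynomial Z T) • (Matrix.of fun j k => pderiv (cols k) (ρ j)) := by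
    ext j k
    simp only [RingHom.mapMatrix_apply, Matrix.map_apply, Matrix.of_apply, Matrix.smul_apply,
      smul_eq_mul]
    rw [← pderiv_map, hF, pderiv_C_mul]
  rw [this, Matrix.det_smul, Fintype.card_fin]

end clear


section jac
variable {R T : Type u} [CommRing R] [CommRing T] [Algebra R T] (S : Submonoid R)
  [IsLocalization S T] {Z : Type*}

attribute [local instance] MvPolynomial.algebraMvPolynomial

theorem jac_identity {B' : Type u} [CommRing B'] [Algebra T B'] {c : ℕ}
    (π : MvPolynomial Z T →ₐ[T] B') (hπ : Function.Surjective π) (ρ : Fin c → MvPolynomial Z T)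
    (hker : RingHom.ker π.toRingHom = Ideal.span (Set.range ρ)) (cols : Fin c → Z)
    (hunit : IsUnit (π (Matrix.det (Matrix.of fun j k => pderiv (cols k) (ρ j)))))
    (s₁ : R) (hs₁ : s₁ ∈ S) (F : Fin c → MvPolynomial Z R)
    (hF : ∀ j, MvPolynomial.map (algebraMap R T) (F j) = C (algebraMap R T s₁) * ρ j) :
    ∃ s₅ ∈ S, ∃ s₆ ∈ S, ∃ A₀ : MvPolynomial Z R,
      C s₆ * (A₀ * Matrix.det (Matrix.of fun j k => pderiv (cols k) (F j)) - C s₅) ∈
        Ideal.span (Set.range F) := by
  set ΔF := Matrix.det (Matrix.of fun j k => pderiv (cols k) (F j)) with hΔF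
  have hΔ := map_det_clear ρ s₁ F hF cols
  have hv : IsUnit (π (MvPolynomial.map (algebraMap R T) ΔF)) := by
    rw [hΔ, map_mul, map_pow]
    refine IsUnit.mul (IsUnit.pow _ ?_) hunit
    rw [MvPolynomial.algHom_C]
    exact (IsLocalization.map_units T (⟨s₁, hs₁⟩ : S)).map (algebraMap T B')
  obtain ⟨w, hw⟩ := hv.exists_left_inv
  obtain ⟨q, rfl⟩ := hπ w
  obtain ⟨⟨A₀, ⟨_, s₅, hs₅, rfl⟩⟩, hq⟩ := IsLocalization.surj (S.map (C (σ := Z) (R := R))) q
  rw [algebraMap_poly, algebraMap_poly] at hq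
  simp only [MvPolynomial.map_C] at hq
  have h1 : MvPolynomial.map (algebraMap R T) (A₀ * ΔF - C s₅) ∈
      (Ideal.span (Set.range F)).map (MvPolynomial.map (algebraMap R T)) := by
    rw [map_span_clear S ρ s₁ hs₁ F hF, ← hker, RingHom.mem_ker]
    change π _ = 0
    rw [map_sub, map_mul, MvPolynomial.map_C, ← hq, map_sub, map_mul, map_mul]
    have : π (q * C (algebraMap R T s₅)) = π q * π (C (algebraMap R T s₅)) := map_mul _ _ _
    calc π q * π (C (algebraMap R T s₅)) * π (MvPolynomial.map (algebraMap R T) ΔF) -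
          π (C (algebraMap R T s₅))
        = π (C (algebraMap R T s₅)) * (π q * π (MvPolynomial.map (algebraMap R T) ΔF)) -
          π (C (algebraMap R T s₅)) := by ring
      _ = 0 := by rw [hw, mul_one, sub_self]
  obtain ⟨s₆, hs₆, h2⟩ := exists_mul_mem S _ _ h1
  exact ⟨s₅, hs₅, s₆, hs₆, A₀, h2⟩

end jac


section core
variable {R A Λ T B' : Type u} [CommRing R] [CommRing A] [Algebra R A] [CommRing Λ] [Algebra R Λ]
  (φ : A →ₐ[R] Λ) (S : Submonoid R) [CommRing T] [Algebra R T] [IsLocalization S T]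
  [CommRing B'] [Algebra T B'] (g : T ⊗[R] A →ₐ[T] B') (h : B' →ₐ[T] T ⊗[R] Λ)

omit [IsLocalization S T] in
/-- evaluating at `lam` and then mapping to `T ⊗ Λ` is `h ∘ π` after extending scalars -/
theorem eval_compat {N : ℕ} (π : MvPolynomial (Fin N) T →ₐ[T] B') (lam : Fin N → Λ)
    (hlam : ∀ z, h (π (X z)) = 1 ⊗ₜ lam z) (p : MvPolynomial (Fin N) R) :
    (1 : T) ⊗ₜ[R] (aeval lam p) = h (π (MvPolynomial.map (algebraMap R T) p)) := by
  let f1 : MvPolynomial (Fin N) R →+* T ⊗[R] Λ :=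
    (Algebra.TensorProduct.includeRight : Λ →ₐ[R] T ⊗[R] Λ).toRingHom.comp
      (aeval lam : MvPolynomial (Fin N) R →ₐ[R] Λ).toRingHom
  let f2 : MvPolynomial (Fin N) R →+* T ⊗[R] Λ :=
    h.toRingHom.comp (π.toRingHom.comp (MvPolynomial.map (algebraMap R T)))
  have : f1 = f2 := by
    apply MvPolynomial.ringHom_ext
    · intro r
      change (1 : T) ⊗ₜ[R] (aeval lam (C r)) = h (π (MvPolynomial.map (algebraMap R T) (C r)))
      rw [MvPolynomial.map_C, MvPolynomial.algHom_C, MvPolynomial.algHom_C, AlgHom.commutes]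
      have e1 : (1 : T) ⊗ₜ[R] (algebraMap R Λ r) = algebraMap R (T ⊗[R] Λ) r :=
        (Algebra.TensorProduct.includeRight : Λ →ₐ[R] T ⊗[R] Λ).commutes r
      rw [e1, IsScalarTower.algebraMap_apply R T (T ⊗[R] Λ)]
    · intro z
      change (1 : T) ⊗ₜ[R] (aeval lam (X z)) = h (π (MvPolynomial.map (algebraMap R T) (X z)))
      rw [aeval_X, MvPolynomial.map_X, hlam]
  exact RingHom.congr_fun this p

omit [IsLocalization S T] in
/-- compatibility of `π` with `g` on polynomials in the generators of `A` -/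
theorem emb_compat {N a : ℕ} (π : MvPolynomial (Fin N) T →ₐ[T] B')
    (ψ : MvPolynomial (Fin a) R →ₐ[R] A) (emb : Fin a → Fin N)
    (hemb : ∀ k, π (X (emb k)) = g (1 ⊗ₜ ψ (X k))) (p : MvPolynomial (Fin a) R) :
    π (MvPolynomial.map (algebraMap R T) (rename emb p)) = g (1 ⊗ₜ ψ p) := by
  let f1 : MvPolynomial (Fin a) R →+* B' :=
    π.toRingHom.comp ((MvPolynomial.map (algebraMap R T)).comp
      (rename emb : MvPolynomial (Fin a) R →ₐ[R] MvPolynomial (Fin N) R).toRingHom)
  let f2 : MvPolynomial (Fin a) R →+* B' :=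
    g.toRingHom.comp ((Algebra.TensorProduct.includeRight : A →ₐ[R] T ⊗[R] A).toRingHom.comp
      ψ.toRingHom)
  have : f1 = f2 := by
    apply MvPolynomial.ringHom_ext
    · intro r
      change π (MvPolynomial.map (algebraMap R T) (rename emb (C r))) = g (1 ⊗ₜ ψ (C r))
      rw [rename_C, MvPolynomial.map_C, MvPolynomial.algHom_C, MvPolynomial.algHom_C]
      have e1 : (1 : T) ⊗ₜ[R] (algebraMap R A r) = algebraMap R (T ⊗[R] A) r :=
        (Algebra.TensorProduct.includeRight : A →ₐ[R] T ⊗[R] A).commutes r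
      rw [e1, IsScalarTower.algebraMap_apply R T (T ⊗[R] A), AlgHom.commutes]
    · intro k
      change π (MvPolynomial.map (algebraMap R T) (rename emb (X k))) = g (1 ⊗ₜ ψ (X k))
      rw [rename_X, MvPolynomial.map_X, hemb]
  exact RingHom.congr_fun this p

/-- multiplying an element of the ideal of the `F j` by `C s'` lands in the ideal of the
`C s' * F j` -/
theorem smul_mem_span {Z : Type*} {c : ℕ} (F : Fin c → MvPolynomial Z R) (s' : R)
    (x : MvPolynomial Z R) (hx : x ∈ Ideal.span (Set.range F)) :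
    C s' * x ∈ Ideal.span (Set.range fun j => C s' * F j) := by
  obtain ⟨a, rfl⟩ := (Ideal.mem_span_range_iff_exists_fun).1 hx
  rw [Finset.mul_sum]
  refine Ideal.sum_mem _ fun j _ => ?_
  have : C s' * (a j * F j) = a j * (C s' * F j) := by ring
  rw [this]
  exact Ideal.mul_mem_left _ _ (Ideal.subset_span ⟨j, rfl⟩)

open Smoothing in
theorem core_data {N c a tA : ℕ}
    (ψ : MvPolynomial (Fin a) R →ₐ[R] A) (hψ : Function.Surjective ψ)
    (gA : Fin tA → MvPolynomial (Fin a) R)
    (hψker : RingHom.ker ψ.toRingHom = Ideal.span (Set.range gA))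
    (π : MvPolynomial (Fin N) T →ₐ[T] B') (hπ : Function.Surjective π)
    (ρ : Fin c → MvPolynomial (Fin N) T)
    (hker : RingHom.ker π.toRingHom = Ideal.span (Set.range ρ)) (cols : Fin c ↪ Fin N)
    (hunit : IsUnit (π (Matrix.det (Matrix.of fun j k => pderiv (cols k) (ρ j)))))
    (emb : Fin a → Fin N) (hemb : ∀ k, π (X (emb k)) = g (1 ⊗ₜ ψ (X k)))
    (lam : Fin N → Λ) (hlam : ∀ z, h (π (X z)) = 1 ⊗ₜ lam z)
    (hlam_emb : ∀ k, lam (emb k) = φ (ψ (X k))) :
    ∃ (B : Type u) (_ : CommRing B) (_ : Algebra R B) (α : A →ₐ[R] B) (β : B →ₐ[R] Λ),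
      β.comp α = φ ∧ ∃ s ∈ S, IsElementaryStandard R B (algebraMap R B s) := by
  classical
  -- Step 1: clear denominators in the relations
  obtain ⟨s₁, hs₁, F, hF⟩ := exists_clear (T := T) S ρ
  have hmapF := map_span_clear S ρ s₁ hs₁ F hF
  -- Step 2: the `F j (lam)` are `S`-torsion
  have htors : ∀ j, ∃ s ∈ S, s • (aeval lam (F j)) = 0 := by
    intro j
    apply exists_smul_eq_zero (T := T) S
    rw [eval_compat h π lam hlam, hF, map_mul]
    have : π (ρ j) = 0 := by
      have : ρ j ∈ RingHom.ker π.toRingHom := by rw [hker]; exact Ideal.subset_span ⟨j, rfl⟩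
      exact this
    rw [this, mul_zero, map_zero]
  choose s'f hs'f hs'f0 using htors
  set s' : R := ∏ j, s'f j with hs'
  have hs'S : s' ∈ S := Submonoid.prod_mem _ fun j _ => hs'f j
  have hs'0 : ∀ j, s' • (aeval lam (F j)) = 0 := by
    intro j
    rw [hs', ← Finset.mul_prod_erase Finset.univ s'f (Finset.mem_univ j), mul_comm, mul_smul,
      hs'f0, smul_zero]
  -- Step 3: the relations of `A`
  set G : Fin tA → MvPolynomial (Fin N) R := fun t => rename emb (gA t) with hG
  have hGker : ∀ t, ∃ s ∈ S, C s * G t ∈ Ideal.span (Set.range F) := by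
    intro t
    apply exists_mul_mem (T := T) S
    rw [hmapF, ← hker, RingHom.mem_ker]
    change π _ = 0
    rw [emb_compat g π ψ emb hemb]
    have : ψ (gA t) = 0 := by
      have : gA t ∈ RingHom.ker ψ.toRingHom := by rw [hψker]; exact Ideal.subset_span ⟨t, rfl⟩
      exact this
    rw [this, TensorProduct.tmul_zero, map_zero]
  choose s₄f hs₄f hs₄f0 using hGker
  set s₄ : R := ∏ t, s₄f t with hs₄
  have hs₄S : s₄ ∈ S := Submonoid.prod_mem _ fun t _ => hs₄f t
  have hs₄0 : ∀ t, C s₄ * G t ∈ Ideal.span (Set.range F) := by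
    intro t
    rw [hs₄, ← Finset.mul_prod_erase Finset.univ s₄f (Finset.mem_univ t), mul_comm (s₄f t), C_mul,
      mul_assoc]
    exact Ideal.mul_mem_left _ _ (hs₄f0 t)
  -- Step 4: the Jacobian identity
  obtain ⟨s₅, hs₅, s₆, hs₆, A₀, hjac⟩ := jac_identity S π hπ ρ hker cols hunit s₁ hs₁ F hF
  set ΔF := Matrix.det (Matrix.of fun j k => pderiv (cols k) (F j)) with hΔF
  -- Step 5: the algebra `B`
  let rel : Fin (c + tA) → MvPolynomial (Fin N) R := Fin.append (fun j => C s' * F j) G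
  let 𝔟 : Ideal (MvPolynomial (Fin N) R) := Ideal.span (Set.range rel)
  let φB : MvPolynomial (Fin N) R →ₐ[R] (MvPolynomial (Fin N) R ⧸ 𝔟) := Ideal.Quotient.mkₐ R 𝔟
  have hφB : Function.Surjective φB := Ideal.Quotient.mkₐ_surjective R 𝔟
  have hkerB : RingHom.ker φB.toRingHom = Ideal.span (Set.range rel) := Ideal.Quotient.mkₐ_ker R 𝔟
  let rows : Fin c ↪ Fin (c + tA) := Fin.castAddEmb tA
  have hrows : (rel ∘ rows) = fun j => C s' * F j := by
    funext j
    exact Fin.append_left _ _ j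
  have hlead_le : Ideal.span (Set.range (rel ∘ rows)) ≤ 𝔟 :=
    Ideal.span_mono (Set.range_comp_subset_range _ _)
  have hGmem : ∀ t, G t ∈ 𝔟 := fun t =>
    Ideal.subset_span ⟨Fin.natAdd c t, Fin.append_right _ _ t⟩
  have hK5 : ∀ x ∈ Ideal.span (Set.range F), C s' * x ∈ Ideal.span (Set.range (rel ∘ rows)) := by
    intro x hx
    rw [hrows]
    exact smul_mem_span F s' x hx
  -- the element `s`
  let s : R := s₆ * s₅ * s' ^ c * s' * s₄
  have hsS : s ∈ S :=
    Submonoid.mul_mem _ (Submonoid.mul_mem _ (Submonoid.mul_mem _ (Submonoid.mul_mem _ hs₆ hs₅)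
      (Submonoid.pow_mem _ hs'S c)) hs'S) hs₄S
  -- the leading minor
  have hminor : jacobianMinor rel rows cols = C s' ^ c * ΔF := by
    unfold jacobianMinor
    have : (Matrix.of fun j k : Fin c => pderiv (cols k) (rel (rows j))) =
        (C s' : MvPolynomial (Fin N) R) • (Matrix.of fun j k => pderiv (cols k) (F j)) := by
      ext j k
      simp only [Matrix.of_apply, Matrix.smul_apply, smul_eq_mul]
      have : rel (rows j) = C s' * F j := congrFun hrows j
      rw [this, pderiv_C_mul]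
    rw [this, Matrix.det_smul, Fintype.card_fin]
  -- (i) `s` is a multiple of the leading minor in `B`
  have hmem1 : C s' * (C s₆ * (A₀ * ΔF - C s₅)) ∈ 𝔟 := hlead_le (hK5 _ hjac)
  have haa : algebraMap R (MvPolynomial (Fin N) R ⧸ 𝔟) s =
      φB (C s₄ * C s' * C s₆ * A₀) * φB (jacobianMinor rel rows cols) := by
    rw [← map_mul, hminor]
    change Ideal.Quotient.mk 𝔟 (C s) = Ideal.Quotient.mk 𝔟 _
    rw [Ideal.Quotient.eq]
    have : C s - C s₄ * C s' * C s₆ * A₀ * (C s' ^ c * ΔF) =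
        - (C s₄ * C s' ^ c) * (C s' * (C s₆ * (A₀ * ΔF - C s₅))) := by
      simp only [s, C_mul, C_pow]
      ring
    rw [this]
    exact Ideal.mul_mem_left _ _ hmem1
  -- (ii) `s` kills the tail
  have hkill : ∀ a₁ : MvPolynomial (Fin N) R,
      φB a₁ = algebraMap R (MvPolynomial (Fin N) R ⧸ 𝔟) s → ∀ ℓ : Fin (c + tA),
        a₁ * rel ℓ ∈ Ideal.span (Set.range (rel ∘ rows)) ⊔ Ideal.span (Set.range rel) ^ 2 := by
    intro a₁ ha₁ ℓ
    induction ℓ using Fin.addCases with
    | left j =>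
      apply Ideal.mem_sup_left
      exact Ideal.mul_mem_left _ _ (Ideal.subset_span ⟨j, rfl⟩)
    | right t =>
      have h1 : a₁ - C s ∈ 𝔟 := by
        have : Ideal.Quotient.mk 𝔟 a₁ = Ideal.Quotient.mk 𝔟 (C s) := ha₁
        exact Ideal.Quotient.eq.1 this
      have h2 : rel (Fin.natAdd c t) = G t := Fin.append_right _ _ t
      rw [h2]
      have h3 : a₁ * G t = (a₁ - C s) * G t + C s * G t := by ring
      rw [h3]
      refine Submodule.add_mem_sup ?_ ?_ |> fun hh => by rwa [sup_comm]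
      · rw [sq]
        exact Ideal.mul_mem_mul h1 (hGmem t)
      · have : C s * G t = C (s₆ * s₅ * s' ^ c) * (C s' * (C s₄ * G t)) := by
          simp only [s, C_mul, C_pow]
          ring
        rw [this]
        exact Ideal.mul_mem_left _ _ (hK5 _ (hs₄0 t))
  have hES : IsElementaryStandard R (MvPolynomial (Fin N) R ⧸ 𝔟)
      (algebraMap R (MvPolynomial (Fin N) R ⧸ 𝔟) s) :=
    Groth.Agent.Lib.Helper62.ElemStdPerm.isElementaryStandard_of_rows_cols rel φB hφB hkerB rows cols
      _ _ haa hkill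
  -- the map `β`
  let ev : MvPolynomial (Fin N) R →ₐ[R] Λ := aeval lam
  have hφψ : ∀ p : MvPolynomial (Fin a) R, ev (rename emb p) = φ (ψ p) := by
    intro p
    change aeval lam (rename emb p) = _
    rw [aeval_rename]
    have : (φ.comp ψ) = aeval (lam ∘ emb) := by
      apply MvPolynomial.algHom_ext
      intro k
      simp [hlam_emb]
    rw [← this]
    rfl
  have hev : ∀ x ∈ 𝔟, ev x = 0 := by
    intro x hx
    have hle : 𝔟 ≤ RingHom.ker ev.toRingHom := by
      rw [Ideal.span_le]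
      rintro _ ⟨ℓ, rfl⟩
      induction ℓ using Fin.addCases with
      | left j =>
        have h2 : rel (Fin.castAdd tA j) = C s' * F j := Fin.append_left _ _ j
        rw [h2]
        change ev (C s' * F j) = 0
        rw [map_mul, MvPolynomial.algHom_C, ← Algebra.smul_def]
        exact hs'0 j
      | right t =>
        have h2 : rel (Fin.natAdd c t) = G t := Fin.append_right _ _ t
        rw [h2]
        change ev (rename emb (gA t)) = 0
        rw [hφψ]
        have : ψ (gA t) = 0 := by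
          have : gA t ∈ RingHom.ker ψ.toRingHom := by rw [hψker]; exact Ideal.subset_span ⟨t, rfl⟩
          exact this
        rw [this, map_zero]
    exact hle hx
  let β : (MvPolynomial (Fin N) R ⧸ 𝔟) →ₐ[R] Λ := Ideal.Quotient.liftₐ 𝔟 ev hev
  -- the map `α`
  let α₀ : MvPolynomial (Fin a) R →ₐ[R] (MvPolynomial (Fin N) R ⧸ 𝔟) :=
    φB.comp (rename emb : MvPolynomial (Fin a) R →ₐ[R] MvPolynomial (Fin N) R)
  have hα₀ : ∀ x ∈ RingHom.ker ψ.toRingHom, α₀ x = 0 := by
    intro x hx
    have hle : RingHom.ker ψ.toRingHom ≤ RingHom.ker α₀.toRingHom := by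
      rw [hψker, Ideal.span_le]
      rintro _ ⟨t, rfl⟩
      change Ideal.Quotient.mk 𝔟 (rename emb (gA t)) = 0
      rw [Ideal.Quotient.eq_zero_iff_mem]
      exact hGmem t
    exact hle hx
  let eA : (MvPolynomial (Fin a) R ⧸ RingHom.ker ψ.toRingHom) ≃ₐ[R] A :=
    Ideal.quotientKerAlgEquivOfSurjective hψ
  let α : A →ₐ[R] (MvPolynomial (Fin N) R ⧸ 𝔟) :=
    (Ideal.Quotient.liftₐ (RingHom.ker ψ.toRingHom) α₀ hα₀).comp eA.symm.toAlgHom
  have hαψ : ∀ p, α (ψ p) = α₀ p := by
    intro p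
    have : eA.symm (ψ p) = Ideal.Quotient.mk _ p := by
      rw [AlgEquiv.symm_apply_eq]
      rfl
    change (Ideal.Quotient.liftₐ (RingHom.ker ψ.toRingHom) α₀ hα₀) (eA.symm (ψ p)) = _
    rw [this]
    rfl
  refine ⟨MvPolynomial (Fin N) R ⧸ 𝔟, inferInstance, inferInstance, α, β, ?_, s, hsS, hES⟩
  apply AlgHom.ext
  intro x
  obtain ⟨p, rfl⟩ := hψ x
  change β (α (ψ p)) = φ (ψ p)
  rw [hαψ, ← hφψ]
  rfl

end core

end Groth.Agent.Lib.Helper57.S2029Core
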