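import Mathlib
import Groth.Prelude.Def_Smoothing

/-! Auxiliary lemmas for S2030 (strictly standard elements give smooth localizations). -/

open Smoothing TensorProduct

universe u

namespace Groth.Agent.Lib.Helper57.S2030Aux

theorem vecMul_left_inv {T : Type*} [CommRing T] {c n : ℕ} (J : Matrix (Fin c) (Fin n) T)
    (α : (Fin c → Fin n) → T) (ainv : T)
    (h : ainv * ∑ I : Fin c → Fin n, α I * (J.submatrix id I).det = 1) (x : Fin c → T) :
    ainv • ∑ I : Fin c → Fin n, α I • Matrix.vecMul (fun k => (Matrix.vecMul x J) (I k))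
      (Matrix.adjugate (J.submatrix id I)) = x := by
  have h1 : ∀ I : Fin c → Fin n, Matrix.vecMul (fun k => (Matrix.vecMul x J) (I k))
      (Matrix.adjugate (J.submatrix id I)) = (J.submatrix id I).det • x := by
    intro I
    have : (fun k => (Matrix.vecMul x J) (I k)) = Matrix.vecMul x (J.submatrix id I) := by
      ext k
      simp [Matrix.vecMul, dotProduct, Matrix.submatrix_apply]
    rw [this, Matrix.vecMul_vecMul, Matrix.mul_adjugate, Matrix.vecMul_smul, Matrix.vecMul_one]
  simp_rw [h1, smul_smul]
  rw [← Finset.sum_smul, smul_smul, h, one_smul]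

/-- abstract splitting lemma -/
theorem split_of_minors {T M1 M0 : Type u} [CommRing T] [AddCommGroup M1] [Module T M1]
    [AddCommGroup M0] [Module T M0] {c n : ℕ} (b0 : Module.Basis (Fin n) T M0)
    (dT : M1 →ₗ[T] M0) (z : Fin c → M1) (hz : Submodule.span T (Set.range z) = ⊤)
    (J : Matrix (Fin c) (Fin n) T) (hJ : ∀ j k, b0.repr (dT (z j)) k = J j k)
    (α : (Fin c → Fin n) → T) (ainv : T)
    (h : ainv * ∑ I : Fin c → Fin n, α I * (J.submatrix id I).det = 1) :
    Nonempty ((Fin c → T) ≃ₗ[T] M1) ∧ ∃ ρ : M0 →ₗ[T] M1, ρ ∘ₗ dT = LinearMap.id := by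
  let u : (Fin c → T) →ₗ[T] M1 := Fintype.linearCombination T z
  have hu_surj : Function.Surjective u := by
    rw [← LinearMap.range_eq_top, Fintype.range_linearCombination, hz]
  let Lmap : M0 →ₗ[T] (Fin c → T) :=
    { toFun := fun y => ainv • ∑ I : Fin c → Fin n, α I • Matrix.vecMul (fun k => b0.repr y (I k))
        (Matrix.adjugate (J.submatrix id I))
      map_add' := by
        intro y y'
        have : ∀ I : Fin c → Fin n, (fun k => b0.repr (y + y') (I k)) =
            (fun k => b0.repr y (I k)) + (fun k => b0.repr y' (I k)) := by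
          intro I; ext k; simp
        simp_rw [this, Matrix.add_vecMul, smul_add, Finset.sum_add_distrib]
        rw [smul_add]
      map_smul' := by
        intro r y
        have : ∀ I : Fin c → Fin n, (fun k => b0.repr (r • y) (I k)) =
            r • (fun k => b0.repr y (I k)) := by
          intro I; ext k; simp
        simp_rw [this, Matrix.smul_vecMul, RingHom.id_apply, Finset.smul_sum, smul_comm r] }
  have hcoord : ∀ x : Fin c → T, ∀ k, b0.repr (dT (u x)) k = Matrix.vecMul x J k := by
    intro x k
    change b0.repr (dT (Fintype.linearCombination T z x)) k = _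
    rw [Fintype.linearCombination_apply, map_sum, map_sum, Finsupp.finset_sum_apply]
    simp only [map_smul, Finsupp.smul_apply, hJ, smul_eq_mul, Matrix.vecMul, dotProduct]
  have hL : ∀ x : Fin c → T, Lmap (dT (u x)) = x := by
    intro x
    change ainv • ∑ I : Fin c → Fin n, α I • Matrix.vecMul (fun k => b0.repr (dT (u x)) (I k))
        (Matrix.adjugate (J.submatrix id I)) = x
    simp_rw [hcoord]
    exact vecMul_left_inv J α ainv h x
  have hu_inj : Function.Injective u := by
    intro x x' hxx
    rw [← hL x, ← hL x', hxx]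
  refine ⟨⟨LinearEquiv.ofBijective u ⟨hu_inj, hu_surj⟩⟩, u ∘ₗ Lmap, ?_⟩
  refine LinearMap.ext fun w => ?_
  obtain ⟨x, rfl⟩ := hu_surj w
  change u (Lmap (dT (u x))) = u x
  rw [hL]


section inst
variable {R : Type u} [CommRing R]

theorem aeval_eq {A : Type u} [CommRing A] [Algebra R A] {k : ℕ}
    (α : MvPolynomial (Fin k) R →ₐ[R] A) :
    MvPolynomial.aeval (fun i => α (MvPolynomial.X i)) = α := by
  apply MvPolynomial.algHom_ext
  intro i
  simp

/-- generators with the same extension as `ofSurjective α` -/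
noncomputable def gensOf {A : Type u} [CommRing A] [Algebra R A] {k : ℕ}
    (α : MvPolynomial (Fin k) R →ₐ[R] A) (hα : Function.Surjective α) :
    Algebra.Generators R A (Fin k) where
  val i := α (MvPolynomial.X i)
  σ' x := (hα x).choose
  aeval_val_σ' x := by
    rw [aeval_eq α]
    exact (hα x).choose_spec
  algebra := α.toAlgebra
  algebraMap_eq := by
    rw [aeval_eq α]
    rfl

end inst

section concrete
variable {R A : Type u} [CommRing R] [CommRing A] [Algebra R A] (a : A)
  (P : MarkedPresentation R A)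

/-- the extension attached to the marked presentation -/
noncomputable abbrev G : Algebra.Generators R A (Fin P.n) := gensOf P.hom P.surj

theorem algebraMap_eq_hom (x : MvPolynomial (Fin P.n) R) :
    algebraMap (G P).toExtension.Ring A x = P.hom x := rfl

theorem ker_eq' : (G P).toExtension.ker = Ideal.span (Set.range P.rel) := P.ker_eq

theorem rel_mem (j : Fin P.m) : P.rel j ∈ (G P).toExtension.ker := by
  rw [ker_eq']
  exact Ideal.subset_span ⟨j, rfl⟩

/-- classes of the relations in `I/I²` -/
noncomputable def y (j : Fin P.m) : (G P).toExtension.Cotangent :=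
  Algebra.Extension.Cotangent.mk ⟨P.rel j, rel_mem P j⟩

theorem span_y : Submodule.span A (Set.range (y P)) = ⊤ :=
  Algebra.Extension.Cotangent.span_eq_top_of_span_eq_ker (P := (G P).toExtension) P.rel (ker_eq' P).symm

/-- the ideal of relations, as an ideal of the polynomial ring -/
noncomputable abbrev II : Ideal (MvPolynomial (Fin P.n) R) := Ideal.span (Set.range P.rel)

theorem mem_ker_of_mem (x : MvPolynomial (Fin P.n) R) (hx : x ∈ II P) :
    x ∈ (G P).toExtension.ker := by
  rw [ker_eq']; exact hx

/-- class of an element of the relation ideal in `I/I²` -/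
noncomputable def mkI (x : II P) : (G P).toExtension.Cotangent :=
  Algebra.Extension.Cotangent.mk ⟨x.1, mem_ker_of_mem P x.1 x.2⟩

theorem mkI_add (x x' : II P) : mkI P (x + x') = mkI P x + mkI P x' :=
  map_add Algebra.Extension.Cotangent.mk
    (⟨x.1, mem_ker_of_mem P x.1 x.2⟩ : (G P).toExtension.ker) ⟨x'.1, mem_ker_of_mem P x'.1 x'.2⟩

theorem mkI_zero : mkI P 0 = 0 :=
  map_zero Algebra.Extension.Cotangent.mk

theorem mkI_smul (r : MvPolynomial (Fin P.n) R) (x : II P) :
    mkI P (r • x) = P.hom r • mkI P x := by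
  let r' : (G P).toExtension.Ring := r
  have h1 : mkI P (r • x) = Algebra.Extension.Cotangent.mk
      (r' • (⟨x.1, mem_ker_of_mem P x.1 x.2⟩ : (G P).toExtension.ker)) := rfl
  rw [h1, map_smul, ← algebraMap_smul A r', algebraMap_eq_hom]
  rfl

theorem mkI_eq_zero (x : II P) (hx : x.1 ∈ (II P) ^ 2) : mkI P x = 0 := by
  apply (Algebra.Extension.Cotangent.mk_eq_zero_iff _).2
  change x.1 ∈ (G P).toExtension.ker ^ 2
  rw [ker_eq']
  exact hx

theorem y_eq (j : Fin P.m) : y P j = mkI P ⟨P.rel j, Ideal.subset_span ⟨j, rfl⟩⟩ := rfl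

theorem lead_le : Ideal.span (P.rel '' {j' : Fin P.m | (j' : ℕ) < P.c}) ≤ II P :=
  Ideal.span_mono (Set.image_subset_range _ _)

theorem mkI_mem_span_lead (k : MvPolynomial (Fin P.n) R)
    (hk : k ∈ Ideal.span (P.rel '' {j' : Fin P.m | (j' : ℕ) < P.c})) :
    mkI P ⟨k, lead_le P hk⟩ ∈ Submodule.span A ((y P) '' {j' : Fin P.m | (j' : ℕ) < P.c}) := by
  induction hk using Submodule.span_induction with
  | mem x hx =>
    obtain ⟨j, hj, rfl⟩ := hx
    exact Submodule.subset_span ⟨j, hj, rfl⟩
  | zero =>
    exact (mkI_zero P).symm ▸ Submodule.zero_mem _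
  | add x x' hx hx' h1 h2 =>
    have : (⟨x + x', lead_le P (Submodule.add_mem _ hx hx')⟩ : II P) =
        ⟨x, lead_le P hx⟩ + ⟨x', lead_le P hx'⟩ := rfl
    rw [this, mkI_add]
    exact Submodule.add_mem _ h1 h2
  | smul r x hx h1 =>
    have : (⟨r • x, lead_le P (Submodule.smul_mem _ r hx)⟩ : II P) = r • ⟨x, lead_le P hx⟩ := rfl
    rw [this, mkI_smul]
    exact Submodule.smul_mem _ _ h1

include a in
theorem a_smul_y_mem (hKT : KillsTail P a) (j : Fin P.m) (hj : P.c ≤ (j : ℕ)) :
    a • y P j ∈ Submodule.span A ((y P) '' {j' : Fin P.m | (j' : ℕ) < P.c}) := by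
  obtain ⟨a', ha'⟩ := P.surj a
  have h := hKT a' ha' j hj
  obtain ⟨k, hk, w, hw, hkw⟩ := Submodule.mem_sup.1 h
  have hwI : w ∈ II P := Ideal.pow_le_self two_ne_zero hw
  have e1 : a • y P j = mkI P (a' • ⟨P.rel j, Ideal.subset_span ⟨j, rfl⟩⟩) := by
    rw [mkI_smul, ha', y_eq]
  have e2 : (a' • (⟨P.rel j, Ideal.subset_span ⟨j, rfl⟩⟩ : II P)) =
      (⟨k, lead_le P hk⟩ : II P) + ⟨w, hwI⟩ := by
    apply Subtype.ext
    change a' * P.rel j = k + w
    exact hkw.symm
  rw [e1, e2, mkI_add, mkI_eq_zero P ⟨w, hwI⟩ hw, add_zero]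
  exact mkI_mem_span_lead P k hk

end concrete

section Tlevel
variable {R A : Type u} [CommRing R] [CommRing A] [Algebra R A] (a : A)
  (P : MarkedPresentation R A)

/-- images of the leading relations in `T ⊗ I/I²` -/
noncomputable def z (j : Fin P.c) : (Localization.Away a) ⊗[A] (G P).toExtension.Cotangent :=
  1 ⊗ₜ y P (Fin.castLE P.hcm j)

theorem span_z (hKT : KillsTail P a) :
    Submodule.span (Localization.Away a) (Set.range (z a P)) = ⊤ := by
  set N := Submodule.span (Localization.Away a) (Set.range (z a P)) with hN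
  -- the `A`-linear map `m ↦ 1 ⊗ m`
  let ι : (G P).toExtension.Cotangent →ₗ[A] (Localization.Away a) ⊗[A] (G P).toExtension.Cotangent :=
    TensorProduct.mk A (Localization.Away a) (G P).toExtension.Cotangent 1
  have hlead : ∀ j : Fin P.m, (j : ℕ) < P.c → ι (y P j) ∈ N := by
    intro j hj
    apply Submodule.subset_span
    refine ⟨⟨j, hj⟩, ?_⟩
    change (1 : Localization.Away a) ⊗ₜ[A] y P (Fin.castLE P.hcm ⟨j, hj⟩) = _
    have : Fin.castLE P.hcm ⟨j, hj⟩ = j := Fin.ext rfl
    rw [this]
    rfl
  have hleadspan : ∀ m ∈ Submodule.span A ((y P) '' {j' : Fin P.m | (j' : ℕ) < P.c}), ι m ∈ N := by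
    intro m hm
    induction hm using Submodule.span_induction with
    | mem x hx =>
      obtain ⟨j, hj, rfl⟩ := hx
      exact hlead j hj
    | zero => rw [map_zero]; exact Submodule.zero_mem _
    | add x x' _ _ h1 h2 => rw [map_add]; exact Submodule.add_mem _ h1 h2
    | smul r x _ h1 =>
      rw [map_smul, ← algebraMap_smul (Localization.Away a) r]
      exact Submodule.smul_mem _ _ h1
  have hall : ∀ j : Fin P.m, ι (y P j) ∈ N := by
    intro j
    by_cases hj : (j : ℕ) < P.c
    · exact hlead j hj
    · push Not at hj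
      have h1 := hleadspan _ (a_smul_y_mem a P hKT j hj)
      rw [map_smul, ← algebraMap_smul (Localization.Away a) a] at h1
      have h2 := Submodule.smul_mem N (IsLocalization.Away.invSelf a) h1
      rw [smul_smul, mul_comm, IsLocalization.Away.mul_invSelf, one_smul] at h2
      exact h2
  have hallm : ∀ m : (G P).toExtension.Cotangent, ι m ∈ N := by
    intro m
    have hm : m ∈ Submodule.span A (Set.range (y P)) := by rw [span_y]; trivial
    induction hm using Submodule.span_induction with
    | mem x hx =>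
      obtain ⟨j, rfl⟩ := hx
      exact hall j
    | zero => rw [map_zero]; exact Submodule.zero_mem _
    | add x x' _ _ h1 h2 => rw [map_add]; exact Submodule.add_mem _ h1 h2
    | smul r x _ h1 =>
      rw [map_smul, ← algebraMap_smul (Localization.Away a) r]
      exact Submodule.smul_mem _ _ h1
  rw [eq_top_iff]
  rintro w -
  induction w using TensorProduct.induction_on with
  | zero => exact Submodule.zero_mem _
  | add x x' h1 h2 => exact Submodule.add_mem _ h1 h2
  | tmul t m =>
    have : t ⊗ₜ[A] m = t • ι m := by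
      change _ = t • ((1 : Localization.Away a) ⊗ₜ[A] m)
      rw [TensorProduct.smul_tmul', smul_eq_mul, mul_one]
    rw [this]
    exact Submodule.smul_mem _ _ (hallm m)

/-- the Jacobian matrix of the leading relations, over `T = A_a` -/
noncomputable def Jmat : Matrix (Fin P.c) (Fin P.n) (Localization.Away a) :=
  Matrix.of fun j k => algebraMap A (Localization.Away a)
    (P.hom (MvPolynomial.pderiv k (P.rel (Fin.castLE P.hcm j))))

/-- the basis `1 ⊗ dx_k` of `T ⊗ (A ⊗ Ω)` -/
noncomputable def b0 : Module.Basis (Fin P.n) (Localization.Away a)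
    ((Localization.Away a) ⊗[A] (G P).toExtension.CotangentSpace) :=
  (G P).cotangentSpaceBasis.baseChange (Localization.Away a)

theorem hJ (j : Fin P.c) (k : Fin P.n) :
    (b0 a P).repr ((G P).toExtension.cotangentComplex.baseChange (Localization.Away a) (z a P j)) k =
      Jmat a P j k := by
  rw [z, LinearMap.baseChange_tmul, b0, Module.Basis.baseChange_repr_tmul, y,
    Algebra.Extension.cotangentComplex_mk, Algebra.Generators.cotangentSpaceBasis_repr_one_tmul,
    Jmat, Matrix.of_apply, Algebra.smul_def, mul_one]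
  congr 1
  exact DFunLike.congr_fun (aeval_eq P.hom) _

theorem det_Jmat (I : Fin P.c → Fin P.n) :
    ((Jmat a P).submatrix id I).det = algebraMap A (Localization.Away a)
      (P.hom (jacobianMinor P.rel (Fin.castLE P.hcm) I)) := by
  let φ : MvPolynomial (Fin P.n) R →+* Localization.Away a :=
    (algebraMap A (Localization.Away a)).comp P.hom.toRingHom
  have h1 : algebraMap A (Localization.Away a) (P.hom (jacobianMinor P.rel (Fin.castLE P.hcm) I)) =
      φ (jacobianMinor P.rel (Fin.castLE P.hcm) I) := rfl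
  rw [h1, jacobianMinor, RingHom.map_det]
  congr 1

theorem h_det (hmem : a ∈ Ideal.span (Set.range fun cols : Fin P.c → Fin P.n =>
        P.hom (jacobianMinor P.rel (Fin.castLE P.hcm) cols))) :
    ∃ α : (Fin P.c → Fin P.n) → Localization.Away a,
      IsLocalization.Away.invSelf a * ∑ I : Fin P.c → Fin P.n, α I * ((Jmat a P).submatrix id I).det = 1 := by
  obtain ⟨α, hα⟩ := (Ideal.mem_span_range_iff_exists_fun (R := A)).1 hmem
  refine ⟨fun I => algebraMap A (Localization.Away a) (α I), ?_⟩
  simp_rw [det_Jmat, ← map_mul, ← map_sum, hα]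
  rw [mul_comm]
  exact IsLocalization.Away.mul_invSelf a

end Tlevel


end Groth.Agent.Lib.Helper57.S2030Aux
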