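import Mathlib

/-! Core construction for the delocalization lemma (S2033). -/

set_option autoImplicit false
universe u

namespace Groth.Agent.Lib.Helper57.S2033Core

open MvPolynomial

theorem homog {A A' : Type u} [CommRing A] [CommRing A'] [Algebra A A'] (S : Submonoid A)
    [IsLocalization S A'] {k : ℕ} (F : MvPolynomial (Fin k) A') :
    ∃ (e : ℕ) (s : A) (_ : s ∈ S) (Fs : MvPolynomial (Option (Fin k)) A),
      ∀ (W : Type u) [CommRing W] (ψ : A' →+* W) (τ : W) (η : Fin k → W),
        eval₂ (ψ.comp (algebraMap A A')) (fun o => o.elim τ (fun i => τ * η i)) Fs =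
          ψ (algebraMap A A' s) * τ ^ e * eval₂ ψ η F := by
  induction F using MvPolynomial.induction_on with
  | C a' =>
    obtain ⟨⟨a, s⟩, h⟩ := IsLocalization.surj S a'
    refine ⟨0, s.1, s.2, C a, ?_⟩
    intro W _ ψ τ η
    rw [eval₂_C, eval₂_C, pow_zero, mul_one, RingHom.comp_apply, ← h, map_mul, mul_comm]
  | add F₁ F₂ h₁ h₂ =>
    obtain ⟨e₁, s₁, hs₁, Fs₁, H₁⟩ := h₁
    obtain ⟨e₂, s₂, hs₂, Fs₂, H₂⟩ := h₂
    refine ⟨e₁ + e₂, s₁ * s₂, S.mul_mem hs₁ hs₂,
      C s₂ * X none ^ e₂ * Fs₁ + C s₁ * X none ^ e₁ * Fs₂, ?_⟩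
    intro W _ ψ τ η
    rw [eval₂_add, eval₂_mul, eval₂_mul, eval₂_mul, eval₂_mul, eval₂_pow, eval₂_pow, eval₂_C,
      eval₂_C, eval₂_X, H₁, H₂, eval₂_add, map_mul, map_mul, pow_add]
    simp only [RingHom.comp_apply, Option.elim_none]
    ring
  | mul_X F i h₁ =>
    obtain ⟨e₁, s₁, hs₁, Fs₁, H₁⟩ := h₁
    refine ⟨e₁ + 1, s₁, hs₁, Fs₁ * X (some i), ?_⟩
    intro W _ ψ τ η
    rw [eval₂_mul, eval₂_mul, eval₂_X, eval₂_X, H₁, pow_succ]
    simp only [Option.elim_some]
    ring


theorem formallySmooth_of_retract {R X Y : Type u} [CommRing R] [CommRing X] [CommRing Y]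
    [Algebra R X] [Algebra R Y] [Algebra.FormallySmooth R Y] (α : X →ₐ[R] Y) (β : Y →ₐ[R] X)
    (h : β.comp α = AlgHom.id R X) : Algebra.FormallySmooth R X := by
  refine Algebra.FormallySmooth.of_comp_surjective fun Z _ _ I hI f => ?_
  obtain ⟨F, hF⟩ := Algebra.FormallySmooth.comp_surjective R Y I hI (f.comp β)
  refine ⟨F.comp α, ?_⟩
  rw [← AlgHom.comp_assoc, hF, AlgHom.comp_assoc, h, AlgHom.comp_id]

theorem formallySmooth_atPrime_of_localization {R C : Type u} [CommRing R] [CommRing C]
    [Algebra R C] (M : Submonoid C) (P : Ideal C) [P.IsPrime] (hMP : M ≤ P.primeCompl)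
    [Algebra.FormallySmooth R (Localization M)] :
    Algebra.FormallySmooth R (Localization.AtPrime P) := by
  letI := IsLocalization.localizationAlgebraOfSubmonoidLe (Localization M) (Localization.AtPrime P)
    M P.primeCompl hMP
  haveI := IsLocalization.localization_isScalarTower_of_submonoid_le (Localization M)
    (Localization.AtPrime P) M P.primeCompl hMP
  haveI : IsLocalization (P.primeCompl.map (algebraMap C (Localization M)))
      (Localization.AtPrime P) := IsLocalization.isLocalization_of_submonoid_le _ _ M P.primeCompl hMP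
  haveI : IsScalarTower R (Localization M) (Localization.AtPrime P) :=
    IsScalarTower.of_algebraMap_eq (fun r => by
      rw [IsScalarTower.algebraMap_apply R C (Localization M),
        ← IsScalarTower.algebraMap_apply C (Localization M) (Localization.AtPrime P),
        ← IsScalarTower.algebraMap_apply R C])
  haveI : Algebra.FormallySmooth (Localization M) (Localization.AtPrime P) :=
    Algebra.FormallySmooth.of_isLocalization (P.primeCompl.map (algebraMap C (Localization M)))
  exact Algebra.FormallySmooth.comp R (Localization M) (Localization.AtPrime P)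

theorem eval₂_eq_hom {A' B W : Type*} [CommRing A'] [CommRing B] [CommRing W] [Algebra A' B]
    {k : ℕ} (π : MvPolynomial (Fin k) A' →ₐ[A'] B) (χ : B →+* W) (p : MvPolynomial (Fin k) A') :
    eval₂ (χ.comp (algebraMap A' B)) (fun i => χ (π (X i))) p = χ (π p) := by
  induction p using MvPolynomial.induction_on with
  | C a => rw [eval₂_C, RingHom.comp_apply, ← π.commutes]; rfl
  | add p q hp hq => rw [eval₂_add, hp, hq, map_add, map_add]
  | mul_X p i hp => rw [eval₂_mul, eval₂_X, hp, map_mul, map_mul]


set_option linter.style.haveILetI false in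
theorem core {R A A' B Λ Λq : Type u} [CommRing R] [CommRing A] [Algebra R A]
    [CommRing A'] [Algebra A A'] (S : Submonoid A) [IsLocalization S A']
    [CommRing B] [Algebra R B] [Algebra A B] [IsScalarTower R A B] [Algebra A' B]
    [IsScalarTower A A' B] [Algebra.FinitePresentation A' B] [Algebra.FormallySmooth R B]
    [CommRing Λ] [Algebra A Λ] (𝔮 : Ideal Λ) [𝔮.IsPrime] (hS : ∀ s ∈ S, algebraMap A Λ s ∉ 𝔮)
    [CommRing Λq] [Algebra Λ Λq] [IsLocalization.AtPrime Λq 𝔮] [Algebra A Λq]
    [IsScalarTower A Λ Λq] (h₁ : B →ₐ[A] Λq) :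
    ∃ (k : ℕ) (r : ℕ) (rel : Fin r → MvPolynomial (Option (Option (Fin k))) A)
      (h : (MvPolynomial (Option (Option (Fin k))) A ⧸ Ideal.span (Set.range rel)) →ₐ[A] Λ),
      Algebra.FormallySmooth R (Localization.AtPrime (𝔮.comap h.toRingHom)) := by
  classical
  obtain ⟨k, π, hπ, hfg⟩ := Algebra.FinitePresentation.out (R := A') (A := B)
  obtain ⟨r, F, hF⟩ := Submodule.fg_iff_exists_fin_generating_family.1 hfg
  have hπF : ∀ j, π (F j) = 0 := by
    intro j
    have : F j ∈ RingHom.ker π.toRingHom := by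
      rw [← hF]; exact Submodule.subset_span ⟨j, rfl⟩
    exact this
  set y : Fin k → B := fun i => π (X i) with hy
  -- denominators
  obtain ⟨t, ht⟩ := IsLocalization.exist_integer_multiples 𝔮.primeCompl
    (Finset.univ : Finset (Fin k)) (fun i => h₁ (y i))
  choose μ hμ using fun i => ht i (Finset.mem_univ i)
  have hμ' : ∀ i, algebraMap Λ Λq (μ i) = algebraMap Λ Λq (t : Λ) * h₁ (y i) := by
    intro i
    rw [hμ i, Algebra.smul_def]
  choose e s hs Fs HFs using fun j => homog S (F j)
  have hAΛq : (algebraMap Λ Λq).comp (algebraMap A Λ) = algebraMap A Λq :=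
    (IsScalarTower.algebraMap_eq A Λ Λq).symm
  have hAB : ∀ (W : Type u) [CommRing W] (χ : B →+* W),
      ((χ.comp (algebraMap A' B)).comp (algebraMap A A')) = χ.comp (algebraMap A B) := by
    intro W _ χ
    rw [RingHom.comp_assoc, ← IsScalarTower.algebraMap_eq A A' B]
  let ev₁ : Fin r → Λ := fun j =>
    eval₂ (algebraMap A Λ) (fun o : Option (Fin k) => o.elim (t : Λ) μ) (Fs j)
  have hev₁ : ∀ j, algebraMap Λ Λq (ev₁ j) = 0 := by
    intro j
    have h2 := HFs j Λq ((h₁ : B →+* Λq).comp (algebraMap A' B)) (algebraMap Λ Λq t)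
      (fun i => h₁ (y i))
    have h5 : eval₂ ((h₁ : B →+* Λq).comp (algebraMap A' B)) (fun i => h₁ (y i)) (F j) = 0 := by
      have := eval₂_eq_hom π (h₁ : B →+* Λq) (F j)
      rw [hπF, map_zero] at this
      exact this
    rw [h5, mul_zero, hAB] at h2
    have h4 : (h₁ : B →+* Λq).comp (algebraMap A B) = algebraMap A Λq := by
      ext a; exact h₁.commutes a
    rw [h4] at h2
    change algebraMap Λ Λq (eval₂ _ _ _) = 0
    rw [MvPolynomial.hom_eval₂, hAΛq, ← h2]
    congr 1
    funext o
    cases o with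
    | none => rfl
    | some i => exact hμ' i
  have hkill : ∀ j, ∃ l : 𝔮.primeCompl, (l : Λ) * ev₁ j = 0 := fun j =>
    (IsLocalization.map_eq_zero_iff 𝔮.primeCompl Λq _).1 (hev₁ j)
  choose l hl using hkill
  set lam₀ : Λ := ∏ j, (l j : Λ) with hlam₀
  have hlam₀q : lam₀ ∈ 𝔮.primeCompl := by
    rw [hlam₀]
    exact Submonoid.prod_mem _ fun j _ => (l j).2
  have hlam₀ev : ∀ j, lam₀ * ev₁ j = 0 := by
    intro j
    obtain ⟨c, hc⟩ := Finset.dvd_prod_of_mem (fun j => (l j : Λ)) (Finset.mem_univ j)
    rw [hlam₀, hc, mul_right_comm, hl, zero_mul]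
  -- the algebra C
  let rel : Fin r → MvPolynomial (Option (Option (Fin k))) A :=
    fun j => X none * rename some (Fs j)
  let vals : Option (Option (Fin k)) → Λ :=
    fun o => o.elim lam₀ (fun o' => o'.elim (t : Λ) μ)
  let ev : MvPolynomial (Option (Option (Fin k))) A →ₐ[A] Λ := aeval vals
  have hev : ∀ j, ev (rel j) = 0 := by
    intro j
    change aeval vals (X none * rename some (Fs j)) = 0
    rw [map_mul, aeval_X, aeval_rename, aeval_def]
    exact hlam₀ev j
  let h : (MvPolynomial (Option (Option (Fin k))) A ⧸ Ideal.span (Set.range rel)) →ₐ[A] Λ :=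
    Ideal.Quotient.liftₐ _ ev (by
      intro a ha
      have : Ideal.span (Set.range rel) ≤ RingHom.ker ev.toRingHom := by
        rw [Ideal.span_le]
        rintro _ ⟨j, rfl⟩
        exact hev j
      exact this ha)
  refine ⟨k, r, rel, h, ?_⟩
  -- the smooth model `B⁺ = B[T, T'][1/(T T')]`
  let TT : MvPolynomial (Fin 2) B := X 0 * X 1
  haveI : Algebra.FormallySmooth R (MvPolynomial (Fin 2) B) :=
    Algebra.FormallySmooth.comp R B (MvPolynomial (Fin 2) B)
  haveI : Algebra.FormallySmooth (MvPolynomial (Fin 2) B) (Localization.Away TT) :=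
    Algebra.FormallySmooth.of_isLocalization (Submonoid.powers TT)
  haveI : Algebra.FormallySmooth R (Localization.Away TT) :=
    Algebra.FormallySmooth.comp R (MvPolynomial (Fin 2) B) (Localization.Away TT)
  let ιp : MvPolynomial (Fin 2) B →+* Localization.Away TT := algebraMap _ _
  let χ : B →+* Localization.Away TT := ιp.comp C
  have hχA : χ.comp (algebraMap A B) = algebraMap A (Localization.Away TT) := by
    ext a
    change ιp (C (algebraMap A B a)) = _
    rw [IsScalarTower.algebraMap_apply A (MvPolynomial (Fin 2) B) (Localization.Away TT),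
      MvPolynomial.algebraMap_apply]
  let ρvals : Option (Option (Fin k)) → Localization.Away TT :=
    fun o => o.elim (ιp (X 1)) (fun o' => o'.elim (ιp (X 0)) (fun i => ιp (X 0) * χ (y i)))
  let ρQ : MvPolynomial (Option (Option (Fin k))) A →ₐ[A] Localization.Away TT := aeval ρvals
  have hρQ : ∀ j, ρQ (rel j) = 0 := by
    intro j
    change aeval ρvals (X none * rename some (Fs j)) = 0
    rw [map_mul, aeval_X, aeval_rename, aeval_def]
    have h2 := HFs j (Localization.Away TT) (χ.comp (algebraMap A' B)) (ιp (X 0))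
      (fun i => χ (y i))
    have h5 : eval₂ (χ.comp (algebraMap A' B)) (fun i => χ (y i)) (F j) = 0 := by
      have := eval₂_eq_hom π χ (F j)
      rw [hπF, map_zero] at this
      exact this
    rw [h5, mul_zero, hAB, hχA] at h2
    have h6 : (ρvals ∘ some) = fun o : Option (Fin k) =>
        o.elim (ιp (X 0)) (fun i => ιp (X 0) * χ (y i)) := rfl
    rw [h6, h2, mul_zero]
  let ρ : (MvPolynomial (Option (Option (Fin k))) A ⧸ Ideal.span (Set.range rel)) →ₐ[A]
      Localization.Away TT :=
    Ideal.Quotient.liftₐ _ ρQ (by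
      intro a ha
      have : Ideal.span (Set.range rel) ≤ RingHom.ker ρQ.toRingHom := by
        rw [Ideal.span_le]
        rintro _ ⟨j, rfl⟩
        exact hρQ j
      exact this ha)
  have hρmk : ∀ q, ρ (Ideal.Quotient.mk _ q) = ρQ q := fun q => rfl
  -- the submonoid
  let cT : MvPolynomial (Option (Option (Fin k))) A ⧸ Ideal.span (Set.range rel) :=
    Ideal.Quotient.mk _ (X none * X (some none))
  let M : Submonoid (MvPolynomial (Option (Option (Fin k))) A ⧸ Ideal.span (Set.range rel)) :=
    Submonoid.powers cT ⊔ Submonoid.map (algebraMap A _) S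
  have hρcT : ρ cT = ιp TT := by
    change ρQ (X none * X (some none)) = _
    change aeval ρvals (X none * X (some none)) = _
    rw [map_mul, aeval_X, aeval_X]
    change ιp (X 1) * ιp (X 0) = ιp (X 0 * X 1)
    rw [map_mul, mul_comm]
  have hunitTT : IsUnit (ιp TT) := IsLocalization.Away.algebraMap_isUnit TT
  have hρM : ∀ m : M, IsUnit (ρ m) := by
    rintro ⟨m, hm⟩
    obtain ⟨a, ha, b, hb, rfl⟩ := Submonoid.mem_sup.1 hm
    obtain ⟨n, rfl⟩ := ha
    obtain ⟨s₀, hs₀, rfl⟩ := hb
    change IsUnit (ρ (cT ^ n * algebraMap A _ s₀))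
    rw [map_mul, map_pow, hρcT, AlgHom.commutes]
    refine IsUnit.mul (hunitTT.pow n) ?_
    rw [← hχA, RingHom.comp_apply, IsScalarTower.algebraMap_apply A A' B]
    exact ((IsLocalization.map_units A' ⟨s₀, hs₀⟩).map (algebraMap A' B)).map χ
  have hcT : h cT = lam₀ * t := by
    change aeval vals (X none * X (some none)) = _
    rw [map_mul, aeval_X, aeval_X]
    rfl
  have hM : M ≤ (𝔮.comap h.toRingHom).primeCompl := by
    intro m hm
    obtain ⟨a, ha, b, hb, rfl⟩ := Submonoid.mem_sup.1 hm
    obtain ⟨n, rfl⟩ := ha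
    obtain ⟨s₀, hs₀, rfl⟩ := hb
    change ¬ (h (cT ^ n * algebraMap A _ s₀) ∈ 𝔮)
    rw [map_mul, map_pow, AlgHom.commutes, hcT]
    intro hmem
    rcases Ideal.IsPrime.mem_or_mem inferInstance hmem with h1 | h1
    · have := Ideal.IsPrime.mem_of_pow_mem inferInstance _ h1
      rcases Ideal.IsPrime.mem_or_mem inferInstance this with h2 | h2
      · exact hlam₀q h2
      · exact t.2 h2
    · exact hS s₀ hs₀ h1
  suffices H : ∀ (CM : Type u) [CommRing CM] [Algebra (MvPolynomial (Option (Option (Fin k))) A ⧸ Ideal.span (Set.range rel)) CM] [Algebra A CM]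
      [IsScalarTower A (MvPolynomial (Option (Option (Fin k))) A ⧸ Ideal.span (Set.range rel)) CM] [Algebra R CM] [IsScalarTower R (MvPolynomial (Option (Option (Fin k))) A ⧸ Ideal.span (Set.range rel)) CM] [IsLocalization M CM],
      Algebra.FormallySmooth R CM by
    haveI := H (Localization M)
    exact formallySmooth_atPrime_of_localization M _ hM
  intro CM _ _ _ _ _ _ _
  let α : CM →ₐ[A] Localization.Away TT := IsLocalization.liftAlgHom (M := M) (f := ρ) hρM
  have hα : ∀ c, α (algebraMap _ CM c) = ρ c := by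
    intro c
    exact IsLocalization.lift_eq _ c
  -- elements of `C_M`
  let jM : (MvPolynomial (Option (Option (Fin k))) A ⧸ Ideal.span (Set.range rel)) →+* CM := algebraMap _ _
  let τ : CM := jM (Ideal.Quotient.mk _ (X (some none)))
  let τ' : CM := jM (Ideal.Quotient.mk _ (X none))
  let η' : Fin k → CM := fun i => jM (Ideal.Quotient.mk _ (X (some (some i))))
  have hττ' : IsUnit (τ' * τ) := by
    have : τ' * τ = jM cT := by
      change jM _ * jM _ = jM (Ideal.Quotient.mk _ (X none * X (some none)))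
      rw [← map_mul, ← map_mul]
    rw [this]
    exact IsLocalization.map_units CM
      (⟨cT, Submonoid.mem_sup_left (Submonoid.mem_powers cT)⟩ : M)
  have hτ : IsUnit τ := isUnit_of_mul_isUnit_right hττ'
  have hτ' : IsUnit τ' := isUnit_of_mul_isUnit_left hττ'
  obtain ⟨τinv, hτinv⟩ : ∃ v, τ * v = 1 := hτ.exists_right_inv
  have hSM : ∀ s₀ : S, IsUnit (algebraMap A CM s₀) := by
    intro s₀
    rw [IsScalarTower.algebraMap_apply A (MvPolynomial (Option (Option (Fin k))) A ⧸ Ideal.span (Set.range rel)) CM]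
    exact IsLocalization.map_units CM
      (⟨algebraMap A _ s₀, Submonoid.mem_sup_right ⟨s₀, s₀.2, rfl⟩⟩ : M)
  let ψM : A' →+* CM :=
    IsLocalization.lift (M := S) (g := algebraMap A CM) hSM
  have hψM : ψM.comp (algebraMap A A') = algebraMap A CM :=
    IsLocalization.lift_comp _
  have hjMmk : ∀ q : MvPolynomial (Option (Option (Fin k))) A,
      jM (Ideal.Quotient.mk _ q) = eval₂ (algebraMap A CM)
        (fun o => jM (Ideal.Quotient.mk _ (X o))) q := by
    intro q
    induction q using MvPolynomial.induction_on with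
    | C a =>
      rw [eval₂_C, IsScalarTower.algebraMap_apply A (MvPolynomial (Option (Option (Fin k))) A ⧸ Ideal.span (Set.range rel)) CM]
      rfl
    | add p q hp hq => rw [map_add, map_add, eval₂_add, hp, hq]
    | mul_X p i hp => rw [map_mul, map_mul, eval₂_mul, eval₂_X, hp]
  let βP : MvPolynomial (Fin k) A' →+* CM := eval₂Hom ψM (fun i => η' i * τinv)
  have hβPF : ∀ j, βP (F j) = 0 := by
    intro j
    have h2 := HFs j CM ψM τ (fun i => η' i * τinv)
    rw [hψM] at h2
    have h3 : eval₂ (algebraMap A CM)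
        (fun o : Option (Fin k) => o.elim τ (fun i => τ * (η' i * τinv))) (Fs j) =
        jM (Ideal.Quotient.mk _ (rename some (Fs j))) := by
      rw [hjMmk, eval₂_rename]
      congr 1
      funext o
      cases o with
      | none => rfl
      | some i =>
        change τ * (η' i * τinv) = η' i
        rw [mul_left_comm, hτinv, mul_one]
    rw [h3] at h2
    have h4 : τ' * jM (Ideal.Quotient.mk _ (rename some (Fs j))) = 0 := by
      change jM _ * jM _ = 0
      rw [← map_mul, ← map_mul]
      have : Ideal.Quotient.mk (Ideal.span (Set.range rel)) (X none * rename some (Fs j)) = 0 :=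
        Ideal.Quotient.eq_zero_iff_mem.2 (Ideal.subset_span ⟨j, rfl⟩)
      rw [this, map_zero]
    have h5 : jM (Ideal.Quotient.mk _ (rename some (Fs j))) = 0 := (hτ'.mul_right_eq_zero).1 h4
    rw [h5] at h2
    have hu : IsUnit (ψM (algebraMap A A' (s j)) * τ ^ e j) :=
      ((IsLocalization.map_units A' ⟨s j, hs j⟩).map ψM).mul (hτ.pow _)
    exact (hu.mul_right_eq_zero).1 h2.symm
  let βB : B →+* CM := RingHom.liftOfSurjective π.toRingHom hπ ⟨βP, by
    intro x hx
    have hx' : x ∈ Ideal.span (Set.range F) := by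
      change x ∈ Submodule.span _ _
      rw [hF]; exact hx
    have : Ideal.span (Set.range F) ≤ RingHom.ker βP := by
      rw [Ideal.span_le]
      rintro _ ⟨j, rfl⟩
      exact hβPF j
    exact this hx'⟩
  have hβB : ∀ p, βB (π p) = βP p := fun p => RingHom.liftOfSurjective_comp_apply _ _ _ p
  let β₀ : MvPolynomial (Fin 2) B →+* CM := eval₂Hom βB ![τ, τ']
  have hβ₀TT : IsUnit (β₀ TT) := by
    change IsUnit (eval₂ βB ![τ, τ'] (X 0 * X 1))
    rw [eval₂_mul, eval₂_X, eval₂_X]
    have : (![τ, τ'] 0) * (![τ, τ'] 1) = τ' * τ := by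
      rw [mul_comm]; rfl
    rw [this]
    exact hττ'
  let βp : Localization.Away TT →+* CM := IsLocalization.Away.lift TT hβ₀TT
  have hβp : ∀ x, βp (ιp x) = β₀ x := fun x => IsLocalization.Away.lift_eq TT hβ₀TT x
  have hkeyQ : ∀ q, βp (ρQ q) = jM (Ideal.Quotient.mk _ q) := by
    intro q
    induction q using MvPolynomial.induction_on with
    | C a =>
      have h1 : ρQ (C a) = ιp (C (algebraMap A B a)) := by
        change aeval ρvals (C a) = _
        rw [aeval_C, ← hχA]
        rfl
      rw [h1, hβp]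
      change eval₂ βB ![τ, τ'] (C (algebraMap A B a)) = _
      rw [eval₂_C]
      have h2 : algebraMap A B a = π (C (algebraMap A A' a)) := by
        rw [IsScalarTower.algebraMap_apply A A' B, ← π.commutes]
        rfl
      rw [h2, hβB]
      change eval₂ ψM _ (C _) = _
      rw [eval₂_C, ← RingHom.comp_apply, hψM, IsScalarTower.algebraMap_apply A (MvPolynomial (Option (Option (Fin k))) A ⧸ Ideal.span (Set.range rel)) CM]
      rfl
    | add p q hp hq => rw [map_add, map_add, map_add, map_add, hp, hq]
    | mul_X p o hp =>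
      rw [map_mul, map_mul, map_mul, map_mul, hp]
      congr 1
      change βp (aeval ρvals (X o)) = _
      rw [aeval_X]
      rcases o with _ | _ | i
      · change βp (ιp (X 1)) = τ'
        rw [hβp]
        change eval₂ βB ![τ, τ'] (X 1) = τ'
        rw [eval₂_X]
        rfl
      · change βp (ιp (X 0)) = τ
        rw [hβp]
        change eval₂ βB ![τ, τ'] (X 0) = τ
        rw [eval₂_X]
        rfl
      · change βp (ιp (X 0) * ιp (C (y i))) = η' i
        rw [map_mul, hβp, hβp]
        change eval₂ βB ![τ, τ'] (X 0) * eval₂ βB ![τ, τ'] (C (y i)) = _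
        rw [eval₂_X, eval₂_C]
        change τ * βB (π (X i)) = _
        rw [hβB]
        change τ * eval₂ ψM _ (X i) = _
        rw [eval₂_X, mul_left_comm, hτinv, mul_one]
  have hkey : ∀ c, βp (ρ c) = jM c := by
    intro c
    obtain ⟨q, rfl⟩ := Ideal.Quotient.mk_surjective c
    rw [hρmk]
    exact hkeyQ q
  let βR : Localization.Away TT →ₐ[R] CM :=
    { βp with
      commutes' := fun r => by
        have h1 : algebraMap R (Localization.Away TT) r = ρ (algebraMap R _ r) :=
          ((ρ.restrictScalars R).commutes r).symm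
        change βp _ = _
        rw [h1, hkey]
        exact (IsScalarTower.algebraMap_apply R (MvPolynomial (Option (Option (Fin k))) A ⧸ Ideal.span (Set.range rel)) CM r).symm }
  let αR : CM →ₐ[R] Localization.Away TT :=
    IsLocalization.liftAlgHom (M := M) (f := ρ.restrictScalars R) hρM
  have hαR : ∀ c, αR (jM c) = ρ c := by
    intro c
    exact IsLocalization.lift_eq _ c
  refine formallySmooth_of_retract αR βR ?_
  apply AlgHom.coe_ringHom_injective
  refine IsLocalization.ringHom_ext M ?_
  refine RingHom.ext fun c => ?_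
  change βp (αR (jM c)) = jM c
  rw [hαR, hkey]

end Groth.Agent.Lib.Helper57.S2033Core
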