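import Mathlib
import Groth.Prelude.Def_Smoothing
import Groth.Agent.Lib.Helper57.S2030Aux

/-! Strictly standard elements are stable under base change. -/

set_option autoImplicit false
universe u

namespace Groth.Agent.Lib.Helper57.SSBaseChange

open TensorProduct MvPolynomial Smoothing Groth.Agent.Lib.Helper57.S2030Aux

variable {R A : Type u} [CommRing R] [CommRing A] [Algebra R A] (P : MarkedPresentation R A)
  (D : Type u) [CommRing D] [Algebra R D]

/-- the Mathlib presentation attached to a marked presentation -/
noncomputable def pres : Algebra.Presentation R A (Fin P.n) (Fin P.m) where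
  toGenerators := G P
  relation := P.rel
  span_range_relation_eq_ker := (ker_eq' P).symm

/-- the base changed surjection -/
noncomputable def homD : MvPolynomial (Fin P.n) D →ₐ[D] D ⊗[R] A :=
  aeval (fun i => (1 : D) ⊗ₜ[R] P.hom (X i))

theorem homD_map (p : MvPolynomial (Fin P.n) R) :
    homD P D (MvPolynomial.map (algebraMap R D) p) = (1 : D) ⊗ₜ[R] P.hom p := by
  induction p using MvPolynomial.induction_on with
  | C a =>
    rw [map_C, homD, aeval_C, Algebra.TensorProduct.algebraMap_apply]
    have : P.hom (C a) = algebraMap R A a := P.hom.commutes a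
    rw [this, Algebra.algebraMap_eq_smul_one, Algebra.algebraMap_eq_smul_one (A := A),
      Algebra.algebraMap_eq_smul_one (A := D), TensorProduct.tmul_smul, TensorProduct.smul_tmul',
      smul_assoc, one_smul]
  | add p q hp hq => rw [map_add, map_add, map_add, hp, hq, TensorProduct.tmul_add]
  | mul_X p i hp =>
    rw [map_mul, map_mul, map_mul, hp, map_X, homD, aeval_X, Algebra.TensorProduct.tmul_mul_tmul,
      one_mul]

theorem algebraMap_bc (x : MvPolynomial (Fin P.n) D) :
    algebraMap ((pres P).baseChange D).toGenerators.Ring (D ⊗[R] A) x = homD P D x := by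
  rw [Algebra.Generators.algebraMap_apply]
  rfl

theorem homD_surj : Function.Surjective (homD P D) := by
  intro x
  obtain ⟨y, hy⟩ := ((pres P).baseChange D).toGenerators.algebraMap_surjective x
  exact ⟨y, by rw [← hy, algebraMap_bc]⟩

theorem homD_ker : RingHom.ker (homD P D).toRingHom =
    Ideal.span (Set.range fun j => MvPolynomial.map (algebraMap R D) (P.rel j)) := by
  have h := ((pres P).baseChange D).span_range_relation_eq_ker
  have h2 : Ideal.span (Set.range ((pres P).baseChange D).relation) =
      Ideal.span (Set.range fun j => MvPolynomial.map (algebraMap R D) (P.rel j)) := rfl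
  rw [← h2, h]
  ext x
  change homD P D x = 0 ↔ algebraMap ((pres P).baseChange D).toGenerators.Ring (D ⊗[R] A) x = 0
  rw [algebraMap_bc]

/-- the base changed marked presentation -/
noncomputable def bc : MarkedPresentation D (D ⊗[R] A) where
  n := P.n
  m := P.m
  c := P.c
  hcn := P.hcn
  hcm := P.hcm
  rel j := MvPolynomial.map (algebraMap R D) (P.rel j)
  hom := homD P D
  surj := homD_surj P D
  ker_eq := homD_ker P D

theorem minor_map (cols : Fin P.c → Fin P.n) :
    jacobianMinor (bc P D).rel (Fin.castLE (bc P D).hcm) cols =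
      MvPolynomial.map (algebraMap R D) (jacobianMinor P.rel (Fin.castLE P.hcm) cols) := by
  unfold jacobianMinor
  rw [RingHom.map_det]
  congr 1
  refine Matrix.ext fun j k => ?_
  simp only [RingHom.mapMatrix_apply, Matrix.map_apply, Matrix.of_apply]
  change pderiv (cols k) (MvPolynomial.map (algebraMap R D) (P.rel (Fin.castLE P.hcm j))) = _
  exact pderiv_map

theorem ss_baseChange (a : A) (h : IsStrictlyStandard R A a) (a' : D ⊗[R] A)
    (ha' : a' = (1 : D) ⊗ₜ[R] a) : IsStrictlyStandard D (D ⊗[R] A) a' := by
  subst ha'
  obtain ⟨P, hmem, hKT⟩ := h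
  refine ⟨bc P D, ?_, ?_⟩
  · have h1 := Ideal.mem_map_of_mem (Algebra.TensorProduct.includeRight : A →ₐ[R] D ⊗[R] A).toRingHom hmem
    rw [Ideal.map_span, ← Set.range_comp] at h1
    refine (Ideal.span_le.2 ?_) h1
    rintro _ ⟨cols, rfl⟩
    refine Ideal.subset_span ⟨cols, ?_⟩
    simp only [Function.comp_apply]
    rw [minor_map]
    exact homD_map P D _
  · intro (b : MvPolynomial (Fin P.n) D) hb (j : Fin P.m) hj
    obtain ⟨a₀, ha₀⟩ := P.surj a
    have h1 := hKT a₀ ha₀ j hj
    have h2 := Ideal.mem_map_of_mem (MvPolynomial.map (algebraMap R D) :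
      MvPolynomial (Fin P.n) R →+* MvPolynomial (Fin P.n) D) h1
    rw [Ideal.map_sup, Ideal.map_pow, Ideal.map_span, Ideal.map_span, map_mul, Set.image_image,
      ← Set.range_comp] at h2
    have h3 : b - MvPolynomial.map (algebraMap R D) a₀ ∈
        Ideal.span (Set.range fun j => MvPolynomial.map (algebraMap R D) (P.rel j)) := by
      rw [← homD_ker]
      change homD P D (b - _) = 0
      rw [map_sub, homD_map, ha₀, sub_eq_zero]
      exact hb
    have h4 : b * MvPolynomial.map (algebraMap R D) (P.rel j) =
        (b - MvPolynomial.map (algebraMap R D) a₀) * MvPolynomial.map (algebraMap R D) (P.rel j) +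
          MvPolynomial.map (algebraMap R D) a₀ * MvPolynomial.map (algebraMap R D) (P.rel j) := by
      ring
    change b * MvPolynomial.map (algebraMap R D) (P.rel j) ∈
      Ideal.span ((fun j => MvPolynomial.map (algebraMap R D) (P.rel j)) ''
        {j' : Fin P.m | (j' : ℕ) < P.c}) ⊔
      Ideal.span (Set.range fun j => MvPolynomial.map (algebraMap R D) (P.rel j)) ^ 2
    rw [h4]
    have h5 : (b - MvPolynomial.map (algebraMap R D) a₀) *
        MvPolynomial.map (algebraMap R D) (P.rel j) ∈
        Ideal.span (Set.range fun j => MvPolynomial.map (algebraMap R D) (P.rel j)) ^ 2 := by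
      rw [sq]
      exact Ideal.mul_mem_mul h3 (Ideal.subset_span ⟨j, rfl⟩)
    exact Ideal.add_mem _ (Ideal.mem_sup_right h5) h2

end Groth.Agent.Lib.Helper57.SSBaseChange
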