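import Mathlib
import Groth.Prelude.Def_Smoothing
import Groth.Agent.Lib.Helper57.S2033Core
import Groth.Agent.S2028

/-! Core construction for the dimension zero case (S2034). -/

set_option autoImplicit false
universe u

namespace Groth.Agent.Lib.Helper57.S2034Core

open MvPolynomial Smoothing Groth.Agent.Lib.Helper57.S2033Core

/-- the variables of `B` -/
abbrev V (n r m : ℕ) : Type := Fin n ⊕ (Fin r ⊕ (Unit ⊕ (Fin r × Fin m)))

variable {A : Type u} [CommRing A] {n r m : ℕ}

/-- `x` variables -/
def vx (i : Fin n) : V n r m := Sum.inl i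
/-- `y` variables -/
def vy (i : Fin r) : V n r m := Sum.inr (Sum.inl i)
/-- the `z` variable -/
def vz : V n r m := Sum.inr (Sum.inr (Sum.inl ()))
/-- `t` variables -/
def vt (i : Fin r) (j : Fin m) : V n r m := Sum.inr (Sum.inr (Sum.inr (i, j)))

/-- relations `f_j - Σ y_i t_ij` -/
noncomputable def relF (f : Fin m → MvPolynomial (Fin n) A) (j : Fin m) :
    MvPolynomial (V n r m) A :=
  rename vx (f j) - ∑ i : Fin r, X (vy i) * X (vt i j)

/-- relations `z y_i` -/
noncomputable def relZ (i : Fin r) : MvPolynomial (V n r m) A := X vz * X (vy i)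

/-- the ideal of `B` -/
noncomputable def JB (f : Fin m → MvPolynomial (Fin n) A) : Ideal (MvPolynomial (V n r m) A) :=
  Ideal.span (Set.range (relF (r := r) f) ∪ Set.range (relZ (n := n) (m := m)))

theorem eval_relF {W : Type*} [CommRing W] (θ₀ : A →+* W) (vals : V n r m → W)
    (f : Fin m → MvPolynomial (Fin n) A) (j : Fin m) :
    eval₂ θ₀ vals (relF f j) =
      eval₂ θ₀ (fun i => vals (vx i)) (f j) - ∑ i : Fin r, vals (vy i) * vals (vt i j) := by
  rw [relF, eval₂_sub, eval₂_rename, eval₂_sum]
  congr 1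
  refine Finset.sum_congr rfl fun i _ => ?_
  rw [eval₂_mul, eval₂_X, eval₂_X]

theorem eval_relZ {W : Type*} [CommRing W] (θ₀ : A →+* W) (vals : V n r m → W) (i : Fin r) :
    eval₂ θ₀ vals (relZ (n := n) (m := m) i) = vals vz * vals (vy i) := by
  rw [relZ, eval₂_mul, eval₂_X, eval₂_X]

theorem JB_le {f : Fin m → MvPolynomial (Fin n) A} {K : Ideal (MvPolynomial (V n r m) A)}
    (h1 : ∀ j, relF (r := r) f j ∈ K) (h2 : ∀ i, relZ (n := n) (m := m) i ∈ K) : JB f ≤ K := by
  rw [JB, Ideal.span_le]
  rintro x (⟨j, rfl⟩ | ⟨i, rfl⟩)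
  · exact h1 j
  · exact h2 i

theorem relF_mem (f : Fin m → MvPolynomial (Fin n) A) (j : Fin m) : relF (r := r) f j ∈ JB f :=
  Ideal.subset_span (Or.inl ⟨j, rfl⟩)

theorem relZ_mem (f : Fin m → MvPolynomial (Fin n) A) (i : Fin r) :
    relZ (n := n) (m := m) i ∈ JB f :=
  Ideal.subset_span (Or.inr ⟨i, rfl⟩)

theorem fp_BB (f : Fin m → MvPolynomial (Fin n) A) :
    Algebra.FinitePresentation A (MvPolynomial (V n r m) A ⧸ JB f) := by
  refine Algebra.FinitePresentation.quotient ?_
  rw [JB]
  exact Submodule.fg_span ((Set.finite_range _).union (Set.finite_range _))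

/-- membership in the singular ideal from a retraction of the localization -/
theorem mem_singularIdeal_of_retract {R B Md : Type u} [CommRing R] [CommRing B] [Algebra R B]
    [Algebra.FinitePresentation R B] [CommRing Md] [Algebra R Md] [Algebra.FormallySmooth R Md]
    (b : B) (α : B →ₐ[R] Md) (hα : IsUnit (α b))
    (hβ : ∀ (Bb : Type u) [CommRing Bb] [Algebra B Bb] [IsLocalization.Away b Bb],
      ∃ β : Md →+* Bb, ∀ x, β (α x) = algebraMap B Bb x) :
    b ∈ singularIdeal R B := by
  suffices H : ∀ (Bb : Type u) [CommRing Bb] [Algebra B Bb] [Algebra R Bb] [IsScalarTower R B Bb]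
      [IsLocalization.Away b Bb], Algebra.FormallySmooth R Bb by
    haveI := H (Localization.Away b)
    haveI : Algebra.FinitePresentation B (Localization.Away b) :=
      IsLocalization.Away.finitePresentation b
    haveI : Algebra.FinitePresentation R (Localization.Away b) :=
      Algebra.FinitePresentation.trans R B _
    have hsm : Algebra.Smooth R (Localization.Away b) := ⟨inferInstance, inferInstance⟩
    have h1 := (Algebra.basicOpen_subset_smoothLocus_iff_smooth (R := R) (A := B) (f := b)).2 hsm
    rw [singularIdeal, PrimeSpectrum.mem_vanishingIdeal]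
    intro x hx
    by_contra hb
    exact hx (h1 hb)
  intro Bb _ _ _ _ _
  obtain ⟨β, hβ'⟩ := hβ Bb
  have hu : ∀ y : Submonoid.powers b, IsUnit (α y) := by
    rintro ⟨_, k, rfl⟩
    change IsUnit (α (b ^ k))
    rw [map_pow]
    exact hα.pow k
  let α' : Bb →ₐ[R] Md := IsLocalization.liftAlgHom (M := Submonoid.powers b) (f := α) hu
  have hα' : ∀ x, α' (algebraMap B Bb x) = α x := fun x => IsLocalization.lift_eq _ x
  let βR : Md →ₐ[R] Bb :=
    { β with
      commutes' := fun r => by
        have h1 : algebraMap R Md r = α (algebraMap R B r) := (α.commutes r).symm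
        change β _ = _
        rw [h1, hβ']
        exact (IsScalarTower.algebraMap_apply R B Bb r).symm }
  refine formallySmooth_of_retract α' βR ?_
  apply AlgHom.coe_ringHom_injective
  refine IsLocalization.ringHom_ext (Submonoid.powers b) ?_
  refine RingHom.ext fun x => ?_
  change β (α' (algebraMap B Bb x)) = algebraMap B Bb x
  rw [hα', hβ']

theorem eval₂_X_eq {A Aa W σ τ : Type*} [CommRing A] [CommRing Aa] [Algebra A Aa] [CommRing W]
    (ιm : MvPolynomial σ Aa →+* W) (θ₀ : A →+* W)
    (hθ : ∀ a, θ₀ a = ιm (C (algebraMap A Aa a))) (k : τ → σ) (p : MvPolynomial τ A) :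
    eval₂ θ₀ (fun i => ιm (X (k i))) p = ιm (map (algebraMap A Aa) (rename k p)) := by
  induction p using MvPolynomial.induction_on with
  | C a => rw [eval₂_C, rename_C, map_C, hθ]
  | add p q hp hq => rw [eval₂_add, hp, hq, map_add, map_add, map_add]
  | mul_X p i hp => rw [eval₂_mul, eval₂_X, hp, map_mul, map_mul, map_mul, rename_X, map_X]

set_option linter.style.haveILetI false in
theorem claim2 {R A Aa : Type u} [CommRing R] [CommRing A] [Algebra R A] {n r m : ℕ}
    (f : Fin m → MvPolynomial (Fin n) A)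
    [Algebra.FinitePresentation R (MvPolynomial (V n r m) A ⧸ JB f)]
    (a : A) (ℓ : Fin r) [CommRing Aa] [Algebra A Aa] [IsLocalization.Away a Aa] [Algebra R Aa]
    [IsScalarTower R A Aa] [Algebra.FormallySmooth R Aa] :
    (Ideal.Quotient.mk (JB f) (C a * X (vy ℓ)) : MvPolynomial (V n r m) A ⧸ JB f) ∈
      singularIdeal R (MvPolynomial (V n r m) A ⧸ JB f) := by
  classical
  -- the model
  let Yℓ : MvPolynomial (V n r m) Aa := X (vy ℓ)
  haveI : Algebra.FormallySmooth R (MvPolynomial (V n r m) Aa) :=
    Algebra.FormallySmooth.comp R Aa _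
  haveI : Algebra.FormallySmooth (MvPolynomial (V n r m) Aa) (Localization.Away Yℓ) :=
    Algebra.FormallySmooth.of_isLocalization (Submonoid.powers Yℓ)
  haveI : Algebra.FormallySmooth R (Localization.Away Yℓ) :=
    Algebra.FormallySmooth.comp R (MvPolynomial (V n r m) Aa) _
  let ιm : MvPolynomial (V n r m) Aa →+* Localization.Away Yℓ := algebraMap _ _
  let yinv : Localization.Away Yℓ := IsLocalization.Away.invSelf Yℓ
  have hyinv : ιm Yℓ * yinv = 1 := IsLocalization.Away.mul_invSelf Yℓ
  let fA : Fin m → MvPolynomial (V n r m) Aa := fun j => map (algebraMap A Aa) (rename vx (f j))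
  let S' : Fin m → MvPolynomial (V n r m) Aa :=
    fun j => ∑ i' ∈ Finset.univ.erase ℓ, X (vy i') * X (vt i' j)
  let αvals : V n r m → Localization.Away Yℓ :=
    Sum.elim (fun i => ιm (X (vx i))) (Sum.elim (fun i => ιm (X (vy i)))
      (Sum.elim (fun _ => 0) (fun p => if p.1 = ℓ then ιm (fA p.2 - S' p.2) * yinv
        else ιm (X (vt p.1 p.2)))))
  have hθ : ∀ a' : A, algebraMap A (Localization.Away Yℓ) a' = ιm (C (algebraMap A Aa a')) := by
    intro a'
    rw [IsScalarTower.algebraMap_apply A (MvPolynomial (V n r m) Aa) (Localization.Away Yℓ),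
      MvPolynomial.algebraMap_apply]
  let αP : MvPolynomial (V n r m) A →ₐ[A] Localization.Away Yℓ := aeval αvals
  have hsum : ∀ j, ∑ i : Fin r, αvals (vy i) * αvals (vt i j) = ιm (fA j) := by
    intro j
    rw [← Finset.add_sum_erase Finset.univ _ (Finset.mem_univ ℓ)]
    have h1 : αvals (vy ℓ) * αvals (vt ℓ j) = ιm (fA j - S' j) := by
      change ιm (X (vy ℓ)) * (if ℓ = ℓ then ιm (fA j - S' j) * yinv else _) = _
      rw [if_pos rfl, mul_left_comm, hyinv, mul_one]
    have h2 : ∑ i ∈ Finset.univ.erase ℓ, αvals (vy i) * αvals (vt i j) = ιm (S' j) := by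
      rw [map_sum]
      refine Finset.sum_congr rfl fun i hi => ?_
      have hne : i ≠ ℓ := Finset.ne_of_mem_erase hi
      change ιm (X (vy i)) * (if i = ℓ then _ else ιm (X (vt i j))) = _
      rw [if_neg hne, map_mul]
    rw [h1, h2, map_sub, sub_add_cancel]
  have hαF : ∀ j, αP (relF (r := r) f j) = 0 := by
    intro j
    change aeval αvals (relF f j) = 0
    rw [aeval_def, eval_relF, hsum]
    have := eval₂_X_eq ιm (algebraMap A (Localization.Away Yℓ)) hθ vx (f j)
    change eval₂ _ (fun i => αvals (vx i)) (f j) = _ at this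
    rw [this, sub_self]
  have hαZ : ∀ i, αP (relZ (n := n) (m := m) i) = 0 := by
    intro i
    change aeval αvals (relZ i) = 0
    rw [aeval_def, eval_relZ]
    change (0 : Localization.Away Yℓ) * _ = 0
    rw [zero_mul]
  let αA : (MvPolynomial (V n r m) A ⧸ JB f) →ₐ[A] Localization.Away Yℓ :=
    Ideal.Quotient.liftₐ (JB f) αP (by
      intro x hx
      have : JB f ≤ RingHom.ker αP.toRingHom := JB_le hαF hαZ
      exact this hx)
  have hαAmk : ∀ q, αA (Ideal.Quotient.mk _ q) = aeval αvals q := fun q => rfl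
  let αR : (MvPolynomial (V n r m) A ⧸ JB f) →ₐ[R] Localization.Away Yℓ :=
    { (αA : (MvPolynomial (V n r m) A ⧸ JB f) →+* Localization.Away Yℓ) with
      commutes' := fun x => by
        change αA (Ideal.Quotient.mk _ (C (algebraMap R A x))) = _
        rw [hαAmk, aeval_C, ← IsScalarTower.algebraMap_apply] }
  have hαR : ∀ q, αR (Ideal.Quotient.mk _ q) = aeval αvals q := fun q => rfl
  refine mem_singularIdeal_of_retract _ αR ?_ ?_
  · rw [hαR, map_mul, aeval_C, aeval_X, hθ]
    refine IsUnit.mul ?_ ?_
    · exact ((IsLocalization.Away.algebraMap_isUnit a (S := Aa)).map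
        (C : Aa →+* MvPolynomial (V n r m) Aa)).map ιm
    · exact IsLocalization.Away.algebraMap_isUnit Yℓ
  · intro Bb _ _ _
    let jb : (MvPolynomial (V n r m) A ⧸ JB f) →+* Bb := algebraMap _ _
    have hub : IsUnit (jb (Ideal.Quotient.mk _ (C a) * Ideal.Quotient.mk _ (X (vy ℓ)))) := by
      rw [← map_mul]
      exact IsLocalization.Away.algebraMap_isUnit _
    rw [map_mul] at hub
    have hua : IsUnit (jb (Ideal.Quotient.mk _ (C a))) := isUnit_of_mul_isUnit_left hub
    have huy : IsUnit (jb (Ideal.Quotient.mk _ (X (vy ℓ)))) := isUnit_of_mul_isUnit_right hub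
    let θa : Aa →+* Bb := IsLocalization.Away.lift a
      (g := jb.comp (algebraMap A (MvPolynomial (V n r m) A ⧸ JB f))) hua
    have hθa : ∀ a', θa (algebraMap A Aa a') = jb (Ideal.Quotient.mk _ (C a')) :=
      fun a' => IsLocalization.Away.lift_eq a hua a'
    let βP : MvPolynomial (V n r m) Aa →+* Bb :=
      eval₂Hom θa (fun v => jb (Ideal.Quotient.mk _ (X v)))
    have hβPX : ∀ v, βP (X v) = jb (Ideal.Quotient.mk _ (X v)) := fun v => eval₂_X _ _ v
    have hβPC : ∀ a', βP (C (algebraMap A Aa a')) = jb (Ideal.Quotient.mk _ (C a')) := by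
      intro a'
      change eval₂ θa _ (C _) = _
      rw [eval₂_C, hθa]
    have hβPmap : ∀ q : MvPolynomial (V n r m) A,
        βP (map (algebraMap A Aa) q) = jb (Ideal.Quotient.mk _ q) := by
      intro q
      induction q using MvPolynomial.induction_on with
      | C a' => rw [map_C, hβPC]
      | add p q hp hq => rw [map_add, map_add, hp, hq, map_add, map_add]
      | mul_X p v hp => rw [map_mul, map_mul, hp, map_X, hβPX, map_mul, map_mul]
    have huY : IsUnit (βP Yℓ) := by
      change IsUnit (βP (X (vy ℓ)))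
      rw [hβPX]; exact huy
    let βm : Localization.Away Yℓ →+* Bb := IsLocalization.Away.lift Yℓ huY
    have hβm : ∀ p, βm (ιm p) = βP p := fun p => IsLocalization.Away.lift_eq Yℓ huY p
    have hβyinv : jb (Ideal.Quotient.mk _ (X (vy ℓ))) * βm yinv = 1 := by
      rw [← hβPX, ← hβm, ← map_mul]
      change βm (ιm Yℓ * yinv) = 1
      rw [hyinv, map_one]
    have hz : jb (Ideal.Quotient.mk _ (X vz)) = 0 := by
      have h1 : jb (Ideal.Quotient.mk _ (X vz)) * jb (Ideal.Quotient.mk _ (X (vy ℓ))) = 0 := by
        rw [← map_mul, ← map_mul]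
        have : Ideal.Quotient.mk (JB f) (X vz * X (vy ℓ)) = 0 :=
          Ideal.Quotient.eq_zero_iff_mem.2 (relZ_mem f ℓ)
        rw [this, map_zero]
      exact (huy.mul_left_eq_zero).1 h1
    have hrelF : ∀ j, jb (Ideal.Quotient.mk _ (rename vx (f j))) =
        ∑ i : Fin r, jb (Ideal.Quotient.mk _ (X (vy i))) * jb (Ideal.Quotient.mk _ (X (vt i j))) := by
      intro j
      have h1 : Ideal.Quotient.mk (JB f) (rename vx (f j)) =
          Ideal.Quotient.mk (JB f) (∑ i : Fin r, X (vy i) * X (vt i j)) := by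
        rw [Ideal.Quotient.eq]
        exact relF_mem f j
      rw [h1, map_sum, map_sum]
      refine Finset.sum_congr rfl fun i _ => ?_
      rw [map_mul, map_mul]
    have hvals : ∀ v, βm (αvals v) = jb (Ideal.Quotient.mk _ (X v)) := by
      intro v
      rcases v with i | i | ⟨⟨⟩⟩ | ⟨i, j⟩
      · change βm (ιm (X (vx i))) = _
        rw [hβm, hβPX]; rfl
      · change βm (ιm (X (vy i))) = _
        rw [hβm, hβPX]; rfl
      · change βm 0 = jb (Ideal.Quotient.mk _ (X vz))
        rw [map_zero, hz]
      · change βm (if i = ℓ then ιm (fA j - S' j) * yinv else ιm (X (vt i j))) =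
          jb (Ideal.Quotient.mk _ (X (vt i j)))
        by_cases hi : i = ℓ
        · subst hi
          rw [if_pos rfl, map_mul, hβm, map_sub]
          change (βP (map (algebraMap A Aa) (rename vx (f j))) - βP (S' j)) * βm yinv = _
          rw [hβPmap, hrelF, ← Finset.add_sum_erase Finset.univ _ (Finset.mem_univ i)]
          have hS' : βP (S' j) = ∑ i' ∈ Finset.univ.erase i,
              jb (Ideal.Quotient.mk _ (X (vy i'))) * jb (Ideal.Quotient.mk _ (X (vt i' j))) := by
            change βP (∑ i' ∈ Finset.univ.erase i, X (vy i') * X (vt i' j)) = _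
            rw [map_sum]
            refine Finset.sum_congr rfl fun i' _ => ?_
            rw [map_mul, hβPX, hβPX]
          rw [hS', add_sub_cancel_right, mul_right_comm, hβyinv, one_mul]
        · rw [if_neg hi, hβm, hβPX]
    refine ⟨βm, ?_⟩
    intro x
    obtain ⟨q, rfl⟩ := Ideal.Quotient.mk_surjective x
    rw [hαR]
    change βm (aeval αvals q) = jb (Ideal.Quotient.mk _ q)
    induction q using MvPolynomial.induction_on with
    | C a' => rw [aeval_C, hθ, hβm, hβPC]
    | add p q hp hq => rw [map_add, map_add, map_add, map_add, hp, hq]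
    | mul_X p v hp => rw [map_mul, map_mul, map_mul, map_mul, hp, aeval_X, hvals]

set_option linter.style.haveILetI false in
theorem claim1 {R A Cr Cc : Type u} [CommRing R] [CommRing A] [Algebra R A] {n r m : ℕ}
    (f : Fin m → MvPolynomial (Fin n) A)
    [Algebra.FinitePresentation R (MvPolynomial (V n r m) A ⧸ JB f)]
    [CommRing Cr] [Algebra A Cr] (πC : MvPolynomial (Fin n) A →ₐ[A] Cr)
    (hπC : Function.Surjective πC) (hker : RingHom.ker πC.toRingHom = Ideal.span (Set.range f))
    (ct : MvPolynomial (Fin n) A)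
    [CommRing Cc] [Algebra Cr Cc] [IsLocalization.Away (πC ct) Cc] [Algebra R Cc]
    [Algebra A Cc] [IsScalarTower A Cr Cc] [IsScalarTower R A Cc]
    [Algebra.FormallySmooth R Cc] :
    (Ideal.Quotient.mk (JB f) (X vz * rename vx ct) : MvPolynomial (V n r m) A ⧸ JB f) ∈
      singularIdeal R (MvPolynomial (V n r m) A ⧸ JB f) := by
  classical
  have hπf : ∀ j, πC (f j) = 0 := by
    intro j
    have : f j ∈ RingHom.ker πC.toRingHom := by
      rw [hker]; exact Ideal.subset_span ⟨j, rfl⟩
    exact this
  let Z : MvPolynomial (V n r m) Cc := X vz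
  haveI : Algebra.FormallySmooth R (MvPolynomial (V n r m) Cc) :=
    Algebra.FormallySmooth.comp R Cc _
  haveI : Algebra.FormallySmooth (MvPolynomial (V n r m) Cc) (Localization.Away Z) :=
    Algebra.FormallySmooth.of_isLocalization (Submonoid.powers Z)
  haveI : Algebra.FormallySmooth R (Localization.Away Z) :=
    Algebra.FormallySmooth.comp R (MvPolynomial (V n r m) Cc) _
  let ιm : MvPolynomial (V n r m) Cc →+* Localization.Away Z := algebraMap _ _
  let jc : Cr →+* Cc := algebraMap _ _
  let αvals : V n r m → Localization.Away Z :=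
    Sum.elim (fun i => ιm (C (jc (πC (X i))))) (Sum.elim (fun _ => 0)
      (Sum.elim (fun _ => ιm (X vz)) (fun p => ιm (X (vt p.1 p.2)))))
  have hθ : ∀ a' : A, algebraMap A (Localization.Away Z) a' = ιm (C (algebraMap A Cc a')) := by
    intro a'
    rw [IsScalarTower.algebraMap_apply A (MvPolynomial (V n r m) Cc) (Localization.Away Z),
      MvPolynomial.algebraMap_apply]
  have hevx : ∀ p : MvPolynomial (Fin n) A,
      eval₂ (algebraMap A (Localization.Away Z)) (fun i => αvals (vx i)) p =
        ιm (C (jc (πC p))) := by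
    intro p
    induction p using MvPolynomial.induction_on with
    | C a' =>
      rw [eval₂_C, hθ]
      congr 2
      have : πC (C a') = algebraMap A Cr a' := πC.commutes a'
      rw [this]
      exact IsScalarTower.algebraMap_apply A Cr Cc a'
    | add p q hp hq => rw [eval₂_add, hp, hq, map_add, map_add, map_add, map_add]
    | mul_X p i hp =>
      rw [eval₂_mul, eval₂_X, hp, map_mul, map_mul, map_mul, map_mul]
      rfl
  let αP : MvPolynomial (V n r m) A →ₐ[A] Localization.Away Z := aeval αvals
  have hαF : ∀ j, αP (relF (r := r) f j) = 0 := by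
    intro j
    change aeval αvals (relF f j) = 0
    rw [aeval_def, eval_relF, hevx, hπf, map_zero, map_zero, map_zero, zero_sub, neg_eq_zero]
    refine Finset.sum_eq_zero fun i _ => ?_
    change (0 : Localization.Away Z) * _ = 0
    rw [zero_mul]
  have hαZ : ∀ i, αP (relZ (n := n) (m := m) i) = 0 := by
    intro i
    change aeval αvals (relZ i) = 0
    rw [aeval_def, eval_relZ]
    change _ * (0 : Localization.Away Z) = 0
    rw [mul_zero]
  let αA : (MvPolynomial (V n r m) A ⧸ JB f) →ₐ[A] Localization.Away Z :=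
    Ideal.Quotient.liftₐ (JB f) αP (by
      intro x hx
      have : JB f ≤ RingHom.ker αP.toRingHom := JB_le hαF hαZ
      exact this hx)
  have hαAmk : ∀ q, αA (Ideal.Quotient.mk _ q) = aeval αvals q := fun q => rfl
  let αR : (MvPolynomial (V n r m) A ⧸ JB f) →ₐ[R] Localization.Away Z :=
    { (αA : (MvPolynomial (V n r m) A ⧸ JB f) →+* Localization.Away Z) with
      commutes' := fun x => by
        change αA (Ideal.Quotient.mk _ (C (algebraMap R A x))) = _
        rw [hαAmk, aeval_C, ← IsScalarTower.algebraMap_apply] }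
  have hαR : ∀ q, αR (Ideal.Quotient.mk _ q) = aeval αvals q := fun q => rfl
  refine mem_singularIdeal_of_retract _ αR ?_ ?_
  · rw [hαR, map_mul, aeval_X, aeval_rename, aeval_def]
    change IsUnit (ιm (X vz) * eval₂ _ (fun i => αvals (vx i)) ct)
    rw [hevx]
    refine IsUnit.mul (IsLocalization.Away.algebraMap_isUnit Z) ?_
    exact ((IsLocalization.Away.algebraMap_isUnit (πC ct) (S := Cc)).map
        (C : Cc →+* MvPolynomial (V n r m) Cc)).map ιm
  · intro Bb _ _ _
    let jb : (MvPolynomial (V n r m) A ⧸ JB f) →+* Bb := algebraMap _ _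
    have hub : IsUnit (jb (Ideal.Quotient.mk _ (X vz) * Ideal.Quotient.mk _ (rename vx ct))) := by
      rw [← map_mul]
      exact IsLocalization.Away.algebraMap_isUnit _
    rw [map_mul] at hub
    have huz : IsUnit (jb (Ideal.Quotient.mk _ (X vz))) := isUnit_of_mul_isUnit_left hub
    have huc : IsUnit (jb (Ideal.Quotient.mk _ (rename vx ct))) := isUnit_of_mul_isUnit_right hub
    have hy : ∀ i, jb (Ideal.Quotient.mk _ (X (vy i))) = 0 := by
      intro i
      have h1 : jb (Ideal.Quotient.mk _ (X vz)) * jb (Ideal.Quotient.mk _ (X (vy i))) = 0 := by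
        rw [← map_mul, ← map_mul]
        have : Ideal.Quotient.mk (JB f) (X vz * X (vy i)) = 0 :=
          Ideal.Quotient.eq_zero_iff_mem.2 (relZ_mem f i)
        rw [this, map_zero]
      exact (huz.mul_right_eq_zero).1 h1
    have hrelF : ∀ j, jb (Ideal.Quotient.mk _ (rename vx (f j))) = 0 := by
      intro j
      have h1 : Ideal.Quotient.mk (JB f) (rename vx (f j)) =
          Ideal.Quotient.mk (JB f) (∑ i : Fin r, X (vy i) * X (vt i j)) := by
        rw [Ideal.Quotient.eq]
        exact relF_mem f j
      rw [h1, map_sum, map_sum]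
      refine Finset.sum_eq_zero fun i _ => ?_
      rw [map_mul, map_mul, hy, zero_mul]
    let γP : MvPolynomial (Fin n) A →+* Bb :=
      jb.comp ((Ideal.Quotient.mk (JB f)).comp (rename vx : MvPolynomial (Fin n) A →ₐ[A]
        MvPolynomial (V n r m) A).toRingHom)
    have hγP : ∀ p, γP p = jb (Ideal.Quotient.mk _ (rename vx p)) := fun p => rfl
    let γ : Cr →+* Bb := RingHom.liftOfSurjective πC.toRingHom hπC ⟨γP, by
      rw [hker, Ideal.span_le]
      rintro _ ⟨j, rfl⟩
      exact hrelF j⟩
    have hγ : ∀ p, γ (πC p) = jb (Ideal.Quotient.mk _ (rename vx p)) :=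
      fun p => RingHom.liftOfSurjective_comp_apply _ _ _ p
    have huγ : IsUnit (γ (πC ct)) := by rw [hγ]; exact huc
    let θc : Cc →+* Bb := IsLocalization.Away.lift (πC ct) huγ
    have hθc : ∀ c', θc (jc c') = γ c' := fun c' => IsLocalization.Away.lift_eq (πC ct) huγ c'
    let βP : MvPolynomial (V n r m) Cc →+* Bb :=
      eval₂Hom θc (fun v => jb (Ideal.Quotient.mk _ (X v)))
    have hβPX : ∀ v, βP (X v) = jb (Ideal.Quotient.mk _ (X v)) := fun v => eval₂_X _ _ v
    have hβPC : ∀ c', βP (C c') = θc c' := fun c' => eval₂_C _ _ c'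
    have huZ : IsUnit (βP Z) := by
      change IsUnit (βP (X vz))
      rw [hβPX]; exact huz
    let βm : Localization.Away Z →+* Bb := IsLocalization.Away.lift Z huZ
    have hβm : ∀ p, βm (ιm p) = βP p := fun p => IsLocalization.Away.lift_eq Z huZ p
    have hvals : ∀ v, βm (αvals v) = jb (Ideal.Quotient.mk _ (X v)) := by
      intro v
      rcases v with i | i | ⟨⟨⟩⟩ | ⟨i, j⟩
      · change βm (ιm (C (jc (πC (X i))))) = _
        rw [hβm, hβPC, hθc, hγ, rename_X]; rfl
      · change βm 0 = jb (Ideal.Quotient.mk _ (X (vy i)))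
        rw [map_zero, hy]
      · change βm (ιm (X vz)) = jb (Ideal.Quotient.mk _ (X vz))
        rw [hβm, hβPX]
      · change βm (ιm (X (vt i j))) = jb (Ideal.Quotient.mk _ (X (vt i j)))
        rw [hβm, hβPX]
    refine ⟨βm, ?_⟩
    intro x
    obtain ⟨q, rfl⟩ := Ideal.Quotient.mk_surjective x
    rw [hαR]
    change βm (aeval αvals q) = jb (Ideal.Quotient.mk _ q)
    induction q using MvPolynomial.induction_on with
    | C a' =>
      rw [aeval_C, hθ, hβm, hβPC, IsScalarTower.algebraMap_apply A Cr Cc]
      change θc (jc _) = _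
      rw [hθc]
      have : algebraMap A Cr a' = πC (C a') := (πC.commutes a').symm
      rw [this, hγ, rename_C]
    | add p q hp hq => rw [map_add, map_add, map_add, map_add, hp, hq]
    | mul_X p v hp => rw [map_mul, map_mul, map_mul, map_mul, hp, aeval_X, hvals]

end Groth.Agent.Lib.Helper57.S2034Core
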