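import Mathlib
import Groth.Prelude.Def_Smoothing
import Groth.Agent.S19959
import Groth.Agent.S2034

universe u

open Smoothing TensorProduct

namespace Groth.Agent.Lib.Helper57.S6822Step

set_option linter.style.haveILetI false

/-- the image of an element of the singular ideal under a base-change quotient lies in the
singular ideal -/
theorem mem_sing_of_surj {R₁ A₁ R₂ A₂ : Type u} [CommRing R₁] [CommRing A₁] [Algebra R₁ A₁]
    [Algebra.FinitePresentation R₁ A₁] [CommRing R₂] [CommRing A₂] [Algebra R₂ A₂]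
    [Algebra.FinitePresentation R₂ A₂]
    (pR : R₁ →+* R₂) (pA : A₁ →+* A₂) (hpA : Function.Surjective pA)
    (hcA : ∀ r, pA (algebraMap R₁ A₁ r) = algebraMap R₂ A₂ (pR r))
    (hpR : Function.Surjective pR)
    (hker : RingHom.ker pA ≤ Ideal.map (algebraMap R₁ A₁) (RingHom.ker pR))
    (a : A₁) (ha : a ∈ singularIdeal R₁ A₁) : pA a ∈ singularIdeal R₂ A₂ := by
  letI : Algebra R₁ R₂ := pR.toAlgebra
  have hsm : Algebra.Smooth R₁ (Localization.Away a) := Groth.Agent.S2034.smooth_away_of_mem a ha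
  haveI : Algebra.FormallySmooth R₁ (Localization.Away a) := hsm.formallySmooth
  have h1 : ∀ t : R₁, (1 : R₂) ⊗ₜ[R₁] (algebraMap A₁ (Localization.Away a) (algebraMap R₁ A₁ t))
      = (pR t) ⊗ₜ[R₁] (1 : Localization.Away a) := by
    intro t
    rw [← IsScalarTower.algebraMap_apply, Algebra.algebraMap_eq_smul_one, ← TensorProduct.smul_tmul,
      Algebra.smul_def, mul_one]
    rfl
  let ι : A₁ →+* R₂ ⊗[R₁] Localization.Away a :=
    (Algebra.TensorProduct.includeRight :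
      Localization.Away a →ₐ[R₁] R₂ ⊗[R₁] Localization.Away a).toRingHom.comp
      (algebraMap A₁ (Localization.Away a))
  have hι : RingHom.ker pA ≤ RingHom.ker ι := by
    refine hker.trans ?_
    rw [Ideal.map_le_iff_le_comap]
    intro t ht
    rw [Ideal.mem_comap, RingHom.mem_ker]
    rw [RingHom.mem_ker] at ht
    change (1 : R₂) ⊗ₜ[R₁] (algebraMap A₁ (Localization.Away a) (algebraMap R₁ A₁ t)) = 0
    rw [h1, ht, TensorProduct.zero_tmul]
  let α₀ : A₂ →+* R₂ ⊗[R₁] Localization.Away a := pA.liftOfSurjective hpA ⟨ι, hι⟩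
  have hα₀ : ∀ x, α₀ (pA x) = ι x := fun x =>
    RingHom.liftOfSurjective_comp_apply pA hpA ⟨ι, hι⟩ x
  let α : A₂ →ₐ[R₂] R₂ ⊗[R₁] Localization.Away a :=
    { α₀ with
      commutes' := fun s => by
        obtain ⟨t, rfl⟩ := hpR s
        change α₀ (algebraMap R₂ A₂ (pR t)) = _
        rw [← hcA, hα₀]
        change (1 : R₂) ⊗ₜ[R₁] (algebraMap A₁ (Localization.Away a) (algebraMap R₁ A₁ t)) = _
        rw [h1]
        rfl }
  refine Groth.Agent.Lib.Helper57.S2034Core.mem_singularIdeal_of_retract (R := R₂) (B := A₂)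
    (Md := R₂ ⊗[R₁] Localization.Away a) (pA a) α ?_ ?_
  · change IsUnit (α₀ (pA a))
    rw [hα₀]
    have hu0 : IsUnit (algebraMap A₁ (Localization.Away a) a) :=
      IsLocalization.Away.algebraMap_isUnit (S := Localization.Away a) a
    exact hu0.map (Algebra.TensorProduct.includeRight :
      Localization.Away a →ₐ[R₁] R₂ ⊗[R₁] Localization.Away a)
  · intro Bb _ _ _
    letI : Algebra R₁ A₂ := (pA.comp (algebraMap R₁ A₁)).toAlgebra
    letI : Algebra R₁ Bb := ((algebraMap A₂ Bb).comp (algebraMap R₁ A₂)).toAlgebra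
    let f₁ : R₂ →ₐ[R₁] Bb :=
      { (algebraMap A₂ Bb).comp (algebraMap R₂ A₂) with
        commutes' := fun t => by
          change algebraMap A₂ Bb (algebraMap R₂ A₂ (pR t)) =
            algebraMap A₂ Bb (pA (algebraMap R₁ A₁ t))
          rw [hcA] }
    have hu : IsUnit (((algebraMap A₂ Bb).comp pA) a) :=
      IsLocalization.Away.algebraMap_isUnit (S := Bb) (pA a)
    let f₂ : Localization.Away a →ₐ[R₁] Bb :=
      { IsLocalization.Away.lift a hu with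
        commutes' := fun t => by
          change IsLocalization.Away.lift a hu (algebraMap R₁ (Localization.Away a) t) = _
          rw [IsScalarTower.algebraMap_apply R₁ A₁ (Localization.Away a),
            IsLocalization.Away.lift_eq]
          rfl }
    refine ⟨(Algebra.TensorProduct.productMap f₁ f₂).toRingHom, fun x => ?_⟩
    obtain ⟨x, rfl⟩ := hpA x
    change Algebra.TensorProduct.productMap f₁ f₂ (α₀ (pA x)) = _
    rw [hα₀]
    change Algebra.TensorProduct.productMap f₁ f₂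
      ((1 : R₂) ⊗ₜ[R₁] (algebraMap A₁ (Localization.Away a) x)) = _
    rw [Algebra.TensorProduct.productMap_apply_tmul, map_one, one_mul]
    change IsLocalization.Away.lift a hu (algebraMap A₁ (Localization.Away a) x) = _
    rw [IsLocalization.Away.lift_eq]
    rfl

theorem step {R₁ A₁ Λ₁ R₂ A₂ Λ₂ T : Type u} [CommRing R₁] [IsNoetherianRing R₁] [CommRing A₁]
    [Algebra R₁ A₁] [Algebra.FinitePresentation R₁ A₁] [CommRing Λ₁] [Algebra R₁ Λ₁]
    [CommRing R₂] [CommRing A₂] [Algebra R₂ A₂] [Algebra.FinitePresentation R₂ A₂]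
    [CommRing Λ₂] [Algebra R₂ Λ₂]
    [CommRing T] [Algebra R₁ T] [Algebra.FinitePresentation R₁ T]
    (e : T →ₐ[R₁] A₁) (e' : A₁ →ₐ[R₁] T) (hee : ∀ a, e (e' a) = a)
    (φ₁ : A₁ →ₐ[R₁] Λ₁) (φ₂ : A₂ →ₐ[R₂] Λ₂) (𝔮₁ : Ideal Λ₁) [𝔮₁.IsPrime]
    (pR : R₁ →+* R₂) (pA : A₁ →+* A₂) (pΛ : Λ₁ →+* Λ₂)
    (hpR : Function.Surjective pR) (hpA : Function.Surjective pA)
    (hpΛ : Function.Surjective pΛ)
    (ϖ : R₁) (hkR : RingHom.ker pR = Ideal.span {ϖ ^ 8})
    (hkA : RingHom.ker pA = Ideal.span {algebraMap R₁ A₁ (ϖ ^ 8)})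
    (hkΛ : RingHom.ker pΛ = Ideal.span {algebraMap R₁ Λ₁ (ϖ ^ 8)})
    (hcA : ∀ r, pA (algebraMap R₁ A₁ r) = algebraMap R₂ A₂ (pR r))
    (hcΛ : ∀ r, pΛ (algebraMap R₁ Λ₁ r) = algebraMap R₂ Λ₂ (pR r))
    (hcφ : ∀ a, pΛ (φ₁ a) = φ₂ (pA a))
    (hR : ∀ x : R₁, ϖ ^ 2 * x = 0 → ϖ * x = 0) (hΛ : ∀ x : Λ₁, ϖ ^ 2 • x = 0 → ϖ • x = 0)
    (hstd : IsStrictlyStandard R₁ T (algebraMap R₁ T ϖ))
    (hres : Resolvable R₂ φ₂ (𝔮₁.map pΛ)) : Resolvable R₁ φ₁ 𝔮₁ := by
  obtain ⟨C, _, _, hCfp, g₂, h₂, hgh, hle, hnle⟩ := hres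
  have hϖ8 : pR (ϖ ^ 8) = 0 := by
    have : ϖ ^ 8 ∈ RingHom.ker pR := by rw [hkR]; exact Ideal.mem_span_singleton_self _
    exact RingHom.mem_ker.1 this
  letI : Algebra R₁ R₂ := pR.toAlgebra
  letI : Algebra R₁ C := ((algebraMap R₂ C).comp pR).toAlgebra
  haveI : IsScalarTower R₁ R₂ C := IsScalarTower.of_algebraMap_eq (fun _ => rfl)
  have hkill : ∀ x ∈ Ideal.span {ϖ ^ 8}, pR x = 0 := by
    intro x hx
    rw [← hkR] at hx
    exact RingHom.mem_ker.1 hx
  letI : Algebra (R₁ ⧸ Ideal.span {ϖ ^ 8}) R₂ := (Ideal.Quotient.lift _ pR hkill).toAlgebra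
  letI : Algebra (R₁ ⧸ Ideal.span {ϖ ^ 8}) C :=
    ((algebraMap R₂ C).comp (algebraMap (R₁ ⧸ Ideal.span {ϖ ^ 8}) R₂)).toAlgebra
  haveI : IsScalarTower (R₁ ⧸ Ideal.span {ϖ ^ 8}) R₂ C :=
    IsScalarTower.of_algebraMap_eq (fun _ => rfl)
  haveI : IsScalarTower R₁ (R₁ ⧸ Ideal.span {ϖ ^ 8}) C :=
    IsScalarTower.of_algebraMap_eq (fun _ => rfl)
  haveI : Algebra.FiniteType R₁ R₂ := Algebra.FiniteType.of_surjective (Algebra.ofId R₁ R₂) hpR
  haveI : Algebra.FiniteType R₁ C := Algebra.FiniteType.trans (R := R₁) (S := R₂) (A := C)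
    inferInstance inferInstance
  haveI : Algebra.FiniteType (R₁ ⧸ Ideal.span {ϖ ^ 8}) C :=
    Algebra.FiniteType.of_restrictScalars_finiteType R₁ _ C
  haveI : Algebra.FinitePresentation (R₁ ⧸ Ideal.span {ϖ ^ 8}) C :=
    Algebra.FinitePresentation.of_finiteType.1 inferInstance
  let eΛ : (Λ₁ ⧸ Ideal.span {algebraMap R₁ Λ₁ (ϖ ^ 8)}) ≃+* Λ₂ :=
    (Ideal.quotEquivOfEq hkΛ.symm).trans (RingHom.quotientKerEquivOfSurjective hpΛ)
  have heΛ : ∀ x, eΛ (Ideal.Quotient.mk _ x) = pΛ x := fun x => rfl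
  let γ : T →ₐ[R₁] C :=
    { g₂.toRingHom.comp (pA.comp e.toRingHom) with
      commutes' := fun r => by
        change g₂ (pA (e (algebraMap R₁ T r))) = algebraMap R₂ C (pR r)
        rw [e.commutes, hcA, g₂.commutes] }
  let g : C →ₐ[R₁] Λ₁ ⧸ Ideal.span {algebraMap R₁ Λ₁ (ϖ ^ 8)} :=
    { eΛ.symm.toRingHom.comp h₂.toRingHom with
      commutes' := fun r => by
        change eΛ.symm (h₂ (algebraMap R₂ C (pR r))) = Ideal.Quotient.mk _ (algebraMap R₁ Λ₁ r)
        rw [h₂.commutes, ← hcΛ, ← heΛ, eΛ.symm_apply_apply] }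
  have hfac : ∀ t : T, g (γ t) =
      Ideal.Quotient.mk (Ideal.span {algebraMap R₁ Λ₁ (ϖ ^ 8)}) ((φ₁.comp e) t) := by
    intro t
    change eΛ.symm (h₂ (g₂ (pA (e t)))) = Ideal.Quotient.mk _ (φ₁ (e t))
    have : h₂ (g₂ (pA (e t))) = φ₂ (pA (e t)) := by rw [← hgh]; rfl
    rw [this, ← hcφ, ← heΛ, eΛ.symm_apply_apply]
  obtain ⟨B, _, _, hBfp, α, β, hβα, hsmooth, hsing⟩ :=
    Groth.Agent.S19959.result ϖ hR hΛ (φ₁.comp e) hstd γ g hfac
  have hcomp : β.comp (α.comp e') = φ₁ := by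
    refine AlgHom.ext fun a => ?_
    change β (α (e' a)) = φ₁ a
    have : β (α (e' a)) = (φ₁.comp e) (e' a) := by rw [← hβα]; rfl
    rw [this]
    change φ₁ (e (e' a)) = _
    rw [hee]
  have hϖB : algebraMap R₁ B ϖ ∈ singularIdeal R₁ B := by
    rw [singularIdeal, PrimeSpectrum.mem_vanishingIdeal]
    intro x hx
    by_contra hnot
    exact hx (hsmooth x.asIdeal hnot)
  have hϖJ : algebraMap R₁ Λ₁ ϖ ∈ singRad R₁ β := by
    apply Ideal.le_radical
    rw [← β.commutes]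
    exact Ideal.mem_map_of_mem _ hϖB
  have hkerJ : RingHom.ker pΛ ≤ singRad R₁ β := by
    rw [hkΛ, Ideal.span_le, Set.singleton_subset_iff, map_pow]
    exact Ideal.pow_mem_of_mem _ hϖJ 8 (by norm_num)
  have hbij : Function.Bijective (algebraMap (R₁ ⧸ Ideal.span {ϖ ^ 8}) R₂) := by
    constructor
    · exact RingHom.lift_injective_of_ker_le_ideal _ hkill (le_of_eq hkR)
    · exact Ideal.Quotient.lift_surjective_of_surjective _ hkill hpR
  haveI : Algebra.FormallySmooth (R₁ ⧸ Ideal.span {ϖ ^ 8}) R₂ :=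
    Algebra.FormallySmooth.of_equiv
      (AlgEquiv.ofBijective (Algebra.ofId (R₁ ⧸ Ideal.span {ϖ ^ 8}) R₂) hbij)
  have hHC : singularIdeal R₂ C ≤ singularIdeal (R₁ ⧸ Ideal.span {ϖ ^ 8}) C := by
    intro c hc
    rw [singularIdeal, PrimeSpectrum.mem_vanishingIdeal] at hc ⊢
    intro x hx
    apply hc x
    intro hsm
    apply hx
    change Algebra.FormallySmooth (R₁ ⧸ Ideal.span {ϖ ^ 8}) (Localization.AtPrime x.asIdeal)
    haveI : Algebra.FormallySmooth R₂ (Localization.AtPrime x.asIdeal) := hsm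
    haveI : IsScalarTower (R₁ ⧸ Ideal.span {ϖ ^ 8}) R₂ (Localization.AtPrime x.asIdeal) :=
      IsScalarTower.of_algebraMap_eq (fun y => by
        rw [IsScalarTower.algebraMap_apply _ C (Localization.AtPrime x.asIdeal),
          IsScalarTower.algebraMap_apply _ R₂ C,
          ← IsScalarTower.algebraMap_apply R₂ C (Localization.AtPrime x.asIdeal)])
    exact Algebra.FormallySmooth.comp (R₁ ⧸ Ideal.span {ϖ ^ 8}) R₂ _
  have key : ∀ c ∈ singularIdeal R₂ C, ∃ j ∈ singRad R₁ β, pΛ j = h₂ c := by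
    intro c hc
    have h1 : g c ∈ (singRad R₁ β).map
        (Ideal.Quotient.mk (Ideal.span {algebraMap R₁ Λ₁ (ϖ ^ 8)})) :=
      hsing (Ideal.mem_map_of_mem _ (hHC hc))
    obtain ⟨j, hj, hjc⟩ := (Ideal.mem_map_iff_of_surjective _ Ideal.Quotient.mk_surjective).1 h1
    refine ⟨j, hj, ?_⟩
    have h2 : eΛ (Ideal.Quotient.mk _ j) = h₂ c := by
      rw [hjc]
      exact eΛ.apply_symm_apply _
    rw [← h2, heΛ]
  have hmap : (singularIdeal R₂ C).map h₂ ≤ (singRad R₁ β).map pΛ := by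
    rw [Ideal.map_le_iff_le_comap]
    intro c hc
    obtain ⟨j, hj, hjc⟩ := key c hc
    rw [Ideal.mem_comap, ← hjc]
    exact Ideal.mem_map_of_mem _ hj
  have hback : ∀ z : Λ₁, pΛ z ∈ (singRad R₁ β).map pΛ → z ∈ singRad R₁ β := by
    intro z hz
    obtain ⟨j, hj, hjz⟩ := (Ideal.mem_map_iff_of_surjective _ hpΛ).1 hz
    have h1 : z - j ∈ RingHom.ker pΛ := by rw [RingHom.mem_ker, map_sub, hjz, sub_self]
    have h2 := Ideal.add_mem _ (hkerJ h1) hj
    simpa using h2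
  have hradJ : (singRad R₁ β).radical = singRad R₁ β := Ideal.radical_idem _
  refine ⟨B, _, _, hBfp, α.comp e', β, hcomp, ?_, ?_⟩
  · rw [← hradJ]
    refine (Ideal.radical_mono ?_)
    rw [Ideal.map_le_iff_le_comap]
    intro a ha
    rw [Ideal.mem_comap]
    change φ₁ a ∈ singRad R₁ β
    have hkA' : RingHom.ker pA ≤ Ideal.map (algebraMap R₁ A₁) (RingHom.ker pR) := by
      rw [hkA, hkR, Ideal.map_span, Set.image_singleton]
    have h3 : pA a ∈ singularIdeal R₂ A₂ := mem_sing_of_surj pR pA hpA hcA hpR hkA' a ha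
    have h4 : φ₂ (pA a) ∈ singRad R₂ h₂ :=
      hle (Ideal.le_radical (Ideal.mem_map_of_mem _ h3))
    obtain ⟨n, hn⟩ := h4
    have h5 := hmap hn
    rw [← hcφ, ← map_pow] at h5
    have h6 := hback _ h5
    rw [← hradJ]
    exact ⟨n, h6⟩
  · intro hJ𝔮
    apply hnle
    haveI : (𝔮₁.map pΛ).IsPrime := Ideal.map_isPrime_of_surjective hpΛ (hkerJ.trans hJ𝔮)
    rw [singRad]
    refine (Ideal.IsPrime.radical_le_iff inferInstance).2 ?_
    exact hmap.trans (Ideal.map_mono hJ𝔮)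

end Groth.Agent.Lib.Helper57.S6822Step
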