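import Mathlib
import Groth.Prelude.Def_Smoothing
import Groth.Agent.Lib.Helper57.S6822Step
import Groth.Agent.Lib.Helper57.SSBaseChange

universe u

open Smoothing TensorProduct

namespace Groth.Agent.Lib.Helper57.S6822U

set_option linter.style.haveILetI false

theorem fp_quot {R A R₁ A₁ : Type u} [CommRing R] [IsNoetherianRing R] [CommRing A] [Algebra R A]
    [Algebra.FinitePresentation R A] [CommRing R₁] [CommRing A₁] [Algebra R₁ A₁]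
    (qR : R →+* R₁) (qA : A →+* A₁) (hqR : Function.Surjective qR) (hqA : Function.Surjective qA)
    (hc : ∀ r, qA (algebraMap R A r) = algebraMap R₁ A₁ (qR r)) :
    Algebra.FinitePresentation R₁ A₁ := by
  haveI : IsNoetherianRing R₁ := isNoetherianRing_of_surjective R R₁ qR hqR
  letI : Algebra R R₁ := qR.toAlgebra
  letI : Algebra R A₁ := ((algebraMap R₁ A₁).comp qR).toAlgebra
  haveI : IsScalarTower R R₁ A₁ := IsScalarTower.of_algebraMap_eq (fun _ => rfl)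
  let qA' : A →ₐ[R] A₁ := { qA with commutes' := fun r => hc r }
  haveI : Algebra.FiniteType R A₁ := Algebra.FiniteType.of_surjective qA' hqA
  haveI : Algebra.FiniteType R₁ A₁ := Algebra.FiniteType.of_restrictScalars_finiteType R R₁ A₁
  exact Algebra.FinitePresentation.of_finiteType.1 inferInstance

theorem ker_lift {X X₁ X₂ : Type u} [CommRing X] [CommRing X₁] [CommRing X₂]
    (q₁ : X →+* X₁) (q₂ : X →+* X₂) (hq₁ : Function.Surjective q₁) (z : X)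
    (hk : RingHom.ker q₂ = RingHom.ker q₁ ⊔ Ideal.span {z})
    (h : RingHom.ker q₁ ≤ RingHom.ker q₂) :
    RingHom.ker (q₁.liftOfSurjective hq₁ ⟨q₂, h⟩) = Ideal.span {q₁ z} := by
  have hz : q₂ z = 0 := by
    have : z ∈ RingHom.ker q₂ := by
      rw [hk]
      exact Ideal.mem_sup_right (Ideal.mem_span_singleton_self z)
    exact RingHom.mem_ker.1 this
  ext y
  obtain ⟨x, rfl⟩ := hq₁ y
  rw [RingHom.mem_ker, RingHom.liftOfSurjective_comp_apply]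
  change q₂ x = 0 ↔ _
  constructor
  · intro hx
    have hx' : x ∈ RingHom.ker q₁ ⊔ Ideal.span {z} := by
      rw [← hk]
      exact RingHom.mem_ker.2 hx
    obtain ⟨u, hu, v, hv, rfl⟩ := Submodule.mem_sup.1 hx'
    obtain ⟨c, rfl⟩ := Ideal.mem_span_singleton'.1 hv
    rw [map_add, RingHom.mem_ker.1 hu, zero_add, map_mul]
    exact Ideal.mul_mem_left _ _ (Ideal.mem_span_singleton_self _)
  · intro hx
    obtain ⟨d, hd⟩ := Ideal.mem_span_singleton'.1 hx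
    obtain ⟨c, rfl⟩ := hq₁ d
    have h1 : x - c * z ∈ RingHom.ker q₁ := by
      rw [RingHom.mem_ker, map_sub, map_mul, hd, sub_self]
    have h2 := RingHom.mem_ker.1 (h h1)
    rw [map_sub, map_mul, hz, mul_zero, sub_zero] at h2
    exact h2

theorem ustep {R A Λ : Type u} [CommRing R] [IsNoetherianRing R] [CommRing A] [Algebra R A]
    [Algebra.FinitePresentation R A] [CommRing Λ] [Algebra R Λ] (φ : A →ₐ[R] Λ)
    (𝔮 : Ideal Λ) [𝔮.IsPrime]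
    (p : R) (hstd : IsStrictlyStandard R A (algebraMap R A p))
    (I I' : Ideal R) (hI' : I' = I ⊔ Ideal.span {p ^ 8}) (hI𝔮 : I'.map (algebraMap R Λ) ≤ 𝔮)
    {R₁ A₁ Λ₁ R₂ A₂ Λ₂ : Type u} [CommRing R₁] [CommRing A₁] [Algebra R₁ A₁] [CommRing Λ₁]
    [Algebra R₁ Λ₁] [CommRing R₂] [CommRing A₂] [Algebra R₂ A₂] [CommRing Λ₂] [Algebra R₂ Λ₂]
    (φ₁ : A₁ →ₐ[R₁] Λ₁) (φ₂ : A₂ →ₐ[R₂] Λ₂)
    (qR₁ : R →+* R₁) (qA₁ : A →+* A₁) (qΛ₁ : Λ →+* Λ₁)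
    (hqR₁ : Function.Surjective qR₁) (hqA₁ : Function.Surjective qA₁)
    (hqΛ₁ : Function.Surjective qΛ₁)
    (hkR₁ : RingHom.ker qR₁ = I) (hkA₁ : RingHom.ker qA₁ = I.map (algebraMap R A))
    (hkΛ₁ : RingHom.ker qΛ₁ = I.map (algebraMap R Λ))
    (hcA₁ : ∀ r, qA₁ (algebraMap R A r) = algebraMap R₁ A₁ (qR₁ r))
    (hcΛ₁ : ∀ r, qΛ₁ (algebraMap R Λ r) = algebraMap R₁ Λ₁ (qR₁ r))
    (hcφ₁ : ∀ a, φ₁ (qA₁ a) = qΛ₁ (φ a))
    (qR₂ : R →+* R₂) (qA₂ : A →+* A₂) (qΛ₂ : Λ →+* Λ₂)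
    (hqR₂ : Function.Surjective qR₂) (hqA₂ : Function.Surjective qA₂)
    (hqΛ₂ : Function.Surjective qΛ₂)
    (hkR₂ : RingHom.ker qR₂ = I') (hkA₂ : RingHom.ker qA₂ = I'.map (algebraMap R A))
    (hkΛ₂ : RingHom.ker qΛ₂ = I'.map (algebraMap R Λ))
    (hcA₂ : ∀ r, qA₂ (algebraMap R A r) = algebraMap R₂ A₂ (qR₂ r))
    (hcΛ₂ : ∀ r, qΛ₂ (algebraMap R Λ r) = algebraMap R₂ Λ₂ (qR₂ r))
    (hcφ₂ : ∀ a, φ₂ (qA₂ a) = qΛ₂ (φ a))
    (hR : ∀ x : R₁, qR₁ p ^ 2 * x = 0 → qR₁ p * x = 0)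
    (hΛ : ∀ x : Λ₁, qΛ₁ (algebraMap R Λ p) ^ 2 * x = 0 → qΛ₁ (algebraMap R Λ p) * x = 0)
    (hres : Resolvable R₂ φ₂ (𝔮.map qΛ₂)) : Resolvable R₁ φ₁ (𝔮.map qΛ₁) := by
  have hII' : I ≤ I' := by rw [hI']; exact le_sup_left
  haveI : IsNoetherianRing R₁ := isNoetherianRing_of_surjective R R₁ qR₁ hqR₁
  haveI : Algebra.FinitePresentation R₁ A₁ := fp_quot qR₁ qA₁ hqR₁ hqA₁ hcA₁
  haveI : Algebra.FinitePresentation R₂ A₂ := fp_quot qR₂ qA₂ hqR₂ hqA₂ hcA₂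
  -- the transition maps
  have hleR : RingHom.ker qR₁ ≤ RingHom.ker qR₂ := by rw [hkR₁, hkR₂]; exact hII'
  have hleA : RingHom.ker qA₁ ≤ RingHom.ker qA₂ := by
    rw [hkA₁, hkA₂]; exact Ideal.map_mono hII'
  have hleΛ : RingHom.ker qΛ₁ ≤ RingHom.ker qΛ₂ := by
    rw [hkΛ₁, hkΛ₂]; exact Ideal.map_mono hII'
  let pR : R₁ →+* R₂ := qR₁.liftOfSurjective hqR₁ ⟨qR₂, hleR⟩
  let pA : A₁ →+* A₂ := qA₁.liftOfSurjective hqA₁ ⟨qA₂, hleA⟩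
  let pΛ : Λ₁ →+* Λ₂ := qΛ₁.liftOfSurjective hqΛ₁ ⟨qΛ₂, hleΛ⟩
  have hpR : ∀ x, pR (qR₁ x) = qR₂ x := fun x =>
    RingHom.liftOfSurjective_comp_apply qR₁ hqR₁ ⟨qR₂, hleR⟩ x
  have hpA : ∀ x, pA (qA₁ x) = qA₂ x := fun x =>
    RingHom.liftOfSurjective_comp_apply qA₁ hqA₁ ⟨qA₂, hleA⟩ x
  have hpΛ : ∀ x, pΛ (qΛ₁ x) = qΛ₂ x := fun x =>
    RingHom.liftOfSurjective_comp_apply qΛ₁ hqΛ₁ ⟨qΛ₂, hleΛ⟩ x
  have hsR : Function.Surjective pR := fun y => by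
    obtain ⟨x, rfl⟩ := hqR₂ y; exact ⟨qR₁ x, hpR x⟩
  have hsA : Function.Surjective pA := fun y => by
    obtain ⟨x, rfl⟩ := hqA₂ y; exact ⟨qA₁ x, hpA x⟩
  have hsΛ : Function.Surjective pΛ := fun y => by
    obtain ⟨x, rfl⟩ := hqΛ₂ y; exact ⟨qΛ₁ x, hpΛ x⟩
  have hkR : RingHom.ker pR = Ideal.span {qR₁ p ^ 8} := by
    rw [← map_pow]
    exact ker_lift qR₁ qR₂ hqR₁ (p ^ 8) (by rw [hkR₂, hkR₁, hI']) hleR
  have hkA : RingHom.ker pA = Ideal.span {algebraMap R₁ A₁ (qR₁ p ^ 8)} := by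
    rw [← map_pow, ← hcA₁]
    exact ker_lift qA₁ qA₂ hqA₁ (algebraMap R A (p ^ 8))
      (by rw [hkA₂, hkA₁, hI', Ideal.map_sup, Ideal.map_span, Set.image_singleton]) hleA
  have hkΛ : RingHom.ker pΛ = Ideal.span {algebraMap R₁ Λ₁ (qR₁ p ^ 8)} := by
    rw [← map_pow, ← hcΛ₁]
    exact ker_lift qΛ₁ qΛ₂ hqΛ₁ (algebraMap R Λ (p ^ 8))
      (by rw [hkΛ₂, hkΛ₁, hI', Ideal.map_sup, Ideal.map_span, Set.image_singleton]) hleΛ
  have hcA : ∀ r, pA (algebraMap R₁ A₁ r) = algebraMap R₂ A₂ (pR r) := by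
    intro r
    obtain ⟨r, rfl⟩ := hqR₁ r
    rw [← hcA₁, hpA, hpR, hcA₂]
  have hcΛ : ∀ r, pΛ (algebraMap R₁ Λ₁ r) = algebraMap R₂ Λ₂ (pR r) := by
    intro r
    obtain ⟨r, rfl⟩ := hqR₁ r
    rw [← hcΛ₁, hpΛ, hpR, hcΛ₂]
  have hcφ : ∀ a, pΛ (φ₁ a) = φ₂ (pA a) := by
    intro a
    obtain ⟨a, rfl⟩ := hqA₁ a
    rw [hcφ₁, hpΛ, hpA, hcφ₂]
  -- the prime
  have hk𝔮 : RingHom.ker qΛ₁ ≤ 𝔮 := by
    rw [hkΛ₁]; exact (Ideal.map_mono hII').trans hI𝔮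
  haveI : (𝔮.map qΛ₁).IsPrime := Ideal.map_isPrime_of_surjective hqΛ₁ hk𝔮
  have h𝔮₂ : (𝔮.map qΛ₁).map pΛ = 𝔮.map qΛ₂ := by
    rw [Ideal.map_map]
    congr 1
    exact RingHom.ext hpΛ
  rw [← h𝔮₂] at hres
  -- the tensor product model
  letI : Algebra R R₁ := qR₁.toAlgebra
  letI : Algebra R A₁ := ((algebraMap R₁ A₁).comp qR₁).toAlgebra
  haveI : IsScalarTower R R₁ A₁ := IsScalarTower.of_algebraMap_eq (fun _ => rfl)
  let qA' : A →ₐ[R] A₁ := { qA₁ with commutes' := fun r => hcA₁ r }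
  let e : R₁ ⊗[R] A →ₐ[R₁] A₁ :=
    Algebra.TensorProduct.lift (Algebra.ofId R₁ A₁) qA' (fun _ _ => Commute.all _ _)
  have h1 : ∀ t : R, (1 : R₁) ⊗ₜ[R] (algebraMap R A t) = (qR₁ t) ⊗ₜ[R] (1 : A) := by
    intro t
    rw [Algebra.algebraMap_eq_smul_one, ← TensorProduct.smul_tmul, Algebra.smul_def, mul_one]
    rfl
  let ι : A →+* R₁ ⊗[R] A := (Algebra.TensorProduct.includeRight : A →ₐ[R] R₁ ⊗[R] A).toRingHom
  have hι : RingHom.ker qA₁ ≤ RingHom.ker ι := by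
    rw [hkA₁, Ideal.map_le_iff_le_comap]
    intro t ht
    rw [Ideal.mem_comap, RingHom.mem_ker]
    change (1 : R₁) ⊗ₜ[R] (algebraMap R A t) = 0
    rw [h1]
    have : qR₁ t = 0 := by
      rw [← hkR₁] at ht
      exact RingHom.mem_ker.1 ht
    rw [this, TensorProduct.zero_tmul]
  let e₀ : A₁ →+* R₁ ⊗[R] A := qA₁.liftOfSurjective hqA₁ ⟨ι, hι⟩
  have he₀ : ∀ x, e₀ (qA₁ x) = (1 : R₁) ⊗ₜ[R] x := fun x =>
    RingHom.liftOfSurjective_comp_apply qA₁ hqA₁ ⟨ι, hι⟩ x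
  let e' : A₁ →ₐ[R₁] R₁ ⊗[R] A :=
    { e₀ with
      commutes' := fun s => by
        obtain ⟨t, rfl⟩ := hqR₁ s
        change e₀ (algebraMap R₁ A₁ (qR₁ t)) = _
        rw [← hcA₁, he₀, h1]
        rfl }
  have hee : ∀ a, e (e' a) = a := by
    intro a
    obtain ⟨a, rfl⟩ := hqA₁ a
    change e (e₀ (qA₁ a)) = _
    rw [he₀]
    change Algebra.TensorProduct.lift (Algebra.ofId R₁ A₁) qA' _ ((1 : R₁) ⊗ₜ[R] a) = _
    rw [Algebra.TensorProduct.lift_tmul, map_one, one_mul]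
    rfl
  have hstd' : IsStrictlyStandard R₁ (R₁ ⊗[R] A) (algebraMap R₁ (R₁ ⊗[R] A) (qR₁ p)) := by
    refine Groth.Agent.Lib.Helper57.SSBaseChange.ss_baseChange R₁ (algebraMap R A p) hstd _ ?_
    rw [h1]
    rfl
  have hΛ' : ∀ x : Λ₁, qR₁ p ^ 2 • x = 0 → qR₁ p • x = 0 := by
    intro x hx
    rw [Algebra.smul_def, map_pow, ← hcΛ₁] at hx
    rw [Algebra.smul_def, ← hcΛ₁]
    exact hΛ x hx
  exact Groth.Agent.Lib.Helper57.S6822Step.step e e' hee φ₁ φ₂ (𝔮.map qΛ₁) pR pA pΛ hsR hsA hsΛ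
    (qR₁ p) hkR hkA hkΛ hcA hcΛ hcφ hR hΛ' hstd' hres

end Groth.Agent.Lib.Helper57.S6822U
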