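/-
helper57: horn filling in simplicial groups (Moore's theorem), abstract ℕ-indexed form,
with a multiplicative and an additive version, and with the filler lying in a prescribed
family of subgroups stable under faces and degeneracies.
-/
import Mathlib

set_option autoImplicit false

namespace Groth.Agent.Lib.Helper57.SimplicialGroupKan

/-- Abstract horn filling.  `G2, G1, G0` are three consecutive levels of a simplicial group,
`D1 j : G2 → G1` (`j < N`) and `D0 j : G1 → G0` (`j < N - 1`) the faces,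
`S1 j : G1 → G2` (`j < N - 1`) and `S0 j : G0 → G1` the degeneracies.
Given `x j ∈ G1` for `j < N`, `j ≠ k`, compatible, there is `y ∈ G2` with `D1 j y = x j`. -/
@[to_additive exists_filler_add]
theorem exists_filler {G0 G1 G2 : Type*} [Group G0] [Group G1] [Group G2] (N : ℕ)
    (D1 : ℕ → G2 →* G1) (D0 : ℕ → G1 →* G0) (S1 : ℕ → G1 →* G2) (S0 : ℕ → G0 →* G1)
    (dd : ∀ i j, i < j → j < N → ∀ y, D0 i (D1 j y) = D0 (j - 1) (D1 i y))
    (ds_lt : ∀ i j, i < j → j + 1 < N → ∀ y, D1 i (S1 j y) = S0 (j - 1) (D0 i y))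
    (ds_self : ∀ j, j + 1 < N → ∀ y, D1 j (S1 j y) = y)
    (ds_succ : ∀ j, j + 1 < N → ∀ y, D1 (j + 1) (S1 j y) = y)
    (ds_gt : ∀ i j, j + 1 < i → i < N → ∀ y, D1 i (S1 j y) = S0 j (D0 (i - 1) y))
    (H1 : Subgroup G1) (H2 : Subgroup G2)
    (hD : ∀ j y, y ∈ H2 → D1 j y ∈ H1) (hS : ∀ j y, y ∈ H1 → S1 j y ∈ H2)
    (k : ℕ) (hk : k < N) (x : ℕ → G1) (hx : ∀ j, j < N → j ≠ k → x j ∈ H1)
    (compat : ∀ i j, i < j → j < N → i ≠ k → j ≠ k → D0 i (x j) = D0 (j - 1) (x i)) :
    ∃ y ∈ H2, ∀ j, j < N → j ≠ k → D1 j y = x j := by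
  -- Phase 1
  have phase1 : ∀ r, r ≤ k → ∃ u ∈ H2, ∀ j, j < r → D1 j u = x j := by
    intro r
    induction r with
    | zero => intro _; exact ⟨1, H2.one_mem, fun j hj => absurd hj (Nat.not_lt_zero j)⟩
    | succ r ih =>
      intro hr
      obtain ⟨u, huH, hu⟩ := ih (by omega)
      have hrk : r ≠ k := by omega
      have hrN : r + 1 < N := by omega
      refine ⟨u * (S1 r (D1 r u))⁻¹ * S1 r (x r), ?_, ?_⟩
      · exact H2.mul_mem (H2.mul_mem huH (H2.inv_mem (hS _ _ (hD _ _ huH))))
          (hS _ _ (hx r (by omega) hrk))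
      · intro j hj
        rcases Nat.lt_succ_iff_lt_or_eq.1 hj with hjr | rfl
        · have h1 : D0 j (D1 r u) = D0 j (x r) := by
            rw [dd j r hjr (by omega), hu j hjr, compat j r hjr (by omega) (by omega) hrk]
          rw [map_mul, map_mul, map_inv, ds_lt j r hjr hrN, ds_lt j r hjr hrN, h1, hu j hjr,
            inv_mul_cancel_right]
        · rw [map_mul, map_mul, map_inv, ds_self j hrN, ds_self j hrN, mul_inv_cancel, one_mul]
  -- Phase 2
  have phase2 : ∀ t, t + k + 1 ≤ N → ∃ w ∈ H2, (∀ j, j < k → D1 j w = x j) ∧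
      (∀ j, N - t ≤ j → j < N → D1 j w = x j) := by
    intro t
    induction t with
    | zero =>
      intro _
      obtain ⟨u, huH, hu⟩ := phase1 k le_rfl
      exact ⟨u, huH, hu, fun j h1 h2 => by omega⟩
    | succ t ih =>
      intro ht
      obtain ⟨w, hwH, hw1, hw2⟩ := ih (by omega)
      obtain ⟨r, hr⟩ : ∃ r, r + 1 = N - 1 - t := ⟨N - 1 - t - 1, by omega⟩
      -- the new index is `r + 1`
      have hrk : k < r + 1 := by omega
      have hrN : r + 1 < N := by omega
      refine ⟨w * (S1 r (D1 (r + 1) w))⁻¹ * S1 r (x (r + 1)), ?_, ?_, ?_⟩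
      · exact H2.mul_mem (H2.mul_mem hwH (H2.inv_mem (hS _ _ (hD _ _ hwH))))
          (hS _ _ (hx (r + 1) hrN (by omega)))
      · intro j hj
        have hjr : j < r := by omega
        have h1 : D0 j (D1 (r + 1) w) = D0 j (x (r + 1)) := by
          rw [dd j (r + 1) (by omega) hrN, hw1 j hj,
            compat j (r + 1) (by omega) hrN (by omega) (by omega)]
        rw [map_mul, map_mul, map_inv, ds_lt j r hjr hrN, ds_lt j r hjr hrN, h1, hw1 j hj,
          inv_mul_cancel_right]
      · intro j hj1 hj2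
        rcases Nat.lt_or_ge (r + 1) j with hlt | hge
        · have hwj : D1 j w = x j := hw2 j (by omega) hj2
          have h1 : D0 (j - 1) (D1 (r + 1) w) = D0 (j - 1) (x (r + 1)) := by
            rw [← dd (r + 1) j hlt hj2, hwj,
              compat (r + 1) j hlt hj2 (by omega) (by omega)]
          rw [map_mul, map_mul, map_inv, ds_gt j r hlt hj2, ds_gt j r hlt hj2, h1, hwj,
            inv_mul_cancel_right]
        · have hj : j = r + 1 := by omega
          subst hj
          rw [map_mul, map_mul, map_inv, ds_succ r hrN, ds_succ r hrN, mul_inv_cancel, one_mul]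
  obtain ⟨w, hwH, hw1, hw2⟩ := phase2 (N - 1 - k) (by omega)
  refine ⟨w, hwH, fun j hj hjk => ?_⟩
  rcases Nat.lt_or_ge j k with h | h
  · exact hw1 j h
  · exact hw2 j (by omega) hj

end Groth.Agent.Lib.Helper57.SimplicialGroupKan
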