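/-
helper57: simplicial abelian groups: ℕ-indexed faces/degeneracies with the simplicial identities,
and relative horn filling for degreewise surjective maps (explicit family version).
-/
import Mathlib
import Groth.Agent.Lib.Helper57.SimplicialGroupKan

set_option autoImplicit false
universe u

open CategoryTheory Simplicial Opposite
open Groth.Agent.Lib.Helper57.SimplicialGroupKan

namespace Groth.Agent.Lib.Helper57.SimplicialAbKan

section Inst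

variable (X : SimplicialObject AddCommGrpCat.{u})

/-- ℕ-indexed faces. -/
noncomputable def D (m : ℕ) (j : ℕ) : X _⦋m + 1⦌ →+ X _⦋m⦌ :=
  if h : j < m + 2 then (X.δ ⟨j, h⟩).hom else 0

/-- ℕ-indexed degeneracies. -/
noncomputable def S (m : ℕ) (j : ℕ) : X _⦋m⦌ →+ X _⦋m + 1⦌ :=
  if h : j < m + 1 then (X.σ ⟨j, h⟩).hom else 0

theorem D_of_lt (m j : ℕ) (h : j < m + 2) : D X m j = (X.δ ⟨j, h⟩).hom := dif_pos h

theorem S_of_lt (m j : ℕ) (h : j < m + 1) : S X m j = (X.σ ⟨j, h⟩).hom := dif_pos h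

theorem dd (m : ℕ) (i j : ℕ) (hij : i < j) (hj : j < m + 3) (y : X _⦋m + 2⦌) :
    D X m i (D X (m + 1) j y) = D X m (j - 1) (D X (m + 1) i y) := by
  obtain ⟨j, rfl⟩ : ∃ j', j = j' + 1 := ⟨j - 1, by omega⟩
  rw [Nat.add_sub_cancel, D_of_lt X m i (by omega), D_of_lt X (m + 1) (j + 1) hj,
    D_of_lt X m j (by omega), D_of_lt X (m + 1) i (by omega)]
  have H : (⟨i, by omega⟩ : Fin (m + 2)) ≤ ⟨j, by omega⟩ := by
    rw [Fin.mk_le_mk]; omega
  have := congrArg (fun φ => φ.hom y) (X.δ_comp_δ H)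
  exact this

theorem ds_lt (m : ℕ) (i j : ℕ) (hij : i < j) (hj : j + 1 < m + 3) (y : X _⦋m + 1⦌) :
    D X (m + 1) i (S X (m + 1) j y) = S X m (j - 1) (D X m i y) := by
  obtain ⟨j, rfl⟩ : ∃ j', j = j' + 1 := ⟨j - 1, by omega⟩
  rw [Nat.add_sub_cancel, D_of_lt X (m + 1) i (by omega), S_of_lt X (m + 1) (j + 1) (by omega),
    S_of_lt X m j (by omega), D_of_lt X m i (by omega)]
  have H : (⟨i, by omega⟩ : Fin (m + 2)) ≤ Fin.castSucc (⟨j, by omega⟩ : Fin (m + 1)) := by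
    rw [Fin.le_def]; simp; omega
  have := congrArg (fun φ => φ.hom y) (X.δ_comp_σ_of_le H)
  exact this

theorem ds_self (m : ℕ) (j : ℕ) (hj : j + 1 < m + 3) (y : X _⦋m + 1⦌) :
    D X (m + 1) j (S X (m + 1) j y) = y := by
  rw [D_of_lt X (m + 1) j (by omega), S_of_lt X (m + 1) j (by omega)]
  have := congrArg (fun φ => φ.hom y) (X.δ_comp_σ_self (i := (⟨j, by omega⟩ : Fin (m + 2))))
  exact this

theorem ds_succ (m : ℕ) (j : ℕ) (hj : j + 1 < m + 3) (y : X _⦋m + 1⦌) :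
    D X (m + 1) (j + 1) (S X (m + 1) j y) = y := by
  rw [D_of_lt X (m + 1) (j + 1) (by omega), S_of_lt X (m + 1) j (by omega)]
  have := congrArg (fun φ => φ.hom y) (X.δ_comp_σ_succ (i := (⟨j, by omega⟩ : Fin (m + 2))))
  exact this

theorem ds_gt (m : ℕ) (i j : ℕ) (hji : j + 1 < i) (hi : i < m + 3) (y : X _⦋m + 1⦌) :
    D X (m + 1) i (S X (m + 1) j y) = S X m j (D X m (i - 1) y) := by
  obtain ⟨i, rfl⟩ : ∃ i', i = i' + 1 := ⟨i - 1, by omega⟩
  rw [Nat.add_sub_cancel, D_of_lt X (m + 1) (i + 1) (by omega), S_of_lt X (m + 1) j (by omega),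
    S_of_lt X m j (by omega), D_of_lt X m i (by omega)]
  have H : Fin.castSucc (⟨j, by omega⟩ : Fin (m + 1)) < (⟨i, by omega⟩ : Fin (m + 2)) := by
    rw [Fin.lt_def]; simp; omega
  have := congrArg (fun φ => φ.hom y) (X.δ_comp_σ_of_gt H)
  exact this

end Inst

section Lift

variable {X Y : SimplicialObject AddCommGrpCat.{u}} (f : X ⟶ Y)

theorem f_δ {n : ℕ} (j : Fin (n + 2)) (y : X _⦋n + 1⦌) :
    (f.app (op ⦋n⦌)).hom ((X.δ j).hom y) = (Y.δ j).hom ((f.app (op ⦋n + 1⦌)).hom y) :=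
  congrArg (fun φ => φ.hom y) (SimplicialObject.δ_naturality f j)

theorem f_σ {n : ℕ} (j : Fin (n + 1)) (y : X _⦋n⦌) :
    (f.app (op ⦋n + 1⦌)).hom ((X.σ j).hom y) = (Y.σ j).hom ((f.app (op ⦋n⦌)).hom y) :=
  congrArg (fun φ => φ.hom y) (SimplicialObject.σ_naturality f j)


/-- Relative horn filling, dimension `≥ 2`, explicit family version. -/
theorem exists_lift_family (hf : ∀ n : SimplexCategoryᵒᵖ, Function.Surjective (f.app n))
    (m : ℕ) (i : Fin (m + 3)) (xx : ∀ (j : Fin (m + 3)), j ≠ i → X _⦋m + 1⦌)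
    (hcompat : ∀ (j k : Fin (m + 3)) (hj : j ≠ i) (hk : k ≠ i) (hjk : j < k),
      (X.δ (k.pred (Fin.ne_zero_of_lt hjk))).hom (xx j hj) =
        (X.δ (j.castPred (Fin.ne_last_of_lt hjk))).hom (xx k hk))
    (yb : Y _⦋m + 2⦌)
    (h : ∀ (j : Fin (m + 3)) (hj : j ≠ i), (f.app (op ⦋m + 1⦌)).hom (xx j hj) = (Y.δ j).hom yb) :
    ∃ y : X _⦋m + 2⦌, (f.app (op ⦋m + 2⦌)).hom y = yb ∧
      ∀ (j : Fin (m + 3)) (hj : j ≠ i), (X.δ j).hom y = xx j hj := by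
  obtain ⟨xt, hxt⟩ := hf (op ⦋m + 2⦌) yb
  have hxt' : (f.app (op ⦋m + 2⦌)).hom xt = yb := hxt
  let z : ℕ → X _⦋m + 1⦌ := fun j =>
    if h : j < m + 3 then
      (if h' : (⟨j, h⟩ : Fin (m + 3)) = i then 0
        else xx ⟨j, h⟩ h' - (X.δ ⟨j, h⟩).hom xt)
    else 0
  have hz : ∀ (j : Fin (m + 3)) (hj : j ≠ i), z j.val = xx j hj - (X.δ j).hom xt := by
    intro j hj
    simp only [z, dif_pos j.isLt, Fin.eta, dif_neg hj]
  have compat : ∀ a b, a < b → b < m + 3 → a ≠ i.val → b ≠ i.val →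
      D X m a (z b) = D X m (b - 1) (z a) := by
    intro a b hab hb hai hbi
    obtain ⟨b, rfl⟩ : ∃ b', b = b' + 1 := ⟨b - 1, by omega⟩
    have haN : a < m + 3 := by omega
    have hai' : (⟨a, haN⟩ : Fin (m + 3)) ≠ i := fun h => hai (by rw [← h])
    have hbi' : (⟨b + 1, hb⟩ : Fin (m + 3)) ≠ i := fun h => hbi (by rw [← h])
    have hlt : (⟨a, haN⟩ : Fin (m + 3)) < ⟨b + 1, hb⟩ := by rw [Fin.mk_lt_mk]; exact hab
    have h2 := hcompat ⟨a, haN⟩ ⟨b + 1, hb⟩ hai' hbi' hlt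
    have h2' : (X.δ (⟨b, by omega⟩ : Fin (m + 2))).hom (xx ⟨a, haN⟩ hai') =
        (X.δ (⟨a, by omega⟩ : Fin (m + 2))).hom (xx ⟨b + 1, hb⟩ hbi') := h2
    have h3 := dd X m a (b + 1) hab hb xt
    rw [Nat.add_sub_cancel, D_of_lt X m a (by omega), D_of_lt X (m + 1) (b + 1) hb,
      D_of_lt X m b (by omega), D_of_lt X (m + 1) a (by omega)] at h3
    rw [Nat.add_sub_cancel, D_of_lt X m a (by omega), D_of_lt X m b (by omega)]
    have e1 := hz ⟨a, haN⟩ hai'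
    have e2 := hz ⟨b + 1, hb⟩ hbi'
    simp only at e1 e2
    rw [e1, e2, map_sub, map_sub, h2', h3]
  let H1 : AddSubgroup (X _⦋m + 1⦌) := (f.app (op ⦋m + 1⦌)).hom.ker
  let H2 : AddSubgroup (X _⦋m + 2⦌) := (f.app (op ⦋m + 2⦌)).hom.ker
  have hD : ∀ j y, y ∈ H2 → D X (m + 1) j y ∈ H1 := by
    intro j y hy
    by_cases hj : j < m + 3
    · rw [D_of_lt X (m + 1) j hj]
      change (f.app (op ⦋m + 1⦌)).hom _ = 0
      rw [f_δ]
      have : (f.app (op ⦋m + 2⦌)).hom y = 0 := hy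
      rw [this, map_zero]
    · have : D X (m + 1) j = 0 := dif_neg hj
      rw [this]; exact H1.zero_mem
  have hS : ∀ j y, y ∈ H1 → S X (m + 1) j y ∈ H2 := by
    intro j y hy
    by_cases hj : j < m + 2
    · rw [S_of_lt X (m + 1) j hj]
      change (f.app (op ⦋m + 2⦌)).hom _ = 0
      rw [f_σ]
      have : (f.app (op ⦋m + 1⦌)).hom y = 0 := hy
      rw [this, map_zero]
    · have : S X (m + 1) j = 0 := dif_neg hj
      rw [this]; exact H2.zero_mem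
  have hzH : ∀ j, j < m + 3 → j ≠ i.val → z j ∈ H1 := by
    intro j hj hji
    have hji' : (⟨j, hj⟩ : Fin (m + 3)) ≠ i := fun h => hji (by rw [← h])
    have e := hz ⟨j, hj⟩ hji'
    simp only at e
    rw [e]
    change (f.app (op ⦋m + 1⦌)).hom _ = 0
    rw [map_sub, f_δ, hxt', h ⟨j, hj⟩ hji', sub_self]
  obtain ⟨w, hwH, hw⟩ := exists_filler_add (m + 3) (D X (m + 1)) (D X m) (S X (m + 1)) (S X m)
    (dd X m) (ds_lt X m) (ds_self X m) (ds_succ X m) (ds_gt X m) H1 H2 hD hS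
    i.val i.isLt z hzH compat
  refine ⟨xt + w, ?_, ?_⟩
  · have : (f.app (op ⦋m + 2⦌)).hom w = 0 := hwH
    rw [map_add, this, add_zero, hxt']
  · intro j hj
    have h1 := hw j.val j.isLt (fun h => hj (Fin.ext h))
    rw [D_of_lt X (m + 1) j.val j.isLt, hz j hj] at h1
    have h1' : (X.δ j).hom w = xx j hj - (X.δ j).hom xt := h1
    rw [map_add, h1']
    abel

/-- Relative horn filling in dimension `1`: prescribe one face. -/
theorem exists_lift_one (hf : ∀ n : SimplexCategoryᵒᵖ, Function.Surjective (f.app n))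
    (j₀ : Fin 2) (x₀ : X _⦋0⦌) (yb : Y _⦋0 + 1⦌)
    (h : (f.app (op ⦋0⦌)).hom x₀ = (Y.δ j₀).hom yb) :
    ∃ y : X _⦋0 + 1⦌, (f.app (op ⦋0 + 1⦌)).hom y = yb ∧ (X.δ j₀).hom y = x₀ := by
  obtain ⟨xt, hxt⟩ := hf (op ⦋0 + 1⦌) yb
  have hxt' : (f.app (op ⦋0 + 1⦌)).hom xt = yb := hxt
  set z₀ : X _⦋0⦌ := x₀ - (X.δ j₀).hom xt with hz₀
  have hz₀f : (f.app (op ⦋0⦌)).hom z₀ = 0 := by
    rw [hz₀, map_sub, f_δ, hxt', h, sub_self]
  refine ⟨xt + (X.σ (0 : Fin 1)).hom z₀, ?_, ?_⟩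
  · rw [map_add, f_σ, hz₀f, map_zero, add_zero, hxt']
  · have h0 : (X.δ (0 : Fin 2)).hom ((X.σ (0 : Fin 1)).hom z₀) = z₀ :=
      congrArg (fun φ => φ.hom z₀) (X.δ_comp_σ_self (i := (0 : Fin 1)))
    have h1 : (X.δ (1 : Fin 2)).hom ((X.σ (0 : Fin 1)).hom z₀) = z₀ :=
      congrArg (fun φ => φ.hom z₀) (X.δ_comp_σ_succ (i := (0 : Fin 1)))
    have hd : (X.δ j₀).hom ((X.σ (0 : Fin 1)).hom z₀) = z₀ := by
      fin_cases j₀
      · exact h0
      · exact h1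
    rw [map_add, hd, hz₀]
    abel

end Lift

end Groth.Agent.Lib.Helper57.SimplicialAbKan
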