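import Mathlib.RingTheory.WittVector.Truncated
import Mathlib.RingTheory.Ideal.Quotient.Basic
import Mathlib.RingTheory.Ideal.Maps
import Mathlib.Algebra.BigOperators.Fin
import Mathlib.Tactic.Ring
import Mathlib.Tactic.LinearCombination

/-!
Helper lemmas (helper57) on the map `θ : W_n(B/p) → B`, `(x_i) ↦ Σ p^i x_i^(p^(n-i))`,
when the `p`-th power map of `B/p` is surjective.
-/

set_option autoImplicit false
universe u

namespace Groth.Agent.Lib.Helper57

/-- Iterated surjectivity of Frobenius on `B/p`: every `b` is a `p^m`-th power modulo `p`. -/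
theorem exists_pow_sub_mem_span_p (p : ℕ) {B : Type u} [CommRing B]
    (hF : Function.Surjective (fun y : B ⧸ (Ideal.span {(p : B)}) => y ^ p)) (m : ℕ) (b : B) :
    ∃ u : B, b - u ^ (p ^ m) ∈ Ideal.span {(p : B)} := by
  induction m generalizing b with
  | zero => exact ⟨b, by simp⟩
  | succ m ih =>
    obtain ⟨ybar, hy⟩ := hF (Ideal.Quotient.mk _ b)
    obtain ⟨y, rfl⟩ := Ideal.Quotient.mk_surjective ybar
    obtain ⟨u, hu⟩ := ih y
    refine ⟨u, ?_⟩
    rw [← Ideal.Quotient.eq] at hu ⊢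
    have hy' : (Ideal.Quotient.mk (Ideal.span {(p : B)}) y) ^ p = Ideal.Quotient.mk _ b := hy
    rw [← hy', hu, map_pow, map_pow, ← pow_mul, pow_succ]

/-- Successive approximation: any `b` is `Σ_{i<k} p^i x_i^(p^(n-i))` modulo `p^k`. -/
theorem exists_sum_sub_mem_span_p_pow (p : ℕ) {B : Type u} [CommRing B]
    (hF : Function.Surjective (fun y : B ⧸ (Ideal.span {(p : B)}) => y ^ p)) (n k : ℕ) (b : B) :
    ∃ x : ℕ → B, b - ∑ i ∈ Finset.range k, (p : B) ^ i * (x i) ^ (p ^ (n - i)) ∈
      Ideal.span {(p : B) ^ k} := by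
  classical
  induction k with
  | zero => exact ⟨fun _ => 0, by simp⟩
  | succ k ih =>
    obtain ⟨x, hx⟩ := ih
    obtain ⟨y, hy⟩ := Ideal.mem_span_singleton'.mp hx
    obtain ⟨u, hu⟩ := exists_pow_sub_mem_span_p p hF (n - k) y
    obtain ⟨z, hz⟩ := Ideal.mem_span_singleton'.mp hu
    refine ⟨Function.update x k u, ?_⟩
    rw [Finset.sum_range_succ, Function.update_self]
    have hsum : ∑ i ∈ Finset.range k, (p : B) ^ i * (Function.update x k u i) ^ (p ^ (n - i)) =
        ∑ i ∈ Finset.range k, (p : B) ^ i * (x i) ^ (p ^ (n - i)) := by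
      refine Finset.sum_congr rfl fun i hi => ?_
      rw [Function.update_of_ne (Finset.mem_range.mp hi).ne]
    rw [hsum]
    refine Ideal.mem_span_singleton'.mpr ⟨z, ?_⟩
    rw [pow_succ]
    linear_combination (p : B) ^ k * hz + hy

end Groth.Agent.Lib.Helper57
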